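import Groth.Agent.ParaLift82.Main
import Groth.Agent.LocCohBase.CM

/-!
# Regular triples and depth; free associated graded modules
-/

set_option autoImplicit false
universe u

open IsLocalRing RingTheory.Sequence

namespace Groth.ParaLift82

variable {B : Type u} [CommRing B]

theorem isWeaklyRegular_three_iff {x y w : B} :
    IsWeaklyRegular B [x, y, w] ↔ RegTriple (⊥ : Ideal B) x y w := by
  have key : ∀ (l : List B) (r : B), IsSMulRegular (B ⧸ (Ideal.ofList l • ⊤ : Submodule B B)) r ↔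
      ∀ z, r * z ∈ Ideal.ofList l → z ∈ Ideal.ofList l := fun l r => by
    rw [isSMulRegular_quotient_iff_mem_of_smul_mem]
    simp only [smul_eq_mul, Ideal.mul_top]
  have h1 : Ideal.ofList [x] = ⊥ ⊔ Ideal.span {x} := by simp [Ideal.ofList]
  have h2 : Ideal.ofList [x, y] = ⊥ ⊔ Ideal.span {x} ⊔ Ideal.span {y} := by
    rw [Ideal.ofList_cons, Ideal.ofList_singleton, bot_sup_eq]
  rw [isWeaklyRegular_iff_Fin]
  constructor
  · intro h
    refine ⟨⟨?_, ?_⟩, ?_⟩
    · have h0 := (key _ _).1 (h ⟨0, by simp⟩)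
      simp only [List.take_zero, Ideal.ofList_nil] at h0
      exact h0
    · exact h1 ▸ (key [x] y).1 (h ⟨1, by simp⟩)
    · exact h2 ▸ (key [x, y] w).1 (h ⟨2, by simp⟩)
  · rintro ⟨⟨hx, hy⟩, hw⟩ ⟨i, hi⟩
    rcases i with _ | _ | _ | i
    · refine (key [] x).2 ?_
      simp only [Ideal.ofList_nil]
      exact hx
    · exact (key [x] y).2 (h1.symm ▸ hy)
    · exact (key [x, y] w).2 (h2.symm ▸ hw)
    · simp at hi; omega

theorem three_le_depth [IsLocalRing B] [IsNoetherianRing B] {x y w : B} (hxm : x ∈ maximalIdeal B)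
    (hym : y ∈ maximalIdeal B) (hwm : w ∈ maximalIdeal B) (h : RegTriple (⊥ : Ideal B) x y w) :
    (3 : ℕ∞) ≤ LocCoh.depth B B := by
  refine (Groth.LocCohBase.le_idealDepth_iff_exists _
    (Groth.LocCohBase.smul_maximalIdeal_ne_top B (maximalIdeal.isMaximal B).ne_top) 3).2
    ⟨[x, y, w], rfl, isWeaklyRegular_three_iff.2 h, ?_⟩
  rintro r hr
  simp only [List.mem_cons, List.not_mem_nil, or_false] at hr
  rcases hr with rfl | rfl | rfl <;> assumption

theorem exists_regTriple [IsLocalRing B] [IsNoetherianRing B] {J : Ideal B} [IsLocalRing (B ⧸ J)]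
    (hd : (3 : ℕ∞) ≤ LocCoh.depth (B ⧸ J) (B ⧸ J)) :
    ∃ x y w : B, x ∈ maximalIdeal B ∧ y ∈ maximalIdeal B ∧ w ∈ maximalIdeal B ∧ RegTriple J x y w := by
  have := IsLocalHom.of_surjective (Ideal.Quotient.mk J) Ideal.Quotient.mk_surjective
  obtain ⟨rs, hlen, hrs, hm⟩ := (Groth.LocCohBase.le_idealDepth_iff_exists _
    (Groth.LocCohBase.smul_maximalIdeal_ne_top (B ⧸ J) (maximalIdeal.isMaximal (B ⧸ J)).ne_top) 3).1 hd
  match rs, hlen, hrs, hm with
  | [x', y', w'], _, hrs, hm =>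
    obtain ⟨x, rfl⟩ := Ideal.Quotient.mk_surjective x'
    obtain ⟨y, rfl⟩ := Ideal.Quotient.mk_surjective y'
    obtain ⟨w, rfl⟩ := Ideal.Quotient.mk_surjective w'
    have hmax : ∀ a : B, Ideal.Quotient.mk J a ∈ maximalIdeal (B ⧸ J) → a ∈ maximalIdeal B :=
      fun a ha hu => ha (hu.map _)
    obtain ⟨⟨hx, hy⟩, hw⟩ := isWeaklyRegular_three_iff.1 hrs
    refine ⟨x, y, w, hmax x (hm _ (by simp)), hmax y (hm _ (by simp)), hmax w (hm _ (by simp)),
      ⟨fun z hz => Ideal.Quotient.eq_zero_iff_mem.1 (hx _ (by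
        rw [Ideal.mem_bot, ← map_mul]; exact Ideal.Quotient.eq_zero_iff_mem.2 hz)), fun z hz => ?_⟩,
      fun z hz => ?_⟩
    · obtain ⟨c, hc⟩ := mem_sup_span.1 hz
      obtain ⟨d, hd⟩ := mem_sup_span.1 (hy (Ideal.Quotient.mk J z) (mem_sup_span.2
        ⟨Ideal.Quotient.mk J c, by
          rw [Ideal.mem_bot, ← map_mul, ← map_mul, ← map_sub]
          exact Ideal.Quotient.eq_zero_iff_mem.2 hc⟩))
      obtain ⟨d, rfl⟩ := Ideal.Quotient.mk_surjective d
      rw [Ideal.mem_bot, ← map_mul, ← map_sub] at hd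
      exact mem_sup_span.2 ⟨d, Ideal.Quotient.eq_zero_iff_mem.1 hd⟩
    · obtain ⟨q, hq⟩ := mem_sup_span.1 hz
      obtain ⟨p, hp⟩ := mem_sup_span.1 hq
      obtain ⟨d, hd⟩ := mem_sup_span.1 (hw (Ideal.Quotient.mk J z) (mem_sup_span.2
        ⟨Ideal.Quotient.mk J q, mem_sup_span.2 ⟨Ideal.Quotient.mk J p, by
          rw [Ideal.mem_bot, ← map_mul, ← map_mul, ← map_mul, ← map_sub, ← map_sub]
          exact Ideal.Quotient.eq_zero_iff_mem.2 hp⟩⟩))
      obtain ⟨d', hd'⟩ := mem_sup_span.1 hd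
      obtain ⟨d, rfl⟩ := Ideal.Quotient.mk_surjective d
      obtain ⟨d', rfl⟩ := Ideal.Quotient.mk_surjective d'
      rw [Ideal.mem_bot, ← map_mul, ← map_mul, ← map_sub, ← map_sub] at hd'
      exact mem_sup_span.2 ⟨d, mem_sup_span.2 ⟨d', Ideal.Quotient.eq_zero_iff_mem.1 hd'⟩⟩

theorem freeGr_of_free [IsNoetherianRing B] {J : Ideal B} (hJ : J ≤ Ideal.jacobson ⊥)
    (hgr : ∀ n : ℕ, Module.Free (B ⧸ J) (↥(J ^ n) ⧸ (J • (⊤ : Submodule B ↥(J ^ n))))) :
    FreeGr J := by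
  classical
  intro n
  rcases subsingleton_or_nontrivial (B ⧸ J) with hs | hs
  · have hJt : J = ⊤ := Ideal.Quotient.subsingleton_iff.1 hs
    refine ⟨1, fun _ => 1, by simp [hJt, Ideal.top_pow], fun c _ i => by simp [hJt]⟩
  let N : Submodule B ↥(J ^ n) := J • (⊤ : Submodule B ↥(J ^ n))
  have hmem : ∀ z : ↥(J ^ n), z ∈ N ↔ (z : B) ∈ J ^ (n + 1) := fun z => by
    have e : N.map (J ^ n).subtype = J ^ (n + 1) := by
      rw [Submodule.map_smul'', Submodule.map_subtype_top, smul_eq_mul, ← pow_succ']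
    refine ⟨fun h => e ▸ Submodule.mem_map_of_mem h, fun h => ?_⟩
    obtain ⟨a, ha, e'⟩ := Submodule.mem_map.1 (e.symm ▸ h)
    exact Subtype.ext e' ▸ ha
  have := hgr n
  let b₀ := Module.Free.chooseBasis (B ⧸ J) (↥(J ^ n) ⧸ N)
  have hfin : Module.Finite (B ⧸ J) (↥(J ^ n) ⧸ N) := Module.Finite.of_restrictScalars_finite B _ _
  let b := b₀.reindex (Fintype.equivFin _)
  choose e he using fun i => Submodule.Quotient.mk_surjective N (b i)
  have hsum : ∀ c : Fin _ → B,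
      Submodule.Quotient.mk (p := N) (∑ i, c i • e i) = ∑ i, Ideal.Quotient.mk J (c i) • b i := fun c => by
    rw [← Submodule.mkQ_apply, map_sum]
    exact Finset.sum_congr rfl fun i _ => by rw [map_smul, Submodule.mkQ_apply, he i]; rfl
  refine ⟨_, fun i => (e i : B), le_antisymm (Ideal.span_le.2 ?_) ?_, fun c hc i => ?_⟩
  · rintro _ ⟨i, rfl⟩; exact (e i).2
  · refine Submodule.le_of_le_smul_of_le_jacobson_bot (IsNoetherian.noetherian _) hJ fun z hz => ?_
    choose c hc using fun i => Ideal.Quotient.mk_surjective (b.repr (Submodule.Quotient.mk ⟨z, hz⟩) i)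
    have h1 : (⟨z, hz⟩ : ↥(J ^ n)) - ∑ i, c i • e i ∈ N := by
      rw [← Submodule.Quotient.eq, hsum]
      simp only [hc]
      exact (b.sum_repr _).symm
    rw [hmem] at h1
    rw [Submodule.mem_sup]
    refine ⟨∑ i, c i • (e i : B), Submodule.sum_mem _ fun i _ =>
      Submodule.smul_mem _ _ (Ideal.subset_span ⟨i, rfl⟩), z - ∑ i, c i • (e i : B), ?_, by simp⟩
    rw [smul_eq_mul, ← pow_succ']
    simpa using h1
  · have h1 : (∑ i, c i • e i) ∈ N := (hmem _).2 (by simpa using hc)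
    rw [← Submodule.Quotient.mk_eq_zero, hsum] at h1
    exact Ideal.Quotient.eq_zero_iff_mem.1 (Fintype.linearIndependent_iff.1 b.linearIndependent _ h1 i)

end Groth.ParaLift82

namespace Groth.ParaLift82

/-- A flat algebra inherits free graded pieces. -/
theorem FreeGr.map {A B : Type u} [CommRing A] [CommRing B] [Algebra A B] [Module.Flat A B]
    [IsNoetherianRing A] {I : Ideal A} (hI : FreeGr I) : FreeGr (I.map (algebraMap A B)) := by
  intro n
  obtain ⟨r, e, he, hu⟩ := hI n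
  refine ⟨r, fun i => algebraMap A B (e i), ?_, fun c hc i => ?_⟩
  · rw [← Ideal.map_pow, ← he, Ideal.map_span, ← Set.range_comp]
    rfl
  obtain ⟨m, f, hf⟩ := Submodule.fg_iff_exists_fin_generating_family.1
    (IsNoetherian.noetherian (I ^ (n + 1)))
  rw [← Ideal.map_pow, ← hf, Ideal.map_span, ← Set.range_comp] at hc
  obtain ⟨d, hd⟩ := Ideal.mem_span_range_iff_exists_fun.1 hc
  let a : Fin r ⊕ Fin m → A := Sum.elim e f
  let z : Fin r ⊕ Fin m → B := Sum.elim c (fun j => -d j)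
  have hz : ∑ l, a l • z l = 0 := by
    simp only [a, z, Fintype.sum_sum_type, Sum.elim_inl, Sum.elim_inr, Algebra.smul_def, mul_neg,
      Finset.sum_neg_distrib]
    rw [← sub_eq_add_neg, sub_eq_zero]
    simpa [mul_comm] using hd.symm
  obtain ⟨k, α, y, h1, h2⟩ := Module.Flat.isTrivialRelation_of_sum_smul_eq_zero hz
  have h3 : ∀ j i, α (Sum.inl i) j ∈ I := fun j => hu (fun i => α (Sum.inl i) j) (by
    have := h2 j
    simp only [a, Fintype.sum_sum_type, Sum.elim_inl, Sum.elim_inr] at this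
    rw [show (∑ i, α (Sum.inl i) j * e i) = -∑ i, f i * α (Sum.inr i) j by
      rw [eq_neg_iff_add_eq_zero, ← this]; simp [mul_comm], ← hf]
    exact Submodule.neg_mem _ (Ideal.sum_mem _ fun i _ =>
      Ideal.mul_mem_right _ _ (Ideal.subset_span ⟨i, rfl⟩)))
  have h4 := h1 (Sum.inl i)
  simp only [z, Sum.elim_inl] at h4
  rw [h4]
  exact Ideal.sum_mem _ fun j _ => by
    rw [Algebra.smul_def]
    exact Ideal.mul_mem_right _ _ (Ideal.mem_map_of_mem _ (h3 j i))

end Groth.ParaLift82
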