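import Groth.Agent.ParaLift82.Hypersurface
import Groth.Prelude.Def_SGA2
import Groth.Agent.S2834
import Groth.Agent.S2821
import Groth.Agent.S2473
import Groth.Agent.Calg1.CompletionLocal
import Groth.Agent.Calg1.CMCatenary
import Groth.Agent.Calg1.AnalyticallyUnramifiedN1
import Groth.Agent.Calg6.TorCM
import Groth.Agent.Ega4Algebra1.EquidimPolynomial
import Mathlib.RingTheory.Regular.Flat
import Mathlib.RingTheory.RingHom.Surjective
import Mathlib.RingTheory.KrullDimension.Regular

/-!
# Parafactoriality of complete intersections of dimension at least four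
-/

set_option autoImplicit false
universe u

open IsLocalRing RingTheory.Sequence

namespace Groth.ParaLift82

/-- `A` is the quotient of a regular local ring by a regular sequence of length `k`. -/
def CIPres (k : ℕ) (A : Type u) [CommRing A] : Prop :=
  ∃ (B : Type u) (_ : CommRing B) (_ : IsRegularLocalRing B) (π : B →+* A) (rs : List B),
    Function.Surjective π ∧ rs.length = k ∧ IsRegular B rs ∧ RingHom.ker π = Ideal.ofList rs

theorem ofList_le_maximalIdeal {B : Type u} [CommRing B] [IsLocalRing B] {rs : List B}
    (h : IsRegular B rs) : Ideal.ofList rs ≤ maximalIdeal B :=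
  IsLocalRing.le_maximalIdeal fun e => h.top_ne_smul (by rw [e, Submodule.top_smul])

theorem mem_maximalIdeal_of_regular {B : Type u} [CommRing B] [IsLocalRing B] {rs : List B}
    (h : IsRegular B rs) {x : B} (hx : x ∈ rs) : x ∈ maximalIdeal B :=
  ofList_le_maximalIdeal h (Ideal.subset_span hx)

theorem exists_ciPres (A : Type u) [CommRing A] [IsLocalRing A] (hA : SGA2.IsAbsCompleteIntersection A) :
    ∃ k, CIPres k A := by
  obtain ⟨B, _, _, rs, -, hreg, ⟨e⟩⟩ := hA
  exact ⟨rs.length, B, inferInstance, inferInstance, e.symm.toRingHom.comp (Ideal.Quotient.mk _), rs,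
    e.symm.surjective.comp Ideal.Quotient.mk_surjective, rfl, hreg,
    by rw [RingHom.ker_equiv_comp, Ideal.mk_ker]⟩

/-- Complete intersections localise. -/
theorem CIPres.atPrime {k : ℕ} {A : Type u} [CommRing A] (h : CIPres k A) (p : Ideal A) [p.IsPrime] :
    CIPres k (Localization.AtPrime p) := by
  obtain ⟨B, _, _, π, rs, hπ, hlen, hreg, hker⟩ := h
  have : IsRegularRing B := (Groth.Agent.S2473.isRegularRing_iff_local B).mpr inferInstance
  let P : Ideal B := p.comap π
  have : IsRegularLocalRing (Localization.AtPrime P) := IsRegularRing.isRegularLocalRing_localization P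
  have hM : P.primeCompl.map π = p.primeCompl := Submonoid.map_comap_eq_of_surjective hπ p.primeCompl
  refine ⟨Localization.AtPrime P, inferInstance, this, Localization.localRingHom P p π rfl,
    rs.map (algebraMap B _), RingHom.surjective_localRingHom_of_surjective π hπ p, by simpa using hlen,
    (IsLocalRing.isRegular_iff_isWeaklyRegular_of_subset_maximalIdeal fun x hx => ?_).mpr
      hreg.toIsWeaklyRegular.of_flat, ?_⟩
  · obtain ⟨y, hy, rfl⟩ := List.mem_map.mp hx
    rw [← Localization.AtPrime.map_eq_maximalIdeal]
    exact Ideal.mem_map_of_mem _ (Ideal.ker_le_comap π (hker ▸ Ideal.subset_span hy))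
  · rw [← Ideal.map_ofList, ← hker]
    exact IsLocalization.ker_map (S := Localization.AtPrime P) (Localization.AtPrime p) π hM

theorem support_self_eq_univ (R : Type u) [CommRing R] : Module.support R R = Set.univ := by
  rw [Module.support_eq_zeroLocus, (Module.annihilator_eq_bot).2 inferInstance, PrimeSpectrum.zeroLocus_bot]

theorem withBot_le_add_one (a : WithBot ℕ∞) : a ≤ a + 1 := le_add_of_nonneg_right zero_le_one

theorem isParafactorial_of_ciPres : ∀ (k : ℕ) (A : Type u) [CommRing A] [IsLocalRing A] [IsNoetherianRing A],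
    CIPres k A → (4 : WithBot ℕ∞) ≤ ringKrullDim A → ParaF.IsParafactorialLocalRing A := by
  intro k
  induction k with
  | zero =>
    intro A _ _ _ h hdim
    obtain ⟨B, _, _, π, rs, hπ, hlen, -, hker⟩ := h
    obtain rfl : rs = [] := List.eq_nil_of_length_eq_zero hlen
    rw [Ideal.ofList_nil] at hker
    let e : B ≃+* A := RingEquiv.ofBijective π ⟨(RingHom.injective_iff_ker_eq_bot π).2 hker, hπ⟩
    obtain ⟨_, hufd⟩ := Groth.Agent.S2821.result B
    rw [← ringKrullDim_eq_of_ringEquiv e] at hdim
    exact Groth.ParaFormal.FsReduce.parafactorial_of_ringEquiv e.symm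
      (Groth.Agent.S2834.result B hufd (le_trans (by norm_num) hdim))
  | succ k ih =>
    intro A _ _ _ h hdim
    obtain ⟨B, _, _, π, rs, hπ, hlen, hreg, hker⟩ := h
    rcases List.eq_nil_or_concat rs with rfl | ⟨rs', t, rfl⟩
    · simp at hlen
    rw [List.concat_eq_append] at hlen hreg hker
    have hlen' : rs'.length = k := by simpa using hlen
    -- completion of the regular ring
    let C := AdicCompletion (maximalIdeal B) B
    have : IsNoetherianRing C :=
      Groth.Calg1.isNoetherianRing_adicCompletion _ (IsNoetherian.noetherian (maximalIdeal B))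
    have : IsRegularLocalRing C := (Groth.Calg1.isRegularLocalRing_adicCompletion_iff B).1 inferInstance
    have : IsAdicComplete (maximalIdeal C) C := by
      rw [AdicCompletion.maximalIdeal_eq_map]
      exact (IsAdicComplete.map_algebraMap_iff _ _).mpr (AdicCompletion.isAdicComplete (IsNoetherian.noetherian _))
    have : IsLocalHom (algebraMap B C) := by
      refine ((IsLocalRing.local_hom_TFAE (algebraMap B C)).out 3 0).mp fun x hx => ?_
      rw [Ideal.mem_comap, AdicCompletion.maximalIdeal_eq_map]
      exact Ideal.mem_map_of_mem _ hx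
    have : Module.FaithfullyFlat B C := Module.FaithfullyFlat.of_flat_of_isLocalHom
    have hdimC : ringKrullDim C = ringKrullDim B := Groth.Calg1.ringKrullDim_adicCompletion B
    let φ : B →+* C := algebraMap B C
    let I : Ideal B := Ideal.ofList (rs' ++ [t])
    let J : Ideal C := Ideal.ofList (rs'.map φ)
    have hregC : IsRegular C ((rs' ++ [t]).map φ) := IsRegular.of_faithfullyFlat (S := C) hreg
    rw [List.map_append, List.map_singleton] at hregC
    have hIC : I.map φ = J ⊔ Ideal.span {φ t} := by
      simp only [I, J, Ideal.ofList_append, Ideal.ofList_singleton, Ideal.map_sup]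
      rw [Ideal.map_ofList, Ideal.map_span, Set.image_singleton]
    obtain ⟨hw1, hw2⟩ := (isWeaklyRegular_append_iff _ _ _).1 hregC.toIsWeaklyRegular
    have hreg' : IsRegular C (rs'.map φ) :=
      (IsLocalRing.isRegular_iff_isWeaklyRegular_of_subset_maximalIdeal fun x hx =>
        mem_maximalIdeal_of_regular hregC (List.mem_append_left _ hx)).2 hw1
    have htC : φ t ∈ maximalIdeal C :=
      mem_maximalIdeal_of_regular hregC (List.mem_append_right _ (List.mem_singleton_self _))
    have hJm : J ≤ maximalIdeal C := ofList_le_maximalIdeal hreg'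
    have hJne : J ≠ ⊤ := ne_top_of_le_ne_top (maximalIdeal.isMaximal C).ne_top hJm
    -- the complete ring one step up
    let A' := C ⧸ J
    let mk : C →+* A' := Ideal.Quotient.mk J
    have : Nontrivial A' := Ideal.Quotient.nontrivial_iff.2 hJne
    have : IsLocalRing A' := IsLocalRing.of_surjective' mk Ideal.Quotient.mk_surjective
    have : IsLocalHom mk := IsLocalHom.of_surjective mk Ideal.Quotient.mk_surjective
    let t' : A' := mk (φ t)
    have ht' : t' ∈ maximalIdeal A' := fun hu => htC (isUnit_of_map_unit mk _ hu)
    have : IsAdicComplete (maximalIdeal A') A' := Groth.Calg1.isAdicComplete_quotient J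
    have : IsAdicComplete (Ideal.span {t'}) A' :=
      Groth.Calg1.isAdicComplete_of_le _ _ ((Ideal.span_singleton_le_iff_mem _).2 ht')
        (Submodule.fg_span_singleton _) A'
    have htreg : IsSMulRegular A' t' := by
      rw [isWeaklyRegular_singleton_iff] at hw2
      have h0 := (isSMulRegular_quotient_iff_mem_of_smul_mem _ _).1 hw2
      simp only [smul_eq_mul, Ideal.mul_top] at h0
      refine IsSMulRegular.of_right_eq_zero_of_smul fun a ha => ?_
      obtain ⟨a, rfl⟩ := Ideal.Quotient.mk_surjective a
      rw [Ideal.Quotient.eq_zero_iff_mem]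
      refine h0 a ?_
      rwa [smul_eq_mul, ← map_mul, Ideal.Quotient.eq_zero_iff_mem] at ha
    -- identification of the hypersurface
    let A2 := C ⧸ I.map φ
    let e2 : A' ⧸ Ideal.span {t'} ≃+* A2 :=
      ((Ideal.quotEquivOfEq (by rw [Ideal.map_span, Set.image_singleton] :
        Ideal.span {t'} = (Ideal.span {φ t}).map mk)).trans
          (DoubleQuot.quotQuotEquivQuotSup J (Ideal.span {φ t}))).trans (Ideal.quotEquivOfEq hIC.symm)
    have hICne : I.map φ ≠ ⊤ := by
      rw [hIC]
      exact ne_top_of_le_ne_top (maximalIdeal.isMaximal C).ne_top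
        (sup_le hJm ((Ideal.span_singleton_le_iff_mem _).2 htC))
    have : Nontrivial A2 := Ideal.Quotient.nontrivial_iff.2 hICne
    have : IsLocalRing A2 := IsLocalRing.of_surjective' (Ideal.Quotient.mk _) Ideal.Quotient.mk_surjective
    have : IsLocalRing (A' ⧸ Ideal.span {t'}) := e2.symm.isLocalRing
    have hIm : I ≤ maximalIdeal B := ofList_le_maximalIdeal hreg
    have : Nontrivial (B ⧸ I) :=
      Ideal.Quotient.nontrivial_iff.2 (ne_top_of_le_ne_top (maximalIdeal.isMaximal B).ne_top hIm)
    have : IsLocalRing (B ⧸ I) := IsLocalRing.of_surjective' (Ideal.Quotient.mk _) Ideal.Quotient.mk_surjective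
    let eA : B ⧸ I ≃+* A := (Ideal.quotEquivOfEq hker.symm).trans (RingHom.quotientKerEquivOfSurjective hπ)
    rw [← ringKrullDim_eq_of_ringEquiv eA] at hdim
    -- dimensions
    have hA2 : ringKrullDim A2 = ringKrullDim (B ⧸ I) := by
      have h1 := ringKrullDim_add_length_eq_ringKrullDim_of_isRegular _ hregC
      have h2 := ringKrullDim_add_length_eq_ringKrullDim_of_isRegular _ hreg
      rw [hdimC, ← h2, List.length_append, List.length_append, List.length_map,
        ← List.map_singleton, ← List.map_append, ← Ideal.map_ofList] at h1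
      exact Groth.Calg1.add_natCast_inj h1
    have hA' : ringKrullDim A' = ringKrullDim A2 + 1 := by
      have h1 := ringKrullDim_add_length_eq_ringKrullDim_of_isRegular _ hregC
      have h2 := ringKrullDim_add_length_eq_ringKrullDim_of_isRegular _ hreg'
      rw [← h2, List.length_append, List.length_singleton, List.length_map, Nat.cast_add, Nat.cast_one,
        ← add_assoc, add_right_comm, ← List.map_singleton, ← List.map_append, ← Ideal.map_ofList] at h1
      exact (Groth.Calg1.add_natCast_inj h1).symm
    -- depth
    have hd : (4 : ℕ∞) ≤ LocCoh.depth (A' ⧸ Ideal.span {t'}) (A' ⧸ Ideal.span {t'}) := by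
      have hCM := Groth.Calg6.TorCM.isCM_quotient_regularSeq C _ hregC
      rw [← List.map_singleton, ← List.map_append, ← Ideal.map_ofList] at hCM
      refine le_trans ?_ (Groth.ParaFormal.FsReduce.depth_le_of_ringEquiv e2.symm)
      have h4 := hdim.trans hA2.ge
      rw [← Module.supportDim_self_eq_ringKrullDim, hCM.supportDim_eq_depth] at h4
      exact WithBot.coe_le_coe.1 h4
    have hPres : CIPres k A' :=
      ⟨C, inferInstance, inferInstance, mk, rs'.map φ, Ideal.Quotient.mk_surjective, by simpa using hlen',
        hreg', Ideal.mk_ker⟩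
    have hA'4 : (4 : WithBot ℕ∞) ≤ ringKrullDim A' :=
      hA' ▸ (hdim.trans hA2.ge).trans (withBot_le_add_one _)
    have hCM' : LocCoh.IsCohenMacaulayModule A' A' := by
      have := (Groth.Calg6.TorCM.isCM_quotient_regularSeq C _ hreg').supportDim_eq_depth
      exact this
    have hquot : ParaF.IsParafactorialLocalRing (A' ⧸ Ideal.span {t'}) := by
      refine isParafactorial_quotient ht' htreg hd (fun p _ hp1 => ?_) (ih A' hPres hA'4)
      refine ih _ (hPres.atPrime p.asIdeal) ?_
      have h1 := Groth.Calg1.ringKrullDim_quotient_add_height hCM'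
        (Groth.ParaLift82.support_self_eq_univ A') p.asIdeal
      rw [hp1, hA', add_comm (ringKrullDim A2)] at h1
      rw [IsLocalization.AtPrime.ringKrullDim_eq_height p.asIdeal]
      rw [← Nat.cast_one, add_comm, add_comm ((1 : ℕ) : WithBot ℕ∞)] at h1
      rw [Groth.Calg1.add_natCast_inj h1]
      exact hdim.trans hA2.ge
    have hA2p : ParaF.IsParafactorialLocalRing A2 :=
      Groth.ParaFormal.FsReduce.parafactorial_of_ringEquiv e2.symm hquot
    -- descent
    refine Groth.ParaFormal.FsReduce.parafactorial_of_ringEquiv eA.symm ?_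
    letI : Algebra (B ⧸ I) A2 := Ideal.Quotient.algebraQuotientOfLEComap (Ideal.le_comap_map (f := φ))
    have : IsScalarTower B (B ⧸ I) A2 := IsScalarTower.of_algebraMap_eq fun x => rfl
    have : Module.Flat (B ⧸ I) A2 := Groth.Ega4Algebra1.flat_quotient_map (S := C) I
    have hmax : (maximalIdeal (B ⧸ I)).map (algebraMap (B ⧸ I) A2) = maximalIdeal A2 := by
      rw [← map_maximalIdeal_of_surjective (Ideal.Quotient.mk I) Ideal.Quotient.mk_surjective, Ideal.map_map,
        ← map_maximalIdeal_of_surjective (Ideal.Quotient.mk (I.map φ)) Ideal.Quotient.mk_surjective,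
        AdicCompletion.maximalIdeal_eq_map, Ideal.map_map]
      rfl
    have : IsLocalHom (algebraMap (B ⧸ I) A2) :=
      ((IsLocalRing.local_hom_TFAE (algebraMap (B ⧸ I) A2)).out 2 0).mp hmax.le
    refine Groth.Agent.S2865.result (B ⧸ I) A2 ?_ hA2p
    rw [hmax]
    exact ringKrullDim_eq_zero_of_isField
      ((Ideal.Quotient.maximal_ideal_iff_isField_quotient _).1 (maximalIdeal.isMaximal A2))

end Groth.ParaLift82
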