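import Groth.Agent.ParaLift82.FormalSys

/-!
# Gluing an algebra inducing a formal system from one over a quotient and one at a finite level

`M` is a system of algebras killed by powers of `t`, `M'` its reduction by an ideal killed by `t^K` on the cover.
An algebra inducing `M'` and a finite lattice algebra at level `K` give an algebra inducing `M`.
-/

set_option autoImplicit false
universe u

namespace Groth.ParaLift82

variable {B : Type u} [CommRing B] [IsNoetherianRing B] {ι : Type u} [Finite ι]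

/-- A system over the base together with its reduction. -/
structure GlueSys (g : ι → B) (t : B) (K : ℕ) (M : ℕ → Type u) [∀ n, CommRing (M n)] [∀ n, Algebra B (M n)]
    (M' : ℕ → Type u) [∀ n, CommRing (M' n)] [∀ n, Algebra B (M' n)] where
  ρ : ∀ n, M (n + 1) →ₐ[B] M n
  σ : ∀ n, M' (n + 1) →ₐ[B] M' n
  ψ : ∀ n, M n →ₐ[B] M' n
  comm : ∀ n z, σ n (ψ (n + 1) z) = ψ n (ρ n z)
  kill : ∀ n (z : M n), t ^ (n + 1) • z = 0
  sat : ∀ n, Sat g (M n)
  sep' : ∀ n (y : M' n), (∀ a, ∃ k : ℕ, g a ^ k • y = 0) → y = 0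
  surj : ∀ n a (z : M n), ∃ (k : ℕ) (w : M (n + 1)), ρ n w = g a ^ k • z
  ker : ∀ n a (z : M (n + 1)), ρ n z = 0 → ∃ (k : ℕ) (v : M (n + 1)), g a ^ k • z = t ^ (n + 1) • v
  ker' : ∀ n a (y : M' (n + 1)), σ n y = 0 → ∃ (k : ℕ) (v : M' (n + 1)), g a ^ k • y = t ^ (n + 1) • v
  flat' : ∀ n a (y : M' (n + 1)), t ^ (n + 1) • y = 0 → ∃ (k : ℕ) (w : M' (n + 1)), g a ^ k • y = t • w
  surjψ : ∀ n a (y : M' n), ∃ (k : ℕ) (z : M n), ψ n z = g a ^ k • y
  kerψ : ∀ n a (z : M n), ψ n z = 0 → ∃ k : ℕ, (g a ^ k * t ^ K) • z = 0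

namespace GlueSys

variable {g : ι → B} {t : B} {K : ℕ} {M : ℕ → Type u} [∀ n, CommRing (M n)] [∀ n, Algebra B (M n)]
  {M' : ℕ → Type u} [∀ n, CommRing (M' n)] [∀ n, Algebra B (M' n)] (S : GlueSys g t K M M')

include S in
theorem smul_pow_eq_zero {n m : ℕ} (h : n + 1 ≤ m) (z : M n) : t ^ m • z = 0 := by
  rw [← Nat.sub_add_cancel h, pow_add, mul_smul, S.kill, smul_zero]

theorem inj_step {n : ℕ} (hn : K ≤ n + 1) {z : M (n + 1)} (hψ : S.ψ (n + 1) z = 0) (hρ : S.ρ n z = 0) : z = 0 := by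
  refine (S.sat (n + 1)).sep _ fun a => ?_
  obtain ⟨k, v, hv⟩ := S.ker n a z hρ
  have h0 : t ^ (n + 1) • S.ψ (n + 1) v = 0 := by rw [← map_smul, ← hv, map_smul, hψ, smul_zero]
  obtain ⟨k₁, w, hw⟩ := S.flat' n a _ h0
  obtain ⟨k₂, w', hw'⟩ := S.surjψ (n + 1) a w
  obtain ⟨k₃, hk₃⟩ := S.kerψ (n + 1) a (g a ^ (k₂ + k₁) • v - t • w') (by
    rw [map_sub, map_smul, map_smul, pow_add, mul_smul, hw, hw', smul_comm, sub_self])
  have h1 : (g a ^ k₃ * t ^ (n + 1)) • (g a ^ (k₂ + k₁) • v - t • w') = 0 := by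
    rw [show t ^ (n + 1) = t ^ (n + 1 - K) * t ^ K by rw [← pow_add, Nat.sub_add_cancel hn], mul_left_comm,
      mul_smul, hk₃, smul_zero]
  rw [smul_sub, smul_smul, smul_smul, show g a ^ k₃ * t ^ (n + 1) * t = g a ^ k₃ * t ^ (n + 1 + 1) by ring,
    mul_smul (g a ^ k₃) (t ^ (n + 1 + 1)), S.kill, smul_zero, sub_zero] at h1
  refine ⟨k₃ + (k₂ + k₁) + k, ?_⟩
  rw [pow_add, mul_smul, hv, smul_smul,
    show g a ^ (k₃ + (k₂ + k₁)) * t ^ (n + 1) = g a ^ k₃ * t ^ (n + 1) * g a ^ (k₂ + k₁) by ring, h1]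

theorem inj_lim {l : ∀ n, M n} (hl : ∀ n, S.ρ n (l (n + 1)) = l n) (hψ : ∀ n, S.ψ n (l n) = 0) (hK : l K = 0) :
    ∀ n, l n = 0 := fun n => by
  rcases le_total n K with h | h
  · induction h using Nat.decreasingInduction with
    | self => exact hK
    | of_succ k _ ih => rw [← hl, ih, map_zero]
  · induction n, h using Nat.le_induction with
    | base => exact hK
    | succ n hn ih => exact S.inj_step (by omega) (hψ _) (by rw [hl, ih])

theorem glue_step {n : ℕ} (hn : K ≤ n) {z : M n} {y : M' (n + 1)} (h : S.σ n y = S.ψ n z) :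
    ∃ z', S.ρ n z' = z ∧ S.ψ (n + 1) z' = y := by
  cases nonempty_fintype ι
  have hex : ∀ a, ∃ k : ℕ, ∃ w, S.ρ n w = (g a ^ k • (z, y)).1 ∧ S.ψ (n + 1) w = (g a ^ k • (z, y)).2 := fun a => by
    obtain ⟨k, w, hw⟩ := S.surj n a z
    obtain ⟨k₁, v, hv⟩ := S.ker' n a (S.ψ (n + 1) w - g a ^ k • y) (by
      rw [map_sub, map_smul, S.comm, hw, map_smul, h, sub_self])
    obtain ⟨k₂, v', hv'⟩ := S.surjψ (n + 1) a v
    refine ⟨k₂ + k₁ + k, g a ^ (k₂ + k₁) • w - t ^ (n + 1) • v', ?_, ?_⟩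
    · rw [map_sub, map_smul, map_smul, S.kill, sub_zero, hw, smul_smul, ← pow_add]; rfl
    · show _ = g a ^ (k₂ + k₁ + k) • y
      rw [map_sub, map_smul, map_smul, hv', smul_comm, ← hv, smul_sub, pow_add, mul_smul, smul_sub, pow_add,
        mul_smul, pow_add, mul_smul]
      abel
  obtain ⟨N, hN⟩ := exists_uniform (P := fun _ v => ∃ w, S.ρ n w = v.1 ∧ S.ψ (n + 1) w = v.2)
    (fun a k v ⟨w, h1, h2⟩ => ⟨g a ^ k • w, by rw [map_smul, h1]; rfl, by rw [map_smul, h2]; rfl⟩)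
    (x := (z, y)) hex
  choose w hw1 hw2 using hN
  obtain ⟨z', K', hz'⟩ := (S.sat (n + 1)).glue N w fun a b => sub_eq_zero.1 <| S.inj_step (by omega)
    (by rw [map_sub, map_smul, map_smul, hw2, hw2, Prod.smul_snd, Prod.smul_snd, smul_comm, sub_self])
    (by rw [map_sub, map_smul, map_smul, hw1, hw1, Prod.smul_fst, Prod.smul_fst, smul_comm, sub_self])
  refine ⟨z', sub_eq_zero.1 ((S.sat n).sep _ fun a => ⟨K' + N, ?_⟩),
    sub_eq_zero.1 (S.sep' (n + 1) _ fun a => ⟨K' + N, ?_⟩)⟩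
  · rw [smul_sub, ← map_smul, hz', map_smul, hw1, Prod.smul_fst, pow_add, mul_smul, sub_self]
  · rw [smul_sub, ← map_smul, hz', map_smul, hw2, Prod.smul_snd, pow_add, mul_smul, sub_self]

/-- Projection between levels. -/
def pr {m N : ℕ} (h : m ≤ N) : M N →ₐ[B] M m :=
  Nat.leRec (motive := fun N _ => M N →ₐ[B] M m) (AlgHom.id B _) (fun k _ f => f.comp (S.ρ k)) h

theorem pr_self {m : ℕ} (x : M m) : S.pr (le_refl m) x = x := by simp [pr, Nat.leRec_self]

theorem pr_succ {m N : ℕ} (h : m ≤ N) (x : M (N + 1)) : S.pr (h.trans N.le_succ) x = S.pr h (S.ρ N x) := by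
  simp [pr, Nat.leRec_succ _ _ h]

theorem pr_step {m N : ℕ} (h : m + 1 ≤ N) (x : M N) :
    S.pr (m.le_succ.trans h) x = S.ρ m (S.pr h x) := by
  induction N, h using Nat.le_induction with
  | base => rw [S.pr_self, S.pr_succ le_rfl, S.pr_self]
  | succ N hN ih => rw [S.pr_succ (m.le_succ.trans hN), ih, S.pr_succ hN]

theorem ψ_pr {y : ∀ n, M' n} (hy : ∀ n, S.σ n (y (n + 1)) = y n) {m N : ℕ} (h : m ≤ N) (z : M N)
    (hz : S.ψ N z = y N) : S.ψ m (S.pr h z) = y m := by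
  induction N, h using Nat.le_induction with
  | base => rw [S.pr_self, hz]
  | succ N hN ih => rw [S.pr_succ hN]; exact ih _ (by rw [← S.comm, hz, hy])

theorem exists_lim_pair {y : ∀ n, M' n} (hy : ∀ n, S.σ n (y (n + 1)) = y n) (z : M K) (hz : S.ψ K z = y K) :
    ∃ l : ∀ n, M n, (∀ n, S.ρ n (l (n + 1)) = l n) ∧ l K = z ∧ ∀ n, S.ψ n (l n) = y n := by
  let s : ∀ j, {x : M (K + j) // S.ψ (K + j) x = y (K + j)} := fun j =>
    Nat.rec (motive := fun j => {x : M (K + j) // S.ψ (K + j) x = y (K + j)}) ⟨z, hz⟩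
      (fun j x => ⟨(S.glue_step (Nat.le_add_right K j) (y := y (K + j + 1)) (by rw [hy, x.2])).choose,
        (S.glue_step (Nat.le_add_right K j) (y := y (K + j + 1)) (by rw [hy, x.2])).choose_spec.2⟩) j
  have hs : ∀ j, S.ρ (K + j) (s (j + 1)).1 = (s j).1 := fun j =>
    (S.glue_step (Nat.le_add_right K j) (y := y (K + j + 1)) (by rw [hy, (s j).2])).choose_spec.1
  refine ⟨fun n => S.pr (Nat.le_add_left n K) (s n).1, fun n => ?_, ?_, fun n => S.ψ_pr hy _ _ (s n).2⟩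
  · show S.ρ n (S.pr (Nat.le_add_left (n + 1) K) (s (n + 1)).1) = S.pr (Nat.le_add_left n K) (s n).1
    rw [← hs n, ← S.pr_step]; exact S.pr_succ _ _
  · have key : ∀ j, S.pr (Nat.le_add_right K j) (s j).1 = z := fun j => by
      induction j with
      | zero => exact S.pr_self z
      | succ j ih => rw [← ih, ← hs j, ← S.pr_succ (Nat.le_add_right K j)]
    exact key K

variable {R : Type u} [CommRing R] [Algebra B R] (π' : ∀ n, R →ₐ[B] M' n) (LK : Subalgebra B (M K))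

/-- The glued algebra. -/
def glueAlg : Subalgebra B (∀ n, M n) where
  carrier := {l | (∀ n, S.ρ n (l (n + 1)) = l n) ∧ (∃ x, ∀ n, π' n x = S.ψ n (l n)) ∧ l K ∈ LK}
  mul_mem' := fun ⟨h, ⟨x, hx⟩, hK⟩ ⟨h', ⟨x', hx'⟩, hK'⟩ =>
    ⟨fun n => by simp [h n, h' n], ⟨x * x', fun n => by simp [hx n, hx' n]⟩, mul_mem hK hK'⟩
  add_mem' := fun ⟨h, ⟨x, hx⟩, hK⟩ ⟨h', ⟨x', hx'⟩, hK'⟩ =>
    ⟨fun n => by simp [h n, h' n], ⟨x + x', fun n => by simp [hx n, hx' n]⟩, add_mem hK hK'⟩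
  algebraMap_mem' := fun b => ⟨fun n => AlgHom.commutes _ b,
    ⟨algebraMap B R b, fun n => ((π' n).commutes b).trans ((S.ψ n).commutes b).symm⟩, LK.algebraMap_mem b⟩

theorem finite_glueAlg [Module.Finite B R] [Module.Finite B LK] : Module.Finite B (S.glueAlg π' LK) := by
  let P : R →ₗ[B] (∀ n, M' n) := LinearMap.pi fun n => (π' n).toLinearMap
  let Φ : S.glueAlg π' LK →ₗ[B] LinearMap.range P × LK :=
    { toFun := fun l => (⟨fun n => S.ψ n (l.1 n), l.2.2.1.imp fun x hx => funext hx⟩, ⟨l.1 K, l.2.2.2⟩)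
      map_add' := fun l l' => Prod.ext (Subtype.ext (funext fun n => map_add (S.ψ n) _ _)) rfl
      map_smul' := fun b l => Prod.ext (Subtype.ext (funext fun n => map_smul (S.ψ n) _ _)) rfl }
  refine Module.Finite.of_injective Φ ((injective_iff_map_eq_zero Φ).2 fun l hl => Subtype.ext (funext ?_))
  exact S.inj_lim l.2.1 (fun n => congrFun (congrArg Subtype.val (congrArg Prod.fst hl)) n)
    (congrArg Subtype.val (congrArg Prod.snd hl))

variable {π' LK}

theorem exists_glue_of_mem (hcomp : ∀ n x, S.σ n (π' (n + 1) x) = π' n x)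
    (hLK : ∀ a z, ∃ k : ℕ, g a ^ k • z ∈ LK) (a : ι) (x : R) :
    ∃ (k : ℕ) (l : S.glueAlg π' LK), ∀ n, S.ψ n (l.1 n) = g a ^ k • π' n x := by
  obtain ⟨k₁, z, hz⟩ := S.surjψ K a (π' K x)
  obtain ⟨k₂, hk₂⟩ := hLK a z
  obtain ⟨l, hl, hlK, hlψ⟩ := S.exists_lim_pair (y := fun n => π' n (g a ^ (k₂ + k₁) • x))
    (fun n => hcomp n _) (g a ^ k₂ • z) (by rw [map_smul, hz, map_smul, pow_add, mul_smul])
  exact ⟨k₂ + k₁, ⟨l, hl, ⟨_, fun n => (hlψ n).symm⟩, hlK ▸ hk₂⟩, fun n => (hlψ n).trans (map_smul _ _ _)⟩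

theorem exists_glue (hcomp : ∀ n x, S.σ n (π' (n + 1) x) = π' n x)
    (hinj : ∀ n x, π' n x = 0 → ∃ y : R, x = t ^ (n + 1) • y)
    (hsurj : ∀ n a (y : M' n), ∃ (k : ℕ) (x : R), π' n x = g a ^ k • y)
    (hLK : ∀ a z, ∃ k : ℕ, g a ^ k • z ∈ LK) [Module.Finite B R] [Module.Finite B LK] :
    ∃ (L : Type u) (_ : CommRing L) (_ : Algebra B L) (_ : Module.Finite B L) (π : ∀ n, L →ₐ[B] M n),
      (∀ n a l, π n l = 0 → ∃ (k : ℕ) (z : L), g a ^ k • l = t ^ (n + 1) • z) ∧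
      (∀ n a (z : M n), ∃ (k : ℕ) (l : L), π n l = g a ^ k • z) := by
  let L := S.glueAlg π' LK
  let π : ∀ n, L →ₐ[B] M n := fun n => (Pi.evalAlgHom B _ n).comp L.val
  have hπ : ∀ n (l : L), S.ρ n (π (n + 1) l) = π n l := fun n l => l.2.1 n
  have hs : ∀ n a (z : M n), ∃ (k : ℕ) (l : L), π n l = g a ^ k • z := fun n => by
    rcases le_total n K with h | h
    · induction h using Nat.decreasingInduction with
      | self =>
        intro a z
        obtain ⟨k, x, hx⟩ := hsurj K a (S.ψ K z)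
        obtain ⟨j, hj⟩ := hLK a (g a ^ k • z)
        obtain ⟨l, hl, hlK, hlψ⟩ := S.exists_lim_pair (y := fun n => π' n (g a ^ j • x)) (fun n => hcomp n _)
          (g a ^ j • g a ^ k • z) (by rw [map_smul, map_smul, map_smul, hx])
        refine ⟨j + k, ⟨l, hl, ⟨_, fun n => (hlψ n).symm⟩, hlK ▸ hj⟩, ?_⟩
        show l K = _
        rw [hlK, pow_add, mul_smul]
      | of_succ m _ ih =>
        intro a z
        obtain ⟨k, w, hw⟩ := S.surj m a z
        obtain ⟨k', l, hl⟩ := ih a w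
        exact ⟨k' + k, l, by rw [← hπ, hl, map_smul, hw, pow_add, mul_smul]⟩
    · induction n, h using Nat.le_induction with
      | base =>
        intro a z
        obtain ⟨k, x, hx⟩ := hsurj K a (S.ψ K z)
        obtain ⟨j, hj⟩ := hLK a (g a ^ k • z)
        obtain ⟨l, hl, hlK, hlψ⟩ := S.exists_lim_pair (y := fun n => π' n (g a ^ j • x)) (fun n => hcomp n _)
          (g a ^ j • g a ^ k • z) (by rw [map_smul, map_smul, map_smul, hx])
        refine ⟨j + k, ⟨l, hl, ⟨_, fun n => (hlψ n).symm⟩, hlK ▸ hj⟩, ?_⟩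
        show l K = _
        rw [hlK, pow_add, mul_smul]
      | succ m hm ih =>
        intro a z
        obtain ⟨k, l, hl⟩ := ih a (S.ρ m z)
        obtain ⟨k₁, v, hv⟩ := S.ker m a (g a ^ k • z - π (m + 1) l) (by rw [map_sub, map_smul, hπ, hl, sub_self])
        obtain ⟨k₂, x, hx⟩ := hsurj (m + 1) a (S.ψ (m + 1) v)
        obtain ⟨k₃, l', hl'⟩ := S.exists_glue_of_mem hcomp hLK a x
        obtain ⟨k₄, hk₄⟩ := S.kerψ (m + 1) a (π (m + 1) l' - g a ^ (k₃ + k₂) • v) (by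
          show S.ψ (m + 1) (l'.1 (m + 1) - g a ^ (k₃ + k₂) • v) = 0
          rw [map_sub, hl', map_smul, hx, pow_add, mul_smul, sub_self])
        have h1 : (g a ^ k₄ * t ^ (m + 1)) • (π (m + 1) l' - g a ^ (k₃ + k₂) • v) = 0 := by
          rw [show t ^ (m + 1) = t ^ (m + 1 - K) * t ^ K by rw [← pow_add, Nat.sub_add_cancel (by omega)],
            mul_left_comm, mul_smul, hk₄, smul_zero]
        rw [smul_sub, sub_eq_zero] at h1
        rw [smul_sub, sub_eq_iff_eq_add] at hv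
        refine ⟨k₄ + (k₃ + k₂) + (k₁ + k),
          g a ^ (k₄ + (k₃ + k₂) + k₁) • l + (g a ^ k₄ * t ^ (m + 1)) • l', ?_⟩
        rw [map_add, map_smul, map_smul, h1,
          show g a ^ (k₄ + (k₃ + k₂) + (k₁ + k)) • z = g a ^ (k₄ + (k₃ + k₂)) • g a ^ k₁ • g a ^ k • z by
            simp only [smul_smul, ← pow_add, add_assoc],
          hv, smul_add, smul_smul, smul_smul, smul_smul, add_comm (g a ^ _ • π (m + 1) l)]
        congr 2 <;> ring
  refine ⟨L, inferInstance, inferInstance, S.finite_glueAlg π' LK, π, fun n => ?_, hs⟩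
  have hge : ∀ m, K ≤ m → ∀ a (l : L), π m l = 0 → ∃ (k : ℕ) (z : L), g a ^ k • l = t ^ (m + 1) • z := by
    intro m hm a l hl
    have hlK : π K l = 0 := by
      revert hl
      induction m, hm using Nat.le_induction with
      | base => exact id
      | succ p _ ih => exact fun hl => ih (by rw [← hπ, hl, map_zero])
    obtain ⟨x, hx⟩ := l.2.2.1
    obtain ⟨y, rfl⟩ := hinj m x (by rw [hx m, show l.1 m = 0 from hl, map_zero])
    obtain ⟨k, l', hl'⟩ := S.exists_glue_of_mem hcomp hLK a y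
    refine ⟨k, l', Subtype.ext (funext fun p => sub_eq_zero.1 ?_)⟩
    refine S.inj_lim (l := fun p => g a ^ k • l.1 p - t ^ (m + 1) • l'.1 p) (fun p => ?_) (fun p => ?_) ?_ p
    · rw [map_sub, map_smul, map_smul, l.2.1, l'.2.1]
    · rw [map_sub, map_smul, map_smul, ← hx, hl', map_smul, smul_comm, sub_self]
    · show g a ^ k • π K l - t ^ (m + 1) • l'.1 K = 0
      rw [hlK, smul_zero, S.smul_pow_eq_zero (by omega), sub_zero]
  rcases le_total n K with h | h
  · induction h using Nat.decreasingInduction with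
    | self => exact hge K le_rfl
    | of_succ m _ ih =>
      intro a l hl
      obtain ⟨k, v, hv⟩ := S.ker m a (π (m + 1) l) (by rw [hπ, hl])
      obtain ⟨k', l', hl'⟩ := hs (m + 1) a v
      obtain ⟨k'', z, hz⟩ := ih a (g a ^ (k' + k) • l - t ^ (m + 1) • l') (by
        rw [map_sub, map_smul, map_smul, hl', pow_add, mul_smul, hv, smul_comm, sub_self])
      refine ⟨k'' + (k' + k), g a ^ k'' • l' + t • z, ?_⟩
      rw [smul_sub, sub_eq_iff_eq_add] at hz
      rw [pow_add, mul_smul, hz, smul_add, smul_comm (g a ^ k''), ← mul_smul (t ^ (m + 1)) t z, ← pow_succ, add_comm]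
  · exact hge n h

end GlueSys

end Groth.ParaLift82
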