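import Groth.Agent.ParaLift82.FormalSections

/-!
# Algebraisation of formal line bundles on punctured hypersurfaces
-/

set_option autoImplicit false
universe u

open CategoryTheory AlgebraicGeometry TopologicalSpace Groth.PicAux

namespace Groth.ParaLift82

variable {B : Type u} [CommRing B] {ι : Type u} [Finite ι] {g : ι → B} {x y z w t : B}

theorem freeGr_span (ht : ∀ a, t * a = 0 → a = 0) : FreeGr (Ideal.span {t}) := fun n => by
  refine ⟨1, fun _ => t ^ n, by rw [Set.range_const, Ideal.span_singleton_pow], fun c hc i => ?_⟩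
  obtain rfl := Subsingleton.elim i 0
  rw [Fin.sum_univ_one, Ideal.span_singleton_pow] at hc
  obtain ⟨d, hd⟩ := Ideal.mem_span_singleton.1 hc
  have htn : ∀ m a, t ^ m * a = 0 → a = 0 := fun m => by
    induction m with
    | zero => simp
    | succ m ih => exact fun a ha => ht a (ih _ (by rwa [← mul_assoc, ← pow_succ]))
  refine Ideal.mem_span_singleton.2 ⟨d, sub_eq_zero.1 (htn n _ ?_)⟩
  rw [mul_sub, sub_eq_zero, mul_comm (t ^ n), hd]
  ring

omit [Finite ι] in
theorem FormalCoc.mul_rev {J : Ideal B} {E : ℕ → ∀ a b, Γ(SpB B, Dg g a ⊓ Dg g b)}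
    (hE : FormalCoc g J E) (n : ℕ) (a b : ι) :
    E n a b * rev (E n) a b - 1 ∈ idl (J ^ (n + 1)) _ := by
  let T := Dg g a ⊓ Dg g b
  have h1 := hE.coc n a b a T inf_le_left inf_le_right inf_le_left
  have h2 := diag_mem (hE.coc n) (hE.unit_at n) (Ideal.pow_le_self (Nat.succ_ne_zero n)) (n := n + 1)
    le_rfl a (T := T) inf_le_left
  have h3 := Ideal.add_mem _ h1 h2
  simp only [rev, rs, resX_self, sub_add_sub_cancel] at h3 ⊢
  exact h3

/-- A formal cocycle along `t` comes from a matrix of rank one. -/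
theorem exists_matrix [IsNoetherianRing B] [IsAdicComplete (Ideal.span {t}) B]
    (ht : ∀ a, t * a = 0 → a = 0) (h : RegQuad (Ideal.span {t}) x y z w)
    (hx : InRad g x) (hy : InRad g y) (hz : InRad g z) (hw : InRad g w)
    (e : ∀ a b, Γ(SpB B, Dg g a ⊓ Dg g b)) (hu : RevUnit g (Ideal.span {t}) e)
    (he : CocMod g (Ideal.span {t}) e) :
    ∃ (r : ι → ι → B) (α β : ι → ℕ), (∀ a b c, r c a * r a b = r c b * r a a) ∧
      (∀ a, cst (Dg g a) (r a a) - cst _ (g a ^ (α a + β a)) ∈ idl (Ideal.span {t}) _) ∧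
      ∀ a b, cst (Dg g a ⊓ Dg g b) (r a b) - cst _ (g a ^ α a) * cst _ (g b ^ β b) * e a b ∈
        idl (Ideal.span {t}) _ := by
  classical
  let J := Ideal.span {t}
  obtain ⟨E, hE, rfl⟩ := exists_formalCoc ht h hx hy hz hw e hu he
  obtain ⟨G⟩ := exists_gauge he hu
  let G' := G.rev' hu
  obtain ⟨K, S, hS⟩ := exists_formal_sections hE ht G h hx hy hz
  obtain ⟨L, T, hT⟩ := exists_formal_sections hE.reverse ht G' h hx hy hz
  have hreg : ∀ j, RegPair (J ^ (j + 1)) x y := fun j => (regTriple_pow (freeGr_span ht) h.first j).pair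
  have hglue : ∀ i : ι × ι × ℕ, ∃ P : B, ∀ a, cst (Dg g a) P - S i.1 i.2.2 a * T i.2.1 i.2.2 a ∈
      idl (J ^ (i.2.2 + 1)) _ := by
    rintro ⟨d, b, j⟩
    refine sat_glue (hreg j) hx hy (fun a => S d j a * T b j a) fun a c => ?_
    have h1 := (hS d j).1 a c
    have h2 := (hT b j).1 a c
    have h3 := hE.mul_rev j a c
    simp only [rs, map_mul] at h1 h2 h3 ⊢
    set sa := resX _ inf_le_left (S d j a)
    set sc := resX _ inf_le_right (S d j c)
    set ua := resX _ inf_le_left (T b j a)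
    set uc := resX _ inf_le_right (T b j c)
    rw [show sa * ua - sc * uc = -((sc - sa * E j a c) * uc) -
      sa * E j a c * (uc - ua * rev (E j) a c) - sa * ua * (E j a c * rev (E j) a c - 1) by ring]
    exact Ideal.sub_mem _ (Ideal.sub_mem _ (Ideal.neg_mem_iff _ |>.2 (Ideal.mul_mem_right _ _ h1))
      (Ideal.mul_mem_left _ _ h2)) (Ideal.mul_mem_left _ _ h3)
  choose P hP using hglue
  have hsucc : ∀ d b j, P (d, b, j + 1) - P (d, b, j) ∈ J ^ (j + 1) := fun d b j =>
    sat_inj (hreg j) hx fun a => by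
      have h1 := idl_mono (Ideal.pow_le_pow_right (Nat.le_succ (j + 1))) (hP (d, b, j + 1) a)
      have h2 := hP (d, b, j) a
      have h3 := (hS d j).2.1 a
      have h4 := (hT b j).2.1 a
      simp only [map_sub] at h1 h2 ⊢
      rw [show cst (Dg g a) (P (d, b, j + 1)) - cst _ (P (d, b, j)) =
        (cst (Dg g a) (P (d, b, j + 1)) - S d (j + 1) a * T b (j + 1) a) -
          (cst _ (P (d, b, j)) - S d j a * T b j a) + (S d (j + 1) a - S d j a) * T b (j + 1) a +
          S d j a * (T b (j + 1) a - T b j a) by ring]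
      exact Ideal.add_mem _ (Ideal.add_mem _ (Ideal.sub_mem _ h1 h2) (Ideal.mul_mem_right _ _ h3))
        (Ideal.mul_mem_left _ _ h4)
  have hmono : ∀ d b {m n}, m ≤ n → P (d, b, n) - P (d, b, m) ∈ J ^ (m + 1) := fun d b m n hmn => by
    induction n, hmn using Nat.le_induction with
    | base => simp
    | succ n hn ih =>
      rw [← sub_add_sub_cancel (P (d, b, n + 1)) (P (d, b, n))]
      exact Ideal.add_mem _ (Ideal.pow_le_pow_right (by omega) (hsucc d b n)) ih
  have hlim : ∀ i : ι × ι, ∃ r : B, ∀ j, r - P (i.1, i.2, j) ∈ J ^ (j + 1) := by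
    rintro ⟨d, b⟩
    obtain ⟨r, hr⟩ := IsPrecomplete.prec (f := fun j => P (d, b, j)) (inferInstance : IsPrecomplete J B)
      fun {m n} hmn => by
        rw [SModEq.sub_mem, smul_eq_mul, Ideal.mul_top, ← neg_sub]
        exact Ideal.neg_mem_iff _ |>.2 (Ideal.pow_le_pow_right (Nat.le_succ m) (hmono d b hmn))
    refine ⟨r, fun j => ?_⟩
    have := hr (j + 1)
    rw [SModEq.sub_mem, smul_eq_mul, Ideal.mul_top] at this
    rw [← sub_add_sub_cancel r (P (d, b, j + 1)), ← neg_sub]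
    exact Ideal.add_mem _ (Ideal.neg_mem_iff _ |>.2 this) (hsucc d b j)
  choose r hr using hlim
  have hrloc : ∀ d b j a, cst (Dg g a) (r (d, b)) - S d j a * T b j a ∈ idl (J ^ (j + 1)) _ := by
    intro d b j a
    rw [← sub_add_sub_cancel (cst (Dg g a) (r (d, b))) (cst _ (P (d, b, j))), ← map_sub]
    exact Ideal.add_mem _ (Ideal.mem_map_of_mem _ (hr (d, b) j)) (hP (d, b, j) a)
  refine ⟨fun d b => r (d, b), fun a => K a + G.N, fun b => L b + G.N, fun a b c => ?_, ?_⟩
  · refine sub_eq_zero.1 (IsHausdorff.haus (inferInstance : IsHausdorff J B) _ fun n => ?_)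
    rw [SModEq.zero, smul_eq_mul, Ideal.mul_top]
    refine Ideal.pow_le_pow_right (Nat.le_succ n) (sat_inj (hreg n) hx fun e => ?_)
    simp only [map_sub, map_mul]
    rw [show cst (Dg g e) (r (c, a)) * cst _ (r (a, b)) - cst _ (r (c, b)) * cst _ (r (a, a)) =
      (cst (Dg g e) (r (c, a)) - S c n e * T a n e) * cst _ (r (a, b)) +
        S c n e * T a n e * (cst _ (r (a, b)) - S a n e * T b n e) -
        ((cst (Dg g e) (r (c, b)) - S c n e * T b n e) * cst _ (r (a, a)) +
          S c n e * T b n e * (cst _ (r (a, a)) - S a n e * T a n e)) by ring]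
    exact Ideal.sub_mem _ (Ideal.add_mem _ (Ideal.mul_mem_right _ _ (hrloc c a n e))
      (Ideal.mul_mem_left _ _ (hrloc a b n e))) (Ideal.add_mem _ (Ideal.mul_mem_right _ _ (hrloc c b n e))
      (Ideal.mul_mem_left _ _ (hrloc a a n e)))
  have hS0 : ∀ d a, S d 0 a - cst _ (g d ^ K d) * G.m d a ∈ idl J _ := fun d a => (hS d 0).2.2 a
  have hT0 : ∀ d a, T d 0 a - cst _ (g d ^ L d) * G.q d a ∈ idl J _ := fun d a => (hT d 0).2.2 a
  have hr0 : ∀ d b a, cst (Dg g a) (r (d, b)) -
      cst _ (g d ^ K d) * cst _ (g b ^ L b) * (G.m d a * G.q b a) ∈ idl J _ := fun d b a => by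
    have h0 : cst (Dg g a) (r (d, b)) - S d 0 a * T b 0 a ∈ idl J _ := by simpa using hrloc d b 0 a
    rw [show cst (Dg g a) (r (d, b)) - cst _ (g d ^ K d) * cst _ (g b ^ L b) * (G.m d a * G.q b a) =
      (cst (Dg g a) (r (d, b)) - S d 0 a * T b 0 a) + (S d 0 a - cst _ (g d ^ K d) * G.m d a) * T b 0 a +
        cst _ (g d ^ K d) * G.m d a * (T b 0 a - cst _ (g b ^ L b) * G.q b a) by ring]
    exact Ideal.add_mem _ (Ideal.add_mem _ h0 (Ideal.mul_mem_right _ _ (hS0 d a)))
      (Ideal.mul_mem_left _ _ (hT0 b a))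
  refine ⟨fun a => ?_, fun a b => ?_⟩
  · rw [show cst (Dg g a) (g a ^ (K a + G.N + (L a + G.N))) =
        cst _ (g a ^ K a) * cst _ (g a ^ L a) * (cst _ (g a ^ G.N) * cst _ (g a ^ G.N)) by
      simp only [← map_mul, ← pow_add]; congr 2; ring]
    rw [show cst (Dg g a) (r (a, a)) -
        cst _ (g a ^ K a) * cst _ (g a ^ L a) * (cst _ (g a ^ G.N) * cst _ (g a ^ G.N)) =
      (cst (Dg g a) (r (a, a)) - cst _ (g a ^ K a) * cst _ (g a ^ L a) * (G.m a a * G.q a a)) +
        cst _ (g a ^ K a) * cst _ (g a ^ L a) * ((G.m a a - cst _ (g a ^ G.N)) * G.q a a +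
          cst _ (g a ^ G.N) * (G.q a a - cst _ (g a ^ G.N))) by ring]
    exact Ideal.add_mem _ (hr0 a a a) (Ideal.mul_mem_left _ _ (Ideal.add_mem _
      (Ideal.mul_mem_right _ _ (G.m_self a)) (Ideal.mul_mem_left _ _ (G.q_self a))))
  · let O := Dg g a ⊓ Dg g b
    have h1 := res_mem (inf_le_left : O ≤ _) (hr0 a b a)
    have h2 := res_mem (inf_le_left : O ≤ _) (G.m_self a)
    have h3 := res_mem (inf_le_right : O ≤ _) (G.q_self b)
    have h4 := G.q_rel b a b
    simp only [rs, map_sub, map_mul, resX_cst] at h1 h2 h3 h4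
    rw [pow_add (g a), pow_add (g b), map_mul, map_mul]
    set maa := resX _ (inf_le_left : O ≤ _) (G.m a a)
    set qba := resX _ (inf_le_left : O ≤ _) (G.q b a)
    set qbb := resX _ (inf_le_right : O ≤ _) (G.q b b)
    rw [show cst O (r (a, b)) -
        cst O (g a ^ K a) * cst O (g a ^ G.N) * (cst O (g b ^ L b) * cst O (g b ^ G.N)) * E 0 a b =
      (cst O (r (a, b)) - cst O (g a ^ K a) * cst O (g b ^ L b) * (maa * qba)) +
        cst O (g a ^ K a) * cst O (g b ^ L b) * ((maa - cst O (g a ^ G.N)) * qba +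
          cst O (g a ^ G.N) * (qba - E 0 a b * qbb) + cst O (g a ^ G.N) * E 0 a b * (qbb - cst O (g b ^ G.N))) by ring]
    exact Ideal.add_mem _ h1 (Ideal.mul_mem_left _ _ (Ideal.add_mem _ (Ideal.add_mem _
      (Ideal.mul_mem_right _ _ h2) (Ideal.mul_mem_left _ _ h4)) (Ideal.mul_mem_left _ _ h3)))

end Groth.ParaLift82
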