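import Groth.Agent.ParaFormal.Cob
import Mathlib.RingTheory.Localization.Ideal

/-!
# Functions on basic opens modulo an ideal
-/

set_option autoImplicit false
universe u

open CategoryTheory AlgebraicGeometry TopologicalSpace Groth.PicAux

namespace Groth.ParaLift82

variable {B : Type u} [CommRing B]

/-- The spectrum. -/
noncomputable abbrev SpB (B : Type u) [CommRing B] : Scheme.{u} := Spec (CommRingCat.of B)

/-- A basic open. -/
noncomputable abbrev D (g : B) : (SpB B).Opens := PrimeSpectrum.basicOpen g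

/-- Constants as functions. -/
noncomputable def cst (O : (SpB B).Opens) : B →+* Γ(SpB B, O) :=
  (resX (SpB B) (le_top : O ≤ ⊤)).comp (Scheme.ΓSpecIso (CommRingCat.of B)).inv.hom

/-- Functions vanishing modulo `I`. -/
noncomputable abbrev idl (I : Ideal B) (O : (SpB B).Opens) : Ideal Γ(SpB B, O) := I.map (cst O)

@[simp]
theorem resX_cst {O O' : (SpB B).Opens} (h : O' ≤ O) (a : B) : resX _ h (cst O a) = cst O' a := by
  simp [cst, RingHom.comp_apply]

theorem D_mul (g h : B) : D (g * h) = D g ⊓ D h := PrimeSpectrum.basicOpen_mul g h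

variable {O : (SpB B).Opens} {g : B}

theorem num (h : O = D g) (x : Γ(SpB B, O)) : ∃ (k : ℕ) (a : B), cst O (g ^ k) * x = cst O a := by
  subst h
  let y : (Spec.structureSheaf B).obj.obj (Opposite.op (PrimeSpectrum.basicOpen g)) := x
  obtain ⟨k, a, hka⟩ := IsLocalization.Away.surj (x := g) y
  exact ⟨k, a, by rw [map_pow, mul_comm]; exact hka⟩

theorem cst_mem_iff (h : O = D g) (I : Ideal B) (a : B) :
    cst O a ∈ idl I O ↔ ∃ k : ℕ, g ^ k * a ∈ I := by
  subst h
  refine (IsLocalization.algebraMap_mem_map_algebraMap_iff (Submonoid.powers g)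
    ((Spec.structureSheaf B).obj.obj (Opposite.op (PrimeSpectrum.basicOpen g))) I a).trans ?_
  constructor
  · rintro ⟨_, ⟨k, rfl⟩, hk⟩; exact ⟨k, hk⟩
  · rintro ⟨k, hk⟩; exact ⟨_, ⟨k, rfl⟩, hk⟩

theorem cst_eq_zero_iff (h : O = D g) (a : B) : cst O a = 0 ↔ ∃ k : ℕ, g ^ k * a = 0 := by
  simpa [idl] using cst_mem_iff h ⊥ a

theorem isUnit_cst_pow (h : O ≤ D g) (k : ℕ) : IsUnit (cst O (g ^ k)) := by
  let y : (Spec.structureSheaf B).obj.obj (Opposite.op (PrimeSpectrum.basicOpen g)) :=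
    algebraMap B _ g
  have hy : IsUnit y := IsLocalization.Away.algebraMap_isUnit g
  have : IsUnit (resX (SpB B) h (cst (D g) g)) := IsUnit.map (resX (SpB B) h) hy
  rw [map_pow]
  exact (resX_cst h g ▸ this).pow k

theorem mul_cst_mem_iff (h : O ≤ D g) (k : ℕ) {I : Ideal Γ(SpB B, O)} {x : Γ(SpB B, O)} :
    cst O (g ^ k) * x ∈ I ↔ x ∈ I :=
  I.unit_mul_mem_iff_mem (isUnit_cst_pow h k)

/-- Division by a power of an invertible constant. -/
theorem exists_div (h : O ≤ D g) (k : ℕ) (x : Γ(SpB B, O)) :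
    ∃ y : Γ(SpB B, O), cst O (g ^ k) * y = x :=
  ⟨↑(isUnit_cst_pow h k).unit⁻¹ * x, by rw [← mul_assoc, IsUnit.mul_val_inv, one_mul]⟩

theorem res_mem {I : Ideal B} {O' : (SpB B).Opens} (h : O' ≤ O) {x : Γ(SpB B, O)}
    (hx : x ∈ idl I O) : resX _ h x ∈ idl I O' := by
  have := Ideal.mem_map_of_mem (resX (SpB B) h) hx
  rw [idl, Ideal.map_map] at this
  rwa [show (resX (SpB B) h).comp (cst O) = cst O' from RingHom.ext (resX_cst h)] at this

theorem res_mem_sub {I : Ideal B} {O' : (SpB B).Opens} (h : O' ≤ O) {x y : Γ(SpB B, O)}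
    (hx : x - y ∈ idl I O) : resX _ h x - resX _ h y ∈ idl I O' :=
  map_sub (resX (SpB B) h) x y ▸ res_mem h hx

/-- What vanishes on `O ⊓ D h` is killed by a power of `h`. -/
theorem exists_pow_of_res (hO : O = D g) {h : B} {O' : (SpB B).Opens} (hO' : O' = D (g * h))
    (hle : O' ≤ O) {I : Ideal B} {x : Γ(SpB B, O)} (hx : resX _ hle x ∈ idl I O') :
    ∃ p : ℕ, cst O (h ^ p) * x ∈ idl I O := by
  obtain ⟨k, a, hka⟩ := num hO x
  have h1 : cst O' a ∈ idl I O' := by
    have := congrArg (resX _ hle) hka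
    rw [map_mul, resX_cst, resX_cst] at this
    rw [← this]
    exact Ideal.mul_mem_left _ _ hx
  obtain ⟨p, hp⟩ := (cst_mem_iff hO' I a).1 h1
  refine ⟨p, (mul_cst_mem_iff hO.le (p + k)).1 ?_⟩
  have h2 := Ideal.mem_map_of_mem (cst O) hp
  rw [mul_pow, map_mul, map_mul, ← hka] at h2
  rw [pow_add, map_mul]
  rwa [show cst O (g ^ p) * cst O (g ^ k) * (cst O (h ^ p) * x) =
    cst O (g ^ p) * cst O (h ^ p) * (cst O (g ^ k) * x) by ring]

variable (I : Ideal B) (x y : B)

/-- `x, y` is a regular pair modulo `I`. -/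
structure RegPair : Prop where
  left : ∀ z, x * z ∈ I → z ∈ I
  right : ∀ z, y * z ∈ I ⊔ Ideal.span {x} → z ∈ I ⊔ Ideal.span {x}

/-- `x, y, w` is a regular triple modulo `I`. -/
structure RegTriple (w : B) : Prop where
  pair : RegPair I x y
  third : ∀ z, w * z ∈ I ⊔ Ideal.span {x} ⊔ Ideal.span {y} → z ∈ I ⊔ Ideal.span {x} ⊔ Ideal.span {y}

variable {I x y}

theorem mem_sup_span {z : B} : z ∈ I ⊔ Ideal.span {x} ↔ ∃ c, z - x * c ∈ I := by
  rw [Submodule.mem_sup]
  constructor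
  · rintro ⟨i, hi, j, hj, rfl⟩
    obtain ⟨c, rfl⟩ := Ideal.mem_span_singleton'.1 hj
    exact ⟨c, by rwa [show i + c * x - x * c = i by ring]⟩
  · rintro ⟨c, hc⟩
    exact ⟨_, hc, x * c, Ideal.mem_span_singleton.2 (dvd_mul_right x c), by ring⟩

theorem RegPair.left_pow (h : RegPair I x y) (n : ℕ) : ∀ z, x ^ n * z ∈ I → z ∈ I := by
  induction n with
  | zero => simp
  | succ n ih => exact fun z hz => h.left z (ih _ (by rwa [← mul_assoc, ← pow_succ]))

theorem RegPair.right_pow (h : RegPair I x y) (n : ℕ) :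
    ∀ z, y * z ∈ I ⊔ Ideal.span {x ^ n} → z ∈ I ⊔ Ideal.span {x ^ n} := by
  induction n with
  | zero => simp
  | succ n ih =>
    intro z hz
    obtain ⟨c, hc⟩ := mem_sup_span.1 hz
    have hz1 : y * z ∈ I ⊔ Ideal.span {x} :=
      mem_sup_span.2 ⟨x ^ n * c, by rwa [show x * (x ^ n * c) = x ^ (n + 1) * c by ring]⟩
    obtain ⟨z', hz'⟩ := mem_sup_span.1 (h.right z hz1)
    have h2 : y * z' - x ^ n * c ∈ I := h.left _ (by
      rw [show x * (y * z' - x ^ n * c) = (y * z - x ^ (n + 1) * c) - y * (z - x * z') by ring]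
      exact I.sub_mem hc (I.mul_mem_left _ hz'))
    obtain ⟨d, hd⟩ := mem_sup_span.1 (ih z' (mem_sup_span.2 ⟨c, h2⟩))
    refine mem_sup_span.2 ⟨d, ?_⟩
    rw [show z - x ^ (n + 1) * d = (z - x * z') + x * (z' - x ^ n * d) by ring]
    exact I.add_mem hz' (I.mul_mem_left _ hd)

theorem RegPair.pow_pow (h : RegPair I x y) (m n : ℕ) : RegPair I (x ^ m) (y ^ n) := by
  refine ⟨h.left_pow m, ?_⟩
  induction n with
  | zero => simp
  | succ n ih => exact fun z hz => h.right_pow m z (ih _ (by rwa [← mul_assoc, ← pow_succ]))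

theorem RegPair.left_right (h : RegPair I x y) :
    ∀ z, x * z ∈ I ⊔ Ideal.span {y} → z ∈ I ⊔ Ideal.span {y} := by
  intro z hz
  obtain ⟨c, hc⟩ := mem_sup_span.1 hz
  obtain ⟨c', hc'⟩ := mem_sup_span.1 (h.right c (mem_sup_span.2 ⟨z, by
    rw [show y * c - x * z = -(x * z - y * c) by ring]; exact I.neg_mem hc⟩))
  refine mem_sup_span.2 ⟨c', h.left _ ?_⟩
  rw [show x * (z - y * c') = (x * z - y * c) + y * (c - x * c') by ring]
  exact I.add_mem hc (I.mul_mem_left _ hc')

/-- A regular triple gives regular pairs modulo powers of the first element. -/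
theorem RegTriple.regPair_sup {w : B} (h : RegTriple I x y w) (n : ℕ) :
    RegPair (I ⊔ Ideal.span {x ^ n}) y w := by
  refine ⟨h.pair.right_pow n, ?_⟩
  induction n with
  | zero => simp
  | succ n ih =>
    intro z hz
    have comm : ∀ m, I ⊔ Ideal.span {x ^ m} ⊔ Ideal.span {y} = I ⊔ Ideal.span {y} ⊔ Ideal.span {x ^ m} :=
      fun m => sup_right_comm _ _ _
    rw [comm] at hz ⊢
    obtain ⟨c, hc⟩ := mem_sup_span.1 hz
    obtain ⟨z', hz'⟩ : ∃ z', z - x * z' ∈ I ⊔ Ideal.span {y} := by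
      refine mem_sup_span.1 ?_
      rw [sup_right_comm]
      refine h.third z ?_
      rw [sup_right_comm]
      exact mem_sup_span.2 ⟨x ^ n * c, by rwa [show x * (x ^ n * c) = x ^ (n + 1) * c by ring]⟩
    have h2 : w * z' - x ^ n * c ∈ I ⊔ Ideal.span {y} := h.pair.left_right _ (by
      rw [show x * (w * z' - x ^ n * c) = (w * z - x ^ (n + 1) * c) - w * (z - x * z') by ring]
      exact Ideal.sub_mem _ hc (Ideal.mul_mem_left _ _ hz'))
    obtain ⟨d, hd⟩ := mem_sup_span.1 (comm n ▸ ih z' (comm n ▸ mem_sup_span.2 ⟨c, h2⟩))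
    refine mem_sup_span.2 ⟨d, ?_⟩
    rw [show z - x ^ (n + 1) * d = (z - x * z') + x * (z' - x ^ n * d) by ring]
    exact Ideal.add_mem _ hz' (Ideal.mul_mem_left _ _ hd)

end Groth.ParaLift82
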