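import Groth.Agent.ParaLift82.Basic

/-!
# Gluing and primitives on the punctured spectrum, modulo an ideal
-/

set_option autoImplicit false
universe u

open CategoryTheory AlgebraicGeometry TopologicalSpace Groth.PicAux

namespace Groth.ParaLift82

variable {B : Type u} [CommRing B]

theorem exists_num_family {κ : Type*} [Finite κ] (O : κ → (SpB B).Opens) (f : κ → B)
    (h : ∀ i, O i = D (f i)) (t : ∀ i, Γ(SpB B, O i)) :
    ∃ (N : ℕ) (r : κ → B), ∀ i, cst (O i) (f i ^ N) * t i = cst (O i) (r i) := by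
  classical
  cases nonempty_fintype κ
  choose k r hr using fun i => num (h i) (t i)
  let N := Finset.univ.sup k
  refine ⟨N, fun i => f i ^ (N - k i) * r i, fun i => ?_⟩
  have hk : k i ≤ N := Finset.le_sup (f := k) (Finset.mem_univ i)
  rw [map_mul, ← hr i, ← mul_assoc, ← map_mul, ← pow_add, Nat.sub_add_cancel hk]

/-- Cancelling a constant which is regular modulo `I`. -/
theorem mem_of_cst_mul {O : (SpB B).Opens} {g s : B} (h : O = D g) {I : Ideal B}
    (hs : ∀ z, s * z ∈ I → z ∈ I) {t : Γ(SpB B, O)} (ht : cst O s * t ∈ idl I O) : t ∈ idl I O := by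
  obtain ⟨k, a, hka⟩ := num h t
  obtain ⟨p, hp⟩ := (cst_mem_iff h I (s * a)).1 (by
    rw [map_mul, ← hka, mul_left_comm]; exact Ideal.mul_mem_left _ _ ht)
  refine (mul_cst_mem_iff h.le k).1 ?_
  rw [hka, cst_mem_iff h]
  exact ⟨p, hs _ (by rwa [mul_left_comm])⟩

theorem idl_mono {O : (SpB B).Opens} {I K : Ideal B} (h : I ≤ K) : idl I O ≤ idl K O :=
  Ideal.map_mono h

theorem mem_idl_sup_span {O : (SpB B).Opens} {I : Ideal B} {s : B} {t : Γ(SpB B, O)}
    (h : t ∈ idl (I ⊔ Ideal.span {s}) O) : ∃ c, t - cst O s * c ∈ idl I O := by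
  rw [idl, Ideal.map_sup, Ideal.map_span, Set.image_singleton] at h
  exact mem_sup_span.1 h

variable {ι : Type u} [Finite ι] (g : ι → B)

/-- The members of the cover. -/
noncomputable abbrev Dg (a : ι) : (SpB B).Opens := D (g a)

/-- `x` vanishes wherever all of `g` do. -/
abbrev InRad (x : B) : Prop := x ∈ (Ideal.span (Set.range g)).radical

variable {g}

theorem exists_comb [Fintype ι] {x : B} (hx : InRad g x) (N : ℕ) :
    ∃ (M : ℕ) (c : ι → B), x ^ M = ∑ a, c a * g a ^ N := by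
  have hle : Ideal.span (Set.range g) ≤ (Ideal.span (Set.range fun a => g a ^ N)).radical := by
    rw [Ideal.span_le]
    rintro _ ⟨a, rfl⟩
    exact ⟨N, Ideal.subset_span ⟨a, rfl⟩⟩
  obtain ⟨M, hM⟩ := Ideal.radical_le_radical_iff.2 hle hx
  obtain ⟨c, hc⟩ := Ideal.mem_span_range_iff_exists_fun.1 hM
  exact ⟨M, c, hc.symm⟩

variable {I : Ideal B} {x y : B}

theorem sat_inj (h : RegPair I x y) (hx : InRad g x) {z : B}
    (hz : ∀ a, cst (Dg g a) z ∈ idl I (Dg g a)) : z ∈ I := by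
  classical
  cases nonempty_fintype ι
  choose k hk using fun a => (cst_mem_iff rfl I z).1 (hz a)
  obtain ⟨M, c, hc⟩ := exists_comb hx (Finset.univ.sup k)
  refine h.left_pow M z ?_
  rw [hc, Finset.sum_mul]
  refine I.sum_mem fun a _ => ?_
  obtain ⟨m, hm⟩ := Nat.exists_eq_add_of_le (Finset.le_sup (f := k) (Finset.mem_univ a))
  rw [hm, pow_add, show c a * (g a ^ k a * g a ^ m) * z = c a * g a ^ m * (g a ^ k a * z) by ring]
  exact I.mul_mem_left _ (hk a)

theorem sat_glue (h : RegPair I x y) (hx : InRad g x) (hy : InRad g y)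
    (t : ∀ a, Γ(SpB B, Dg g a))
    (ht : ∀ a b, resX _ (inf_le_left : Dg g a ⊓ Dg g b ≤ _) (t a) -
      resX _ (inf_le_right : Dg g a ⊓ Dg g b ≤ _) (t b) ∈ idl I _) :
    ∃ z : B, ∀ a, cst (Dg g a) z - t a ∈ idl I (Dg g a) := by
  classical
  cases nonempty_fintype ι
  obtain ⟨N₀, r₀, hr₀⟩ := exists_num_family (Dg g) g (fun _ => rfl) t
  have hex : ∀ ab : ι × ι, ∃ k : ℕ,
      (g ab.1 * g ab.2) ^ k * (g ab.2 ^ N₀ * r₀ ab.1 - g ab.1 ^ N₀ * r₀ ab.2) ∈ I := by
    rintro ⟨a, b⟩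
    refine (cst_mem_iff (D_mul _ _).symm I _).1 ?_
    have ha := congrArg (resX _ (inf_le_left : Dg g a ⊓ Dg g b ≤ _)) (hr₀ a)
    have hb := congrArg (resX _ (inf_le_right : Dg g a ⊓ Dg g b ≤ _)) (hr₀ b)
    simp only [map_mul, resX_cst] at ha hb
    rw [map_sub, map_mul, map_mul, ← ha, ← hb,
      mul_left_comm (cst _ (g a ^ N₀)), ← mul_sub, ← mul_sub]
    exact Ideal.mul_mem_left _ _ (Ideal.mul_mem_left _ _ (ht a b))
  choose k hk using hex
  let K := Finset.univ.sup k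
  let N := N₀ + K
  let r : ι → B := fun a => g a ^ K * r₀ a
  have hr : ∀ a, cst (Dg g a) (g a ^ N) * t a = cst (Dg g a) (r a) := fun a => by
    rw [pow_add, map_mul (cst (Dg g a)) _ (r₀ a), map_mul, mul_right_comm, hr₀, mul_comm]
  have hrel : ∀ a b, g b ^ N * r a - g a ^ N * r b ∈ I := fun a b => by
    obtain ⟨m, hm⟩ := Nat.exists_eq_add_of_le (Finset.le_sup (f := k) (Finset.mem_univ (a, b)))
    have e : g b ^ N * r a - g a ^ N * r b = (g a * g b) ^ m *
        ((g a * g b) ^ k (a, b) * (g b ^ N₀ * r₀ a - g a ^ N₀ * r₀ b)) := by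
      simp only [N, r, show K = k (a, b) + m from hm]
      ring
    rw [e]
    exact I.mul_mem_left _ (hk (a, b))
  obtain ⟨Mx, cx, hcx⟩ := exists_comb hx N
  obtain ⟨My, cy, hcy⟩ := exists_comb hy N
  let sx := ∑ a, cx a * r a
  let sy := ∑ a, cy a * r a
  have key : ∀ (c : ι → B) b, g b ^ N * (∑ a, c a * r a) - (∑ a, c a * g a ^ N) * r b ∈ I := fun c b => by
    rw [Finset.mul_sum, Finset.sum_mul, ← Finset.sum_sub_distrib]
    exact I.sum_mem fun a _ => by
      rw [show g b ^ N * (c a * r a) - c a * g a ^ N * r b = c a * (g b ^ N * r a - g a ^ N * r b) by ring]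
      exact I.mul_mem_left _ (hrel a b)
  have hxy : y ^ My * sx - x ^ Mx * sy ∈ I := sat_inj h hx fun b => by
    refine (mul_cst_mem_iff le_rfl N).1 ?_
    rw [← map_mul]
    refine Ideal.mem_map_of_mem _ ?_
    rw [show g b ^ N * (y ^ My * sx - x ^ Mx * sy) =
      y ^ My * (g b ^ N * sx - x ^ Mx * r b) - x ^ Mx * (g b ^ N * sy - y ^ My * r b) by ring]
    refine I.sub_mem (I.mul_mem_left _ ?_) (I.mul_mem_left _ ?_)
    · rw [hcx]; exact key cx b
    · rw [hcy]; exact key cy b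
  obtain ⟨z, hz⟩ := mem_sup_span.1 ((h.pow_pow Mx My).right sx (mem_sup_span.2 ⟨sy, hxy⟩))
  refine ⟨z, fun b => (mul_cst_mem_iff le_rfl N).1 ?_⟩
  rw [mul_sub, ← map_mul, hr, ← map_sub]
  refine Ideal.mem_map_of_mem _ (h.left_pow Mx _ ?_)
  rw [show x ^ Mx * (g b ^ N * z - r b) =
    (g b ^ N * sx - x ^ Mx * r b) - g b ^ N * (sx - x ^ Mx * z) by ring]
  refine I.sub_mem ?_ (I.mul_mem_left _ hz)
  rw [hcx]; exact key cx b

/-- Additive cocycles modulo `I` are coboundaries. -/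
theorem exists_primitive {w : B} (h : RegTriple I x y w) (hx : InRad g x) (hy : InRad g y)
    (hw : InRad g w) (c : ∀ a b, Γ(SpB B, Dg g a ⊓ Dg g b))
    (hc : ∀ a b d (T : (SpB B).Opens) (ha : T ≤ Dg g a) (hb : T ≤ Dg g b) (hd : T ≤ Dg g d),
      T = D (g a * g b * g d) →
      resX _ (le_inf ha hd) (c a d) -
        (resX _ (le_inf ha hb) (c a b) + resX _ (le_inf hb hd) (c b d)) ∈ idl I T) :
    ∃ W : ∀ a, Γ(SpB B, Dg g a), ∀ a b,
      c a b - (resX _ inf_le_left (W a) - resX _ inf_le_right (W b)) ∈ idl I _ := by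
  classical
  cases nonempty_fintype ι
  obtain ⟨N, r, hr⟩ := exists_num_family (fun i : ι × ι => Dg g i.1 ⊓ Dg g i.2)
    (fun i => g i.1 * g i.2) (fun i => (D_mul _ _).symm) (fun i => c i.1 i.2)
  choose Q hQ using fun a k => exists_div (le_refl (Dg g a)) N (cst (Dg g a) (r (a, k)))
  have hQres : ∀ a k, resX _ (inf_le_left : Dg g a ⊓ Dg g k ≤ _) (Q a k) =
      cst _ (g k ^ N) * c a k := fun a k => by
    refine (isUnit_cst_pow (inf_le_left : Dg g a ⊓ Dg g k ≤ _) N).mul_left_cancel ?_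
    have h1 := congrArg (resX _ (inf_le_left : Dg g a ⊓ Dg g k ≤ _)) (hQ a k)
    rw [map_mul, resX_cst, resX_cst] at h1
    rw [h1, ← hr (a, k), ← mul_assoc, ← map_mul, ← mul_pow]
  let e : ∀ a b k, Γ(SpB B, Dg g a ⊓ Dg g b) := fun a b k =>
    resX _ inf_le_left (Q a k) - resX _ inf_le_right (Q b k) - cst _ (g k ^ N) * c a b
  have he : ∀ i : ι × ι × ι, ∃ p : ℕ, cst _ (g i.2.2 ^ p) * e i.1 i.2.1 i.2.2 ∈ idl I _ := by
    rintro ⟨a, b, k⟩
    let T := Dg g a ⊓ Dg g b ⊓ Dg g k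
    have hT : T = D (g a * g b * g k) := by rw [D_mul, D_mul]
    refine exists_pow_of_res (D_mul _ _).symm (O' := T) hT inf_le_left ?_
    have hb : T ≤ Dg g b := inf_le_left.trans inf_le_right
    have ha : T ≤ Dg g a := inf_le_left.trans inf_le_left
    have h1 := congrArg (resX _ (le_inf ha inf_le_right : T ≤ _)) (hQres a k)
    have h2 := congrArg (resX _ (le_inf hb inf_le_right : T ≤ _)) (hQres b k)
    simp only [resX_resX, map_mul, resX_cst] at h1 h2
    simp only [e, map_sub, map_mul, resX_cst, resX_resX, h1, h2]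
    rw [← mul_sub, ← mul_sub, sub_sub]
    refine Ideal.mul_mem_left _ _ ?_
    rw [add_comm]
    exact hc a b k T ha hb inf_le_right hT
  choose p hp using he
  let P := Finset.univ.sup p
  obtain ⟨M, l, hl⟩ := exists_comb hx (N + P)
  let W' : ∀ a, Γ(SpB B, Dg g a) := fun a =>
    ∑ k, cst _ (l k) * (cst _ (g k ^ P) * Q a k)
  have hW' : ∀ a b, resX _ inf_le_left (W' a) - resX _ inf_le_right (W' b) -
      cst _ (x ^ M) * c a b ∈ idl I (Dg g a ⊓ Dg g b) := fun a b => by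
    simp only [W', hl, map_sum, map_mul, resX_cst, Finset.sum_mul, ← Finset.sum_sub_distrib]
    refine Ideal.sum_mem _ fun k _ => ?_
    obtain ⟨m, hm⟩ := Nat.exists_eq_add_of_le (Finset.le_sup (f := p) (Finset.mem_univ (a, b, k)))
    rw [show P = p (a, b, k) + m from hm, pow_add, pow_add, pow_add, map_mul, map_mul, map_mul]
    convert Ideal.mul_mem_left _ (cst _ (l k) * cst _ (g k ^ m)) (hp (a, b, k)) using 1
    simp only [e]
    ring
  obtain ⟨z, hz⟩ := sat_glue (h.regPair_sup M) hy hw W' fun a b => by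
    rw [← sub_add_cancel (resX _ inf_le_left (W' a) - resX _ inf_le_right (W' b)) (cst _ (x ^ M) * c a b)]
    exact Ideal.add_mem _ (idl_mono le_sup_left (hW' a b)) (Ideal.mul_mem_right _ _
      (Ideal.mem_map_of_mem _ (Submodule.mem_sup_right (Ideal.mem_span_singleton_self _))))
  choose v hv using fun a => mem_idl_sup_span (hz a)
  refine ⟨fun a => -v a, fun a b => mem_of_cst_mul (D_mul _ _).symm (h.pair.left_pow M) ?_⟩
  have h1 := res_mem (inf_le_left : Dg g a ⊓ Dg g b ≤ _) (hv a)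
  have h2 := res_mem (inf_le_right : Dg g a ⊓ Dg g b ≤ _) (hv b)
  simp only [map_sub, map_mul, resX_cst] at h1 h2
  convert Ideal.sub_mem _ (Ideal.sub_mem _ h2 h1) (hW' a b) using 1
  simp only [map_neg]
  ring

end Groth.ParaLift82
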