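import Groth.Agent.ParaLift82.CoverLim
import Groth.Agent.AlgSpFppf.SliceScheme

/-!
# A level of a formal cover is cut out of the spectrum of the algebra of formal functions
-/

set_option autoImplicit false
universe u

open CategoryTheory AlgebraicGeometry TopologicalSpace Groth.PicAux Groth.ParaFormal

namespace Groth.ParaLift82

variable {B : Type u} [CommRing B] {ι : Type u} {g : ι → B} {X : Scheme.{u}} [CompactSpace X]
  [QuasiSeparatedSpace X]

theorem algebraMap_sec_spec {L : Type u} [CommRing L] [Algebra B L] (c : B) :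
    algebraMap B (Sec (Spec.map (CommRingCat.ofHom (algebraMap B L)))) c =
      (Scheme.ΓSpecIso (CommRingCat.of L)).inv.hom (algebraMap B L c) := by
  show resX (SpB L) (le_top : (⊤ : (SpB L).Opens) ≤ ⊤)
    ((Spec.map (CommRingCat.ofHom (algebraMap B L))).appTop
      ((Scheme.ΓSpecIso (CommRingCat.of B)).inv.hom c)) = _
  rw [resX_self]
  exact congr($((Scheme.ΓSpecIso_inv_naturality (CommRingCat.ofHom (algebraMap B L)))) c).symm

theorem comp_eq_of_appTop {L : Type u} [CommRing L] [Algebra B L] (F : X ⟶ SpB B) (π : L →ₐ[B] Sec F) :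
    (X.toSpecΓ ≫ Spec.map (CommRingCat.ofHom π.toRingHom)) ≫ Spec.map (CommRingCat.ofHom (algebraMap B L)) =
      F := by
  rw [Category.assoc, ← Spec.map_comp, ← CommRingCat.ofHom_comp]
  refine Eq.trans (b := X.toSpecΓ ≫ Spec.map (CommRingCat.ofHom (algebraMap B (Sec F))))
    (congrArg (fun φ => X.toSpecΓ ≫ Spec.map (CommRingCat.ofHom φ)) π.comp_algebraMap) ?_
  refine ext_of_isAffine ?_
  rw [Scheme.Hom.comp_appTop]
  ext c
  have h : ∀ c : B, (X.toSpecΓ.appTop).hom ((Spec.map (CommRingCat.ofHom (algebraMap B (Sec F)))).appTop.hom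
      ((Scheme.ΓSpecIso (CommRingCat.of B)).inv.hom c)) =
      F.appTop.hom ((Scheme.ΓSpecIso (CommRingCat.of B)).inv.hom c) := fun c => by
    rw [Scheme.toSpecΓ_appTop]
    have h2 := congr($((Scheme.ΓSpecIso_inv_naturality (CommRingCat.ofHom (algebraMap B (Sec F))))) c)
    refine (congrArg (Scheme.ΓSpecIso Γ(X, ⊤)).hom.hom h2.symm).trans ?_
    refine (Iso.inv_hom_id_apply (Scheme.ΓSpecIso Γ(X, ⊤)) _).trans ?_
    exact resX_self (X := X) (le_refl (⊤ : X.Opens)) _
  obtain ⟨c, rfl⟩ : ∃ b : B, (Scheme.ΓSpecIso (CommRingCat.of B)).inv.hom b = c :=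
    ⟨_, Iso.hom_inv_id_apply (Scheme.ΓSpecIso (CommRingCat.of B)) c⟩
  exact h c

omit [CompactSpace X] [QuasiSeparatedSpace X] in
theorem appTop_toSpec {L : Type u} [CommRing L] [Algebra B L] {F : X ⟶ SpB B} (π : L →ₐ[B] Sec F) (l : L) :
    (X.toSpecΓ ≫ Spec.map (CommRingCat.ofHom π.toRingHom)).appTop
      ((Scheme.ΓSpecIso (CommRingCat.of L)).inv.hom l) = π l := by
  rw [Scheme.Hom.comp_appTop, CommRingCat.comp_apply, Scheme.toSpecΓ_appTop]
  have h2 := congr($((Scheme.ΓSpecIso_inv_naturality (CommRingCat.ofHom π.toRingHom))) l)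
  refine (congrArg (Scheme.ΓSpecIso Γ(X, ⊤)).hom.hom h2.symm).trans ?_
  exact Iso.inv_hom_id_apply (Scheme.ΓSpecIso Γ(X, ⊤)) _

/-- A cover whose functions are locally those of an algebra is an open of the spectrum of the algebra. -/
theorem isIso_app_of_local {L : Type u} [CommRing L] [Algebra B L] (F : X ⟶ SpB B) (π : L →ₐ[B] Sec F) (b : B)
    (hinj : ∀ l, π l = 0 → ∃ k : ℕ, b ^ k • l = 0) (hsurj : ∀ z : Sec F, ∃ (k : ℕ) (l : L), π l = b ^ k • z) :
    IsIso ((X.toSpecΓ ≫ Spec.map (CommRingCat.ofHom π.toRingHom)).app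
      (Spec.map (CommRingCat.ofHom (algebraMap B L)) ⁻¹ᵁ D b)) := by
  let κ := X.toSpecΓ ≫ Spec.map (CommRingCat.ofHom π.toRingHom)
  let qq : SpB L ⟶ SpB B := Spec.map (CommRingCat.ofHom (algebraMap B L))
  have hκ : κ ≫ qq = F := comp_eq_of_appTop F π
  let O := qq ⁻¹ᵁ D b
  have hO : κ ⁻¹ᵁ O = F ⁻¹ᵁ D b := by rw [← hκ]; rfl
  have hsec : ∀ l : L, secRes F (κ ⁻¹ᵁ O) (π l) =
      κ.app O (secRes qq O ((Scheme.ΓSpecIso (CommRingCat.of L)).inv.hom l)) := fun l => by
    rw [← secRes_secMap hκ, show secMap hκ ((Scheme.ΓSpecIso (CommRingCat.of L)).inv.hom l) =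
      π l from appTop_toSpec π l]
  refine (ConcreteCategory.isIso_iff_bijective _).2 ⟨(injective_iff_map_eq_zero _).2 fun z hz => ?_, fun y => ?_⟩
  · obtain ⟨k, l, hl⟩ := sec_num qq (O := O) rfl z
    obtain ⟨l, rfl⟩ : ∃ l' : L, (Scheme.ΓSpecIso (CommRingCat.of L)).inv.hom l' = l :=
      ⟨_, Iso.hom_inv_id_apply (Scheme.ΓSpecIso (CommRingCat.of L)) l⟩
    have h1 : secRes F (κ ⁻¹ᵁ O) (π l) = 0 := by
      rw [hsec, hl, map_mul, show (κ.app O) z = 0 from hz, mul_zero]
    obtain ⟨m, hm⟩ := sec_zero F hO h1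
    obtain ⟨k', hk'⟩ := hinj (b ^ m • l) (by rw [map_smul, hm])
    rw [smul_smul, ← pow_add] at hk'
    replace hm : b ^ (k' + m) • π l = 0 := by rw [← map_smul, hk', map_zero]
    generalize k' + m = m at hk' hm
    have h2 : algebraMap B L (b ^ m) * l = 0 := by rw [← Algebra.smul_def, hk']
    let ε : L →+* Sec qq := (Scheme.ΓSpecIso (CommRingCat.of L)).inv.hom
    have h3 : secRes qq O (algebraMap B (Sec qq) (b ^ m) * ε l) = 0 := by
      rw [show algebraMap B (Sec qq) (b ^ m) = ε (algebraMap B L (b ^ m)) from algebraMap_sec_spec _, ← map_mul,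
        h2, map_zero, map_zero]
    rw [map_mul, show secRes qq O (ε l) = bcst qq O (b ^ k) * z from hl, algebraMap_sec, show secRes qq O (bcst qq ⊤ (b ^ m)) = bcst qq O (b ^ m) from resX_bcst qq _ _,
      (isUnit_bcst qq (le_refl O) m).mul_right_eq_zero, (isUnit_bcst qq (le_refl O) k).mul_right_eq_zero] at h3
    exact h3
  · obtain ⟨k, x, hx⟩ := sec_num F hO y
    obtain ⟨m, l, hl⟩ := hsurj x
    obtain ⟨v, hv⟩ := (isUnit_bcst qq (le_refl O) (m + k)).exists_right_inv
    refine ⟨v * secRes qq O ((Scheme.ΓSpecIso (CommRingCat.of L)).inv.hom l), ?_⟩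
    have h1 := congrArg (κ.app O) hv
    rw [map_mul, map_one, app_bcst hκ] at h1
    refine (isUnit_bcst F hO.le (m + k)).mul_left_cancel ?_
    show bcst F (κ ⁻¹ᵁ O) (b ^ (m + k)) * κ.app O (v * _) = _
    rw [map_mul, ← hsec, hl, secRes_smul, hx, ← mul_assoc, h1, one_mul, ← mul_assoc, ← map_mul, ← pow_add]

end Groth.ParaLift82
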