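import Groth.Agent.ParaLift82.CoverLevels
import Groth.Agent.ParaLift82.CoverIso
import Groth.Agent.FormalAlg.EtaleNbhd

/-!
# Algebraization of a formal cover near the hypersurface
-/

set_option autoImplicit false
set_option backward.isDefEq.respectTransparency false
universe u

open CategoryTheory AlgebraicGeometry TopologicalSpace Groth.PicAux Groth.ParaFormal Groth.Pi1FEt TensorProduct

namespace Groth.ParaLift82

variable {B : Type u} [CommRing B] {t : B} {U : (SpB B).Opens}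

/-- The spectrum of an algebra over the base. -/
noncomputable abbrev specAlg (B L : Type u) [CommRing B] [CommRing L] [Algebra B L] : SpB L ⟶ SpB B :=
  Spec.map (CommRingCat.ofHom (algebraMap B L))

theorem etale_tensor_of_factor {L : Type u} [CommRing L] [Algebra B L] {n : ℕ}
    {Y : FEt.Cat (Ul t U n : Scheme.{u})} {w : Y.left ⟶ SpB L}
    (hpb : IsPullback w Y.hom (specAlg B L) ((Ul t U n).ι ≫ quotMap (Jl t n)))
    (C : Type u) [CommRing C] [Algebra B C] (β : SpB C ⟶ (Ul t U n : Scheme.{u}))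
    (hβ : β ≫ (Ul t U n).ι ≫ quotMap (Jl t n) = specAlg B C) : Algebra.Etale C (C ⊗[B] L) := by
  have h2 := (isPullback_SpecMap_of_isPushout _ _ _ _ (CommRingCat.isPushout_tensorProduct B C L)).flip
  have h := (IsPullback.of_hasPullback Y.hom β).paste_horiz hpb
  rw [hβ] at h
  have : Etale Y.hom := Y.prop.2
  have het : Etale (Limits.pullback.snd Y.hom β) := inferInstance
  rw [← h.isoPullback_hom_snd, MorphismProperty.cancel_left_of_respectsIso @Etale,
    ← h2.isoPullback_inv_snd, MorphismProperty.cancel_left_of_respectsIso @Etale,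
    HasRingHomProperty.Spec_iff (P := @Etale)] at het
  exact RingHom.etale_algebraMap.1 het

theorem exists_etale_nbhd [IsNoetherianRing B] {L : Type u} [CommRing L] [Algebra B L] [Module.Finite B L]
    (Y : ∀ n, FEt.Cat (Ul t U n : Scheme.{u})) (w : ∀ n, (Y n).left ⟶ SpB L)
    (hpb : ∀ n, IsPullback (w n) (Y n).hom (specAlg B L) ((Ul t U n).ι ≫ quotMap (Jl t n)))
    {b : B} (hb : D b ≤ U) {p : SpB B} (hp : p ∈ D b) (ht : t ∈ p.asIdeal) :
    ∃ O : (SpB B).Opens, p ∈ O ∧ Etale (specAlg B L ∣_ O) := by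
  let R := Localization.Away b
  let S := R ⊗[B] L
  let J : Ideal R := Ideal.span {algebraMap B R t}
  obtain ⟨P, hP⟩ : p ∈ Set.range (PrimeSpectrum.comap (algebraMap B R)) := by
    rw [PrimeSpectrum.localization_away_comap_range R b]; exact hp
  have hJP : J ≤ P.asIdeal := (Ideal.span_singleton_le_iff_mem _).2 (by
    rw [← hP] at ht; exact ht)
  have hlev : ∀ n : ℕ, 0 < n → Algebra.Etale (R ⧸ J ^ n) ((R ⧸ J ^ n) ⊗[R] S) := by
    intro n hn
    obtain ⟨m, rfl⟩ : ∃ m, n = m + 1 := ⟨n - 1, by omega⟩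
    let C := R ⧸ J ^ (m + 1)
    let φ : B ⧸ Jl t m →+* C := Ideal.Quotient.lift _ (algebraMap B C) fun c hc => by
      obtain ⟨d, rfl⟩ := Ideal.mem_span_singleton'.1 hc
      rw [IsScalarTower.algebraMap_apply B R C, Ideal.Quotient.algebraMap_eq, Ideal.Quotient.eq_zero_iff_mem,
        map_mul, map_pow]
      exact Ideal.mul_mem_left _ _ (Ideal.pow_mem_pow (Ideal.mem_span_singleton_self _) _)
    have hφ : Spec.map (CommRingCat.ofHom φ) ≫ quotMap (Jl t m) = specAlg B C := by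
      rw [← Spec.map_comp]; rfl
    have hrange : Set.range (Spec.map (CommRingCat.ofHom φ)) ⊆ Set.range (Ul t U m).ι := by
      rintro _ ⟨z, rfl⟩
      rw [Scheme.Opens.range_ι]
      show quotMap (Jl t m) (Spec.map (CommRingCat.ofHom φ) z) ∈ U
      rw [← Scheme.Hom.comp_apply, hφ]
      refine hb fun hz => z.isPrime.ne_top (Ideal.eq_top_of_isUnit_mem _ hz ?_)
      show IsUnit (algebraMap B C b)
      rw [IsScalarTower.algebraMap_apply B R C]
      exact (IsLocalization.Away.algebraMap_isUnit b).map _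
    have := etale_tensor_of_factor (hpb m) C (IsOpenImmersion.lift (Ul t U m).ι _ hrange)
      (by rw [IsOpenImmersion.lift_fac_assoc, hφ])
    exact Algebra.Etale.of_equiv (R := C) (A := C ⊗[B] L) (B := C ⊗[R] S)
      (Algebra.TensorProduct.cancelBaseChange B R C C L).symm
  obtain ⟨c, hc, hcEt⟩ := Groth.FormalAlg.exists_etale_away (S := S) J hlev P hJP
  let R' := Localization.Away c
  have hR' : Algebra.Etale R' (R' ⊗[B] L) :=
    Algebra.Etale.of_equiv (R := R') (A := R' ⊗[R] S) (B := R' ⊗[B] L)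
      (Algebra.TensorProduct.cancelBaseChange B R R' R' L)
  let γ : SpB R' ⟶ SpB B := Spec.map (CommRingCat.ofHom (algebraMap R R')) ≫ specAlg B R
  have : IsOpenImmersion (Spec.map (CommRingCat.ofHom (algebraMap R R'))) := IsOpenImmersion.of_isLocalization c
  have : IsOpenImmersion (specAlg B R) := IsOpenImmersion.of_isLocalization b
  have hγ : γ = specAlg B R' := by
    refine (Spec.map_comp _ _).symm.trans ?_
    show Spec.map (CommRingCat.ofHom ((algebraMap R R').comp (algebraMap B R))) = _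
    rw [← IsScalarTower.algebraMap_eq]
  refine ⟨γ.opensRange, ?_, ?_⟩
  · obtain ⟨Q, hQ⟩ : P ∈ Set.range (PrimeSpectrum.comap (algebraMap R R')) := by
      rw [PrimeSpectrum.localization_away_comap_range R' c]; exact hc
    refine ⟨Q, ?_⟩
    rw [← hP, ← hQ]
    rfl
  · show Etale (specAlg B L ∣_ γ.opensRange)
    rw [MorphismProperty.arrow_mk_iso_iff @Etale (morphismRestrictOpensRange (specAlg B L) γ)]
    have h2 := (isPullback_SpecMap_of_isPushout _ _ _ _ (CommRingCat.isPushout_tensorProduct B R' L)).flip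
    change IsPullback _ _ (specAlg B L) (specAlg B R') at h2
    rw [← hγ] at h2
    rw [← h2.isoPullback_inv_snd, MorphismProperty.cancel_left_of_respectsIso @Etale,
      HasRingHomProperty.Spec_iff (P := @Etale)]
    exact RingHom.etale_algebraMap.2 hR'

theorem etale_restrict_sSup {X Y : Scheme.{u}} (f : X ⟶ Y) (W : Y.Opens)
    (h : ∀ p ∈ W, ∃ O : Y.Opens, p ∈ O ∧ O ≤ W ∧ Etale (f ∣_ O)) : Etale (f ∣_ W) := by
  let ι := {O : Y.Opens // O ≤ W ∧ Etale (f ∣_ O)}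
  refine (IsZariskiLocalAtTarget.iff_of_iSup_eq_top (P := @Etale) (fun O : ι => W.ι ⁻¹ᵁ O.1) ?_).2 fun O => ?_
  · refine top_le_iff.1 fun z _ => ?_
    obtain ⟨O, hzO, hOW, hO⟩ := h z.1 z.2
    exact Opens.mem_iSup.2 ⟨⟨O, hOW, hO⟩, hzO⟩
  · rw [MorphismProperty.arrow_mk_iso_iff @Etale (morphismRestrictRestrict f W _)]
    rw [show W.ι ''ᵁ (W.ι ⁻¹ᵁ O.1) = O.1 from
      le_antisymm (Set.image_preimage_subset _ _) fun z hz => ⟨⟨z, O.2.1 hz⟩, hz, rfl⟩]
    exact O.2.2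

variable [IsNoetherianRing B] {ι : Type u} {g : ι → B}

theorem isPullback_level (hle : ∀ a, D (g a) ≤ U) (hcov : U ≤ ⨆ a, D (g a))
    (Y : ∀ n, FEt.Cat (Ul t U n : Scheme.{u})) (u : ∀ n, (Y n).left ⟶ (Y (n + 1)).left)
    (hu : ∀ n, IsPullback (u n) (Y n).hom (Y (n + 1)).hom (tr t U n.le_succ))
    {L : Type u} [CommRing L] [Algebra B L] (n : ℕ) (π : L →ₐ[B] Sec ((coverSys hle hcov Y u hu).F n))
    (hinj : ∀ a l, π l = 0 → ∃ (k : ℕ) (z : L), g a ^ k • l = t ^ (n + 1) • z)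
    (hsurj : ∀ a (z : Sec ((coverSys hle hcov Y u hu).F n)), ∃ (k : ℕ) (l : L), π l = g a ^ k • z) :
    ∃ w : (Y n).left ⟶ SpB L, IsPullback w (Y n).hom (specAlg B L) ((Ul t U n).ι ≫ quotMap (Jl t n)) := by
  let S := coverSys hle hcov Y u hu
  let K : Ideal L := (Jl t n).map (algebraMap B L)
  let πq : (L ⧸ K) →ₐ[B] Sec (S.F n) := Ideal.Quotient.liftₐ K π fun l hl => by
    rw [show K = Ideal.span {algebraMap B L (t ^ (n + 1))} by simp [K, Ideal.map_span],
      Ideal.mem_span_singleton'] at hl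
    obtain ⟨c, rfl⟩ := hl
    rw [mul_comm, ← Algebra.smul_def, map_smul, S.kill]
  have hinj' : ∀ a l, πq l = 0 → ∃ k : ℕ, g a ^ k • l = 0 := fun a l hl => by
    obtain ⟨l, rfl⟩ := Ideal.Quotient.mk_surjective l
    obtain ⟨k, z, hz⟩ := hinj a l hl
    refine ⟨k, ?_⟩
    show Ideal.Quotient.mk K (g a ^ k • l) = 0
    rw [hz, Ideal.Quotient.eq_zero_iff_mem, Algebra.smul_def]
    exact Ideal.mul_mem_right _ _ (Ideal.mem_map_of_mem _ (Ideal.mem_span_singleton_self _))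
  let κ : (Y n).left ⟶ SpB (L ⧸ K) := (Y n).left.toSpecΓ ≫ Spec.map (CommRingCat.ofHom πq.toRingHom)
  let qq := specAlg B (L ⧸ K)
  have hκ : κ ≫ qq = S.F n := comp_eq_of_appTop (S.F n) πq
  let ρ : SpB (L ⧸ K) ⟶ SpB (B ⧸ Jl t n) :=
    Spec.map (CommRingCat.ofHom (Ideal.quotientMap K (algebraMap B L) Ideal.le_comap_map))
  have hρ : ρ ≫ quotMap (Jl t n) = qq := by
    rw [← Spec.map_comp]; rfl
  have : IsClosedImmersion (quotMap (Jl t n)) :=
    IsClosedImmersion.spec_of_surjective _ Ideal.Quotient.mk_surjective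
  have hκρ : κ ≫ ρ = (Y n).hom ≫ (Ul t U n).ι := by
    rw [← cancel_mono (quotMap (Jl t n)), Category.assoc, hρ, hκ]; rfl
  let O : (SpB (L ⧸ K)).Opens := ρ ⁻¹ᵁ Ul t U n
  have hrange : Set.range κ ⊆ Set.range O.ι := by
    rintro _ ⟨z, rfl⟩
    rw [Scheme.Opens.range_ι]
    show ρ (κ z) ∈ Ul t U n
    rw [← Scheme.Hom.comp_apply, hκρ]
    exact ((Y n).hom z).2
  let κ' := IsOpenImmersion.lift O.ι κ hrange
  have hκ' : κ' ≫ O.ι = κ := IsOpenImmersion.lift_fac _ _ _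
  have hcomp : κ' ≫ (ρ ∣_ Ul t U n) = (Y n).hom := by
    rw [← cancel_mono (Ul t U n).ι, Category.assoc, morphismRestrict_ι, reassoc_of% hκ', hκρ]
  have hOU : O = qq ⁻¹ᵁ U := by rw [← hρ]; rfl
  have hiso : IsIso κ' := by
    have hQle : ∀ a, qq ⁻¹ᵁ D (g a) ≤ O := fun a => hOU ▸ qq.preimage_mono (hle a)
    refine (IsZariskiLocalAtTarget.iff_of_iSup_eq_top (P := MorphismProperty.isomorphisms Scheme)
      (fun a => O.ι ⁻¹ᵁ (qq ⁻¹ᵁ D (g a))) ?_).2 fun a => ?_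
    · refine top_le_iff.1 fun z _ => ?_
      have hz : qq (O.ι z) ∈ U := hOU.le z.2
      obtain ⟨a, ha⟩ := Opens.mem_iSup.1 (hcov hz)
      exact Opens.mem_iSup.2 ⟨a, ha⟩
    · let Q := qq ⁻¹ᵁ D (g a)
      have hQ : IsAffineOpen Q := (IsAffineOpen.Spec_basicOpen (g a)).preimage qq
      have hQ' : IsAffineOpen (O.ι ⁻¹ᵁ Q) :=
        hQ.preimage_of_isOpenImmersion O.ι (by rw [Scheme.Opens.opensRange_ι]; exact hQle a)
      have hpre : κ' ⁻¹ᵁ (O.ι ⁻¹ᵁ Q) = S.F n ⁻¹ᵁ D (g a) := by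
        rw [← Scheme.Hom.comp_preimage, hκ', ← hκ]; rfl
      have : IsAffine (O.ι ⁻¹ᵁ Q : Scheme.{u}) := hQ'
      have : IsAffine (κ' ⁻¹ᵁ (O.ι ⁻¹ᵁ Q) : Scheme.{u}) := by
        rw [hpre]; exact S.affine n a
      have h0 : IsIso (κ.app Q) :=
        isIso_app_of_local (S.F n) πq (g a) (hinj' a) fun z => by
          obtain ⟨k, l, hl⟩ := hsurj a z
          exact ⟨k, Ideal.Quotient.mk K l, hl⟩
      have h1 : IsIso (O.ι.app Q) :=
        Scheme.Hom.isIso_app _ _ (by rw [Scheme.Opens.opensRange_ι]; exact hQle a)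
      have h2 : IsIso ((κ' ≫ O.ι).app Q) := by
        have : ∀ (f : (Y n).left ⟶ SpB (L ⧸ K)), f = κ → IsIso (f.app Q) := fun f hf => by
          subst hf; exact h0
        exact this _ hκ'
      rw [Scheme.Hom.comp_app] at h2
      have h3 : IsIso (κ'.app (O.ι ⁻¹ᵁ Q)) := IsIso.of_isIso_comp_left (O.ι.app Q) _
      refine (MorphismProperty.arrow_mk_iso_iff (MorphismProperty.isomorphisms Scheme)
        (arrowIsoSpecΓOfIsAffine (κ' ∣_ (O.ι ⁻¹ᵁ Q)))).2 ?_
      show IsIso _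
      rw [morphismRestrict_appTop]
      have h4 : IsIso (κ'.app ((O.ι ⁻¹ᵁ Q).ι ''ᵁ ⊤)) := by
        rw [Scheme.Opens.ι_image_top]; exact h3
      infer_instance
  refine ⟨κ ≫ Spec.map (CommRingCat.ofHom (Ideal.Quotient.mk K)), ?_⟩
  have h1 : IsPullback κ (Y n).hom ρ (Ul t U n).ι :=
    (isPullback_morphismRestrict ρ (Ul t U n)).flip.of_iso (asIso κ').symm (Iso.refl _) (Iso.refl _) (Iso.refl _)
      (by simp [← hκ', O]) (by simp [← hcomp]) (by simp) (by simp)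
  have h2 : IsPullback (Spec.map (CommRingCat.ofHom (Ideal.Quotient.mk K))) ρ (specAlg B L) (quotMap (Jl t n)) :=
    isPullback_SpecMap_of_isPushout _ _ _ _
      (Groth.AlgSpFppf.isPushout_quotient (CommRingCat.ofHom (algebraMap B L)) (Jl t n) K rfl)
  exact h1.paste_horiz h2

variable [Finite ι]

/-- A system of covers induced by a finite algebra comes from an open containing `V(t) ∩ U`. -/
theorem exists_open_lift_of_levels (hle : ∀ a, D (g a) ≤ U) (hcov : U ≤ ⨆ a, D (g a))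
    {V₀ : FEt.Cat (Ul t U 0 : Scheme.{u})}
    (Y : ∀ n, FEt.Cat (Ul t U n : Scheme.{u})) (u : ∀ n, (Y n).left ⟶ (Y (n + 1)).left)
    (hu : ∀ n, IsPullback (u n) (Y n).hom (Y (n + 1)).hom (tr t U n.le_succ))
    (e0 : (FEt.restrict (tr t U (le_refl 0))).obj (Y 0) ≅ V₀)
    {L : Type u} [CommRing L] [Algebra B L] [Module.Finite B L]
    (π : ∀ n, L →ₐ[B] Sec ((coverSys hle hcov Y u hu).F n))
    (hinj : ∀ n a l, π n l = 0 → ∃ (k : ℕ) (z : L), g a ^ k • l = t ^ (n + 1) • z)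
    (hsurj : ∀ n a (z : Sec ((coverSys hle hcov Y u hu).F n)), ∃ (k : ℕ) (l : L), π n l = g a ^ k • z) :
    ∃ (W : (SpB B).Opens) (_ : W ≤ U) (hW : Ul t U 0 ≤ quotMap (Jl t 0) ⁻¹ᵁ W) (Z : FEt.Cat (W : Scheme.{u})),
      Nonempty ((FEt.restrict ((quotMap (Jl t 0)).resLE W (Ul t U 0) hW)).obj Z ≅ V₀) := by
  choose wn hpb using fun n => isPullback_level hle hcov Y u hu n (π n) (hinj n) (hsurj n)
  let q := specAlg B L
  let W : (SpB B).Opens := sSup {O | O ≤ U ∧ Etale (q ∣_ O)}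
  have hWU : W ≤ U := sSup_le fun O hO => hO.1
  have hWt : ∀ p ∈ U, t ∈ p.asIdeal → p ∈ W := fun p hp htp => by
    obtain ⟨a, ha⟩ := Opens.mem_iSup.1 (hcov hp)
    obtain ⟨O, hpO, hO⟩ := exists_etale_nbhd Y wn hpb (hle a) ha htp
    have hO' : Etale (q ∣_ (O ⊓ U)) := by
      have := IsZariskiLocalAtTarget.restrict (P := @Etale) hO (O.ι ⁻¹ᵁ (O ⊓ U))
      rw [MorphismProperty.arrow_mk_iso_iff @Etale (morphismRestrictRestrict q O _)] at this
      rwa [show O.ι ''ᵁ (O.ι ⁻¹ᵁ (O ⊓ U)) = O ⊓ U from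
        le_antisymm (fun _ ⟨_, hz, e⟩ => e ▸ hz) fun z hz => ⟨⟨z, hz.1⟩, hz, rfl⟩] at this
    exact Opens.mem_sSup.2 ⟨O ⊓ U, ⟨inf_le_right, hO'⟩, hpO, hp⟩
  have hW : Ul t U 0 ≤ quotMap (Jl t 0) ⁻¹ᵁ W := fun z hz => hWt _ hz (by
    show Ideal.Quotient.mk (Jl t 0) t ∈ z.asIdeal
    rw [Ideal.Quotient.eq_zero_iff_mem.2 (show t ∈ Jl t 0 by
      simpa [Jl] using Ideal.mem_span_singleton_self t)]
    exact zero_mem _)
  have hE : Etale (q ∣_ W) := etale_restrict_sSup q W fun p hp => by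
    obtain ⟨O, hO, hpO⟩ := Opens.mem_sSup.1 hp
    exact ⟨O, hpO, le_sSup hO, hO.2⟩
  have : IsFinite q := (IsFinite.SpecMap_iff (CommRingCat.ofHom (algebraMap B L))).2
    (RingHom.finite_algebraMap.2 inferInstance)
  have hF : IsFinite (q ∣_ W) := inferInstance
  refine ⟨W, hWU, hW, MorphismProperty.Over.mk ⊤ (q ∣_ W) ⟨hF, hE⟩, ⟨?_⟩⟩
  let m := (quotMap (Jl t 0)).resLE W (Ul t U 0) hW
  have hm : m ≫ W.ι = (Ul t U 0).ι ≫ quotMap (Jl t 0) := Scheme.Hom.resLE_comp_ι _ _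
  have hr : Set.range (wn 0) ⊆ Set.range (q ⁻¹ᵁ W).ι := by
    rintro _ ⟨z, rfl⟩
    rw [Scheme.Opens.range_ι]
    show q (wn 0 z) ∈ W
    rw [← Scheme.Hom.comp_apply, (hpb 0).w]
    exact hW ((Y 0).hom z).2
  have hr' : IsPullback (IsOpenImmersion.lift (q ⁻¹ᵁ W).ι (wn 0) hr) (Y 0).hom (q ∣_ W) m := by
    refine IsPullback.of_right (h₁₂ := (q ⁻¹ᵁ W).ι) ?_ ?_ (isPullback_morphismRestrict q W).flip
    · rw [IsOpenImmersion.lift_fac, hm]
      exact hpb 0
    · rw [← cancel_mono W.ι, Category.assoc, morphismRestrict_ι, IsOpenImmersion.lift_fac_assoc, (hpb 0).w,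
        Category.assoc, hm]
  have hid : tr t U (le_refl 0) = 𝟙 _ := by
    have : IsClosedImmersion (quotMap (Jl t 0)) :=
      IsClosedImmersion.spec_of_surjective _ Ideal.Quotient.mk_surjective
    rw [← cancel_mono (quotMap (Jl t 0) ∣_ U), tr_restrict, Category.id_comp]
  exact (MorphismProperty.Over.isoMk hr'.isoPullback (hr'.isoPullback_hom_snd)).symm ≪≫
    (restrictIdIso (Ul t U 0 : Scheme.{u})).symm.app (Y 0) ≪≫
    (restrictCongr hid).symm.app (Y 0) ≪≫ e0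

/-- A cover of `V(t) ∩ U` extends to an open of `U` containing `V(t) ∩ U` when formal systems give finite algebras. -/
theorem exists_open_lift_of_algebra
    (halg : ∀ S : CoverSys g t, ∃ (L : Type u) (_ : CommRing L) (_ : Algebra B L) (_ : Module.Finite B L)
      (π : ∀ n, L →ₐ[B] Sec (S.F n)),
      (∀ n l, secMap (S.u_F n) (π (n + 1) l) = π n l) ∧
      (∀ n l, π n l = 0 → ∃ z : L, l = t ^ (n + 1) • z) ∧
      (∀ n a (z : Sec (S.F n)), ∃ (k : ℕ) (l : L), π n l = g a ^ k • z))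
    (hle : ∀ a, D (g a) ≤ U) (hcov : U ≤ ⨆ a, D (g a)) (V₀ : FEt.Cat (Ul t U 0 : Scheme.{u})) :
    ∃ (W : (SpB B).Opens) (_ : W ≤ U) (hW : Ul t U 0 ≤ quotMap (Jl t 0) ⁻¹ᵁ W) (Z : FEt.Cat (W : Scheme.{u})),
      Nonempty ((FEt.restrict ((quotMap (Jl t 0)).resLE W (Ul t U 0) hW)).obj Z ≅ V₀) := by
  obtain ⟨Y, u, hu, ⟨e0⟩⟩ := exists_levels t U V₀
  obtain ⟨L, _, _, _, π, -, hinj, hsurj⟩ := halg (coverSys hle hcov Y u hu)
  exact exists_open_lift_of_levels hle hcov Y u hu e0 π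
    (fun n a l hl => ⟨0, (hinj n l hl).imp fun z hz => by rw [pow_zero, one_smul, hz]⟩) hsurj

/-- A cover of `V(t) ∩ U` extends to an open of `U` containing `V(t) ∩ U`. -/
theorem exists_open_lift [IsAdicComplete (Ideal.span {t}) B] (ht : IsSMulRegular B t) {x y w : B}
    (h : RegTriple (Ideal.span {t}) x y w) (hx : InRad g x) (hy : InRad g y) (hw : InRad g w)
    (hle : ∀ a, D (g a) ≤ U) (hcov : U ≤ ⨆ a, D (g a)) (V₀ : FEt.Cat (Ul t U 0 : Scheme.{u})) :
    ∃ (W : (SpB B).Opens) (_ : W ≤ U) (hW : Ul t U 0 ≤ quotMap (Jl t 0) ⁻¹ᵁ W) (Z : FEt.Cat (W : Scheme.{u})),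
      Nonempty ((FEt.restrict ((quotMap (Jl t 0)).resLE W (Ul t U 0) hW)).obj Z ≅ V₀) :=
  exists_open_lift_of_algebra (fun S => S.exists_algebra ht h hx hy hw) hle hcov V₀

end Groth.ParaLift82
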