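import Groth.Agent.ParaLift82.CoverTame
import Mathlib.RingTheory.Localization.Integral

/-!
# A finite algebra of functions on a finite cover containing every function up to powers
-/

set_option autoImplicit false
set_option backward.isDefEq.respectTransparency false
universe u

open CategoryTheory AlgebraicGeometry TopologicalSpace Groth.PicAux Groth.ParaFormal Polynomial

namespace Groth.ParaLift82

variable {B : Type u} [CommRing B] {X : Scheme.{u}} [CompactSpace X] [QuasiSeparatedSpace X] {I : Ideal B}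

theorem exists_isIntegral_pow_smul (G : X ⟶ SpB (B ⧸ I)) (b : B)
    (hfin : (G.app (D (Ideal.Quotient.mk I b))).hom.Finite) (z : Sec (G ≫ quotMap I)) :
    ∃ k : ℕ, IsIntegral B (b ^ k • z) := by
  let F := G ≫ quotMap I
  let bq : B ⧸ I := Ideal.Quotient.mk I b
  let R' : Type u := (Spec.structureSheaf (B ⧸ I)).obj.obj (Opposite.op (PrimeSpectrum.basicOpen bq))
  let W : X.Opens := G ⁻¹ᵁ D bq
  let χ : R' →+* Γ(X, W) := (G.app (D bq)).hom
  letI : Algebra R' Γ(X, W) := χ.toAlgebra
  letI : Algebra (B ⧸ I) Γ(X, W) := (χ.comp (algebraMap (B ⧸ I) R')).toAlgebra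
  haveI : IsScalarTower (B ⧸ I) R' Γ(X, W) := IsScalarTower.of_algebraMap_eq fun _ => rfl
  letI : Algebra B Γ(X, W) := (bcst F W).toAlgebra
  haveI : IsScalarTower B (B ⧸ I) Γ(X, W) := IsScalarTower.of_algebraMap_eq fun c => by
    show bcst F W c = χ (cst (D bq) (Ideal.Quotient.mk I c))
    refine (bcst_comp (Ideal.Quotient.mk I) G W c).trans (Eq.symm ?_)
    simp only [χ, cst, bcst, RingHom.comp_apply]
    exact app_resX G (le_top : D bq ≤ ⊤) _
  have : Algebra.IsIntegral (B ⧸ I) (B ⧸ I) := inferInstance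
  haveI : Module.Finite R' Γ(X, W) := RingHom.finite_algebraMap.1 hfin
  have hx : IsIntegral R' (secRes F W z) := IsIntegral.of_finite R' _
  obtain ⟨⟨m, j, rfl⟩, hm⟩ := IsIntegral.exists_multiple_integral_of_isLocalization (Submonoid.powers bq)
    (Rₘ := R') (R := B ⧸ I) (secRes F W z) hx
  haveI : Algebra.IsIntegral B (B ⧸ I) := ⟨fun c => by
    obtain ⟨c, rfl⟩ := Ideal.Quotient.mk_surjective c
    exact isIntegral_algebraMap⟩
  have hm' : IsIntegral B (secRes F W (b ^ j • z)) := by
    refine isIntegral_trans (A := B ⧸ I) _ ?_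
    rw [secRes_smul]
    convert hm using 1
    show bcst F W (b ^ j) * secRes F W z = _
    rw [Submonoid.smul_def, Algebra.smul_def]
    refine congrArg (· * secRes F W z) ?_
    show algebraMap B Γ(X, W) (b ^ j) = _
    rw [IsScalarTower.algebraMap_apply B (B ⧸ I) Γ(X, W), Ideal.Quotient.algebraMap_eq, map_pow]
  obtain ⟨p, hp, hp0⟩ := hm'
  have hsec : secRes F W (Polynomial.aeval (b ^ j • z) p) = 0 := by
    rw [Polynomial.aeval_def, Polynomial.hom_eval₂,
      show (secRes F W).comp (algebraMap B (Sec F)) = algebraMap B Γ(X, W) from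
        RingHom.ext fun c => resX_bcst F _ c]
    exact hp0
  obtain ⟨n, hn⟩ := sec_zero F (O := W) (b := b) rfl hsec
  rcases Nat.eq_zero_or_pos p.natDegree with h0 | h0
  · refine ⟨n + j, ?_⟩
    rw [hp.natDegree_eq_zero.1 h0, map_one] at hn
    rw [pow_add, mul_smul, Algebra.smul_def (b ^ n), ← mul_one (algebraMap B (Sec F) (b ^ n)),
      ← Algebra.smul_def, hn, zero_mul]
    exact isIntegral_zero
  · refine ⟨n + j, p.scaleRoots (b ^ n), (Polynomial.monic_scaleRoots_iff _).2 hp, ?_⟩
    rw [pow_add, mul_smul, Algebra.smul_def (b ^ n)]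
    have h2 := Polynomial.scaleRoots_eval₂_mul (p := p) (algebraMap B (Sec F)) (b ^ j • z) (b ^ n)
    rw [h2, ← Nat.sub_add_cancel h0, pow_succ, mul_assoc, ← Polynomial.aeval_def, ← Algebra.smul_def (b ^ n), hn,
      mul_zero]

variable [IsNoetherianRing B] {ι : Type u} [Finite ι] {g : ι → B}

/-- A finite subalgebra of functions containing all functions up to powers. -/
theorem exists_finite_lattice (F : X ⟶ SpB B) (G : X ⟶ SpB (B ⧸ I)) (hFG : F = G ≫ quotMap I)
    (hfin : ∀ a, (G.app (D (Ideal.Quotient.mk I (g a)))).hom.Finite)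
    (hflat : ∀ a, (G.app (D (Ideal.Quotient.mk I (g a)))).hom.Flat) :
    ∃ L : Subalgebra B (Sec F), Module.Finite B L ∧ ∀ (a : ι) (z : Sec F), ∃ k : ℕ, g a ^ k • z ∈ L := by
  classical
  cases nonempty_fintype ι
  obtain ⟨l, q, ψ, K, p', -, -, -, -, hM'⟩ := exists_sec_coords F G hFG hfin hflat
  subst hFG
  choose k hk using fun (a : ι) (i : Σ b, Fin (l b)) => exists_isIntegral_pow_smul G (g a) (hfin a) (p' i)
  let s : Set (Sec (G ≫ quotMap I)) := Set.range fun x : ι × (Σ b, Fin (l b)) => g x.1 ^ k x.1 x.2 • p' x.2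
  let L := Algebra.adjoin B s
  refine ⟨L, Module.Finite.iff_fg.2 (fg_adjoin_of_finite (Set.finite_range _)
    fun x ⟨i, hi⟩ => hi ▸ hk i.1 i.2), fun a z => ?_⟩
  obtain ⟨m, hm⟩ := hM' z a
  let N := Finset.univ.sup (k a)
  refine ⟨N + m, ?_⟩
  rw [pow_add, mul_smul]
  generalize g a ^ m • z = w at hm ⊢
  induction hm using Submodule.span_induction with
  | mem x hx =>
    obtain ⟨i, rfl⟩ := hx
    obtain ⟨d, hd⟩ := Nat.exists_eq_add_of_le (Finset.le_sup (f := k a) (Finset.mem_univ i))
    rw [show N = d + k a i by omega, pow_add, mul_smul]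
    exact L.smul_mem (Algebra.subset_adjoin ⟨(a, i), rfl⟩) _
  | zero => rw [smul_zero]; exact zero_mem L
  | add x y _ _ hx hy => rw [smul_add]; exact add_mem hx hy
  | smul c x _ hx => rw [smul_comm]; exact L.smul_mem hx c

end Groth.ParaLift82
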