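import Groth.Agent.ParaLift82.QuotLevels
import Groth.Agent.ParaLift82.AlgGlue
import Groth.Agent.ParaLift82.CoverLattice

/-!
# Extending a cover of the hypersurface when the quotient by an ideal killed by a power of `t` allows it
-/

set_option autoImplicit false
set_option backward.isDefEq.respectTransparency false
universe u

open CategoryTheory AlgebraicGeometry TopologicalSpace Groth.PicAux Groth.ParaFormal

namespace Groth.ParaLift82

variable {B : Type u} [CommRing B]

section Kernel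

variable {X Y : Scheme.{u}} {FX : X ⟶ SpB B} {FY : Y ⟶ SpB B} {v : X ⟶ Y}

theorem exists_mem_map_of_secMap_eq_zero [CompactSpace Y] [QuasiSeparatedSpace Y] (hu : v ≫ FY = FX) {I : Ideal B}
    {G : X ⟶ SpB (B ⧸ I)} (hpb : IsPullback v G FY (quotMap I)) {b : B} (hb : IsAffineOpen (FY ⁻¹ᵁ D b))
    {y : Sec FY} (hy : secMap hu y = 0) : ∃ k : ℕ, b ^ k • y ∈ I.map (algebraMap B (Sec FY)) := by
  let W := FY ⁻¹ᵁ D b
  obtain ⟨-, hker⟩ := Groth.FormalAlg.sections_of_isPullback v FY I G hpb hb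
  have h1 : secRes FY W y ∈ RingHom.ker (v.app W).hom := by
    rw [RingHom.mem_ker, ← secRes_secMap hu W y, hy, map_zero]
  rw [hker, ← bcst_eq_baseHom] at h1
  have key : ∀ c ∈ I.map (bcst FY W), ∃ (k : ℕ) (z : Sec FY),
      z ∈ I.map (algebraMap B (Sec FY)) ∧ secRes FY W z = bcst FY W (b ^ k) * c := by
    intro c hc
    refine Submodule.span_induction ?_ ⟨0, 0, zero_mem _, by simp⟩ ?_ ?_ hc
    · rintro _ ⟨γ, hγ, rfl⟩
      exact ⟨0, algebraMap B _ γ, Ideal.mem_map_of_mem _ hγ, by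
        rw [pow_zero, map_one, one_mul, algebraMap_sec]; exact resX_bcst FY _ γ⟩
    · rintro c c' - - ⟨k, z, hz, h⟩ ⟨k', z', hz', h'⟩
      refine ⟨k + k', b ^ k' • z + b ^ k • z', add_mem ?_ ?_, ?_⟩
      · rw [Algebra.smul_def]; exact Ideal.mul_mem_left _ _ hz
      · rw [Algebra.smul_def]; exact Ideal.mul_mem_left _ _ hz'
      · rw [map_add, secRes_smul, secRes_smul, h, h', pow_add, map_mul]; ring
    · rintro r c - ⟨k, z, hz, h⟩
      obtain ⟨j, r', hr⟩ := sec_num FY (O := W) rfl r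
      exact ⟨j + k, r' * z, Ideal.mul_mem_left _ _ hz, by
        rw [map_mul, hr, h, pow_add, map_mul, smul_eq_mul]; ring⟩
  obtain ⟨k, z, hz, hzc⟩ := key _ h1
  have h2 : secRes FY W (b ^ k • y - z) = 0 := by rw [map_sub, secRes_smul, hzc, sub_self]
  obtain ⟨l, hl⟩ := sec_zero FY (O := W) rfl h2
  refine ⟨l + k, ?_⟩
  rw [smul_sub, sub_eq_zero, smul_smul, ← pow_add] at hl
  rw [hl, Algebra.smul_def]
  exact Ideal.mul_mem_left _ _ hz

theorem smul_sec_comp (J : Ideal B) (F : X ⟶ SpB (B ⧸ J)) (c : B) (y : Sec (F ≫ quotMap J)) :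
    c • y = Ideal.Quotient.mk J c • @id (Sec F) y := by
  rw [Algebra.smul_def, Algebra.smul_def, algebraMap_sec, algebraMap_sec, bcst_comp]
  rfl

end Kernel

variable [IsNoetherianRing B] {t : B} {U : (SpB B).Opens} {ι : Type u} [Finite ι] {g : ι → B}

theorem exists_open_lift_of_quot [IsAdicComplete (Ideal.span {t}) B] (hle : ∀ a, D (g a) ≤ U)
    (hcov : U ≤ ⨆ a, D (g a)) (J : Ideal B) [IsAdicComplete (Ideal.span {tq t J}) (B ⧸ J)]
    (ht : IsSMulRegular (B ⧸ J) (tq t J)) {K : ℕ}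
    (hΓ : ∀ n a, ∃ M : ℕ, ∀ γ ∈ J, ∃ x, g a ^ M * t ^ K * γ = t ^ (n + 1) * x)
    (halg : ∀ S : CoverSys (fun a => Ideal.Quotient.mk J (g a)) (tq t J),
      ∃ (L : Type u) (_ : CommRing L) (_ : Algebra (B ⧸ J) L) (_ : Module.Finite (B ⧸ J) L)
      (π : ∀ n, L →ₐ[B ⧸ J] Sec (S.F n)),
      (∀ n l, secMap (S.u_F n) (π (n + 1) l) = π n l) ∧
      (∀ n l, π n l = 0 → ∃ z : L, l = tq t J ^ (n + 1) • z) ∧
      (∀ n a (z : Sec (S.F n)), ∃ (k : ℕ) (l : L), π n l = Ideal.Quotient.mk J (g a) ^ k • z))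
    (V₀ : FEt.Cat (Ul t U 0 : Scheme.{u})) :
    ∃ (W : (SpB B).Opens) (_ : W ≤ U) (hW : Ul t U 0 ≤ quotMap (Jl t 0) ⁻¹ᵁ W) (Z : FEt.Cat (W : Scheme.{u})),
      Nonempty ((FEt.restrict ((quotMap (Jl t 0)).resLE W (Ul t U 0) hW)).obj Z ≅ V₀) := by
  obtain ⟨Y, u, hu, ⟨e0⟩⟩ := exists_levels t U V₀
  obtain ⟨Y', u', v, hu', hv, huv⟩ := exists_quot_levels t U J Y u hu
  let S := coverSys hle hcov Y u hu
  let S' := coverSys (hle_quot U J hle) (hcov_quot U J hcov) Y' u' hu'
  let Sy' := S'.formalSys ht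
  let F' : ∀ n, S'.X n ⟶ SpB B := fun n => S'.F n ≫ quotMap J
  have hsq : ∀ n, IsPullback (v n) (S'.F n) (S.F n) (quotMap J) := fun n => by
    have h := hv n
    simp only [← Category.assoc] at h
    exact h
  have hvF : ∀ n, v n ≫ S.F n = F' n := fun n => (hsq n).w
  have huF : ∀ n, u' n ≫ F' (n + 1) = F' n := fun n => by
    rw [← Category.assoc]; exact congrArg (· ≫ quotMap J) (S'.u_F n)
  have hcl : ∀ n, IsClosedImmersion (v n) := fun n =>
    MorphismProperty.of_isPullback (hsq n).flip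
      (IsClosedImmersion.spec_of_surjective _ Ideal.Quotient.mk_surjective)
  haveI : ∀ n, CompactSpace (Y n).left := S.compact
  haveI : ∀ n, QuasiSeparatedSpace (Y n).left := S.qsep
  haveI : ∀ n, CompactSpace (Y' n).left := S'.compact
  haveI : ∀ n, QuasiSeparatedSpace (Y' n).left := S'.qsep
  let Gs : GlueSys g t K (fun n => Sec (S.F n)) (fun n => Sec (F' n)) :=
    { ρ := fun n => secMap (S.u_F n)
      σ := fun n => secMap (huF n)
      ψ := fun n => secMap (hvF n)
      comm := fun n z => by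
        show ((v (n + 1)).appTop ≫ (u' n).appTop).hom z = ((S.u n).appTop ≫ (v n).appTop).hom z
        rw [← Scheme.Hom.comp_appTop, ← Scheme.Hom.comp_appTop, show u' n ≫ v (n + 1) = v n ≫ S.u n from huv n]; rfl
      kill := S.kill
      sat := fun n => sat_sec (S.F n) (S.cover n)
      sep' := fun n => (sat_sec (F' n) (S'.cover n)).sep
      surj := fun n a z => exists_secMap_eq (S.u_F n) (S.affine (n + 1) a) z
      ker := fun n a z hz => exists_smul_of_secMap_eq_zero (S.u_F n) (S.pb n) (S.affine (n + 1) a) hz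
      ker' := fun n a y hy => by
        obtain ⟨k, w, hw⟩ := Sy'.ker n a y hy
        refine ⟨k, w, ?_⟩
        rw [smul_sec_comp J (S'.F (n + 1)), smul_sec_comp J (S'.F (n + 1)), map_pow, map_pow]
        exact hw
      flat' := fun n a y hy => by
        rw [smul_sec_comp J (S'.F (n + 1)), map_pow] at hy
        have h0 : Sy'.proj0 (n + 1) y = 0 := Sy'.Tpow_injective (n + 1) (by
          rw [map_zero, Sy'.Tpow_proj0]; exact hy)
        obtain ⟨x, hx⟩ := Sy'.exists_T_of_proj0 h0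
        obtain ⟨k, w, hw⟩ := Sy'.surj n a x
        refine ⟨k, w, ?_⟩
        rw [smul_sec_comp J (S'.F (n + 1)), smul_sec_comp J (S'.F (n + 1)), map_pow, ← hx]
        exact Sy'.T_spec hw
      surjψ := fun n a y => exists_secMap_eq (hvF n) (S.affine n a) y
      kerψ := fun n a z hz => by
        obtain ⟨k, hk⟩ := exists_mem_map_of_secMap_eq_zero (hvF n) (hsq n) (S.affine n a) hz
        obtain ⟨M, hM⟩ := hΓ n a
        refine ⟨M + k, ?_⟩
        have h0 : ∀ w ∈ J.map (algebraMap B (Sec (S.F n))),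
            algebraMap B (Sec (S.F n)) (g a ^ M * t ^ K) * w = 0 := fun w hw => by
          refine Submodule.span_induction ?_ (mul_zero _) ?_ ?_ hw
          · rintro _ ⟨γ, hγ, rfl⟩
            obtain ⟨x, hx⟩ := hM γ hγ
            rw [← map_mul, hx, map_mul, ← Algebra.smul_def]
            exact S.kill n _
          · intro x y _ _ hx hy
            rw [mul_add, hx, hy, add_zero]
          · intro r x _ hx
            rw [smul_eq_mul, mul_left_comm, hx, mul_zero]
        have h1 := h0 _ hk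
        rw [← Algebra.smul_def, smul_smul] at h1
        rwa [pow_add, mul_right_comm] }
  obtain ⟨R, _, _, _, π', hcomp, hinj, hsurj⟩ := halg S'
  letI : Algebra B R := ((algebraMap (B ⧸ J) R).comp (Ideal.Quotient.mk J)).toAlgebra
  haveI : IsScalarTower B (B ⧸ J) R := IsScalarTower.of_algebraMap_eq fun _ => rfl
  haveI : Module.Finite B R := Module.Finite.trans (B ⧸ J) R
  let πB : ∀ n, R →ₐ[B] Sec (F' n) := fun n =>
    { (π' n).toRingHom with
      commutes' := fun c => ((π' n).commutes (Ideal.Quotient.mk J c)).trans (by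
        rw [algebraMap_sec, algebraMap_sec]; exact (bcst_comp _ (S'.F n) ⊤ c).symm) }
  obtain ⟨LK, _, hLK⟩ := exists_finite_lattice (S.F K) (S.G K) rfl (S.finiteApp K) (S.flatApp K)
  obtain ⟨L, _, _, _, π, hπinj, hπsurj⟩ := Gs.exists_glue (π' := πB) (LK := LK) (fun n x => hcomp n x)
    (fun n x hx => by
      obtain ⟨y, hy⟩ := hinj n x hx
      refine ⟨y, hy.trans ?_⟩
      rw [← map_pow]
      exact algebraMap_smul (B ⧸ J) (t ^ (n + 1)) y)
    (fun n a y => by
      obtain ⟨k, x, hx⟩ := hsurj n a y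
      refine ⟨k, x, hx.trans ?_⟩
      rw [smul_sec_comp J (S'.F n), map_pow]; rfl)
    hLK
  exact exists_open_lift_of_levels hle hcov Y u hu e0 π hπinj hπsurj

end Groth.ParaLift82
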