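import Groth.Agent.ParaLift82.ImageStable

/-!
# The algebra of formal functions when the local cohomology of the base is killed away from the closed point
-/

set_option autoImplicit false
universe u

open CategoryTheory AlgebraicGeometry IsLocalRing

namespace Groth.ParaLift82

open Groth.LocCohBase (HH')

variable {B : Type u} [CommRing B] [IsNoetherianRing B] {ι : Type u} [Finite ι] {g : ι → B} {t : B}

namespace CoverSys

variable (S : CoverSys g t) [IsAdicComplete (Ideal.span {t}) B]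

/-- The algebra of formal functions when `H^2`, `H^3` are killed by the `c j * t^N` and `H^1` by powers. -/
theorem exists_algebra_of_killed [IsLocalRing B] (hg : Ig g = maximalIdeal B) (ht : IsSMulRegular B t)
    {κ : Type u} (c : κ → B) {N K : ℕ} (hrad : Ig g ≤ (Ideal.span (Set.range c) ⊔ Ideal.span {t}).radical)
    (h₁ : ∀ a, ∀ x : HH' (Ig g) 1 (ModuleCat.of B B), g a ^ K • x = 0)
    (h₂ : ∀ j, ∀ x : HH' (Ig g) 2 (ModuleCat.of B B), (c j * t ^ N) • x = 0)
    (h₃ : ∀ j, ∀ x : HH' (Ig g) 3 (ModuleCat.of B B), (c j * t ^ N) • x = 0) :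
    ∃ (L : Type u) (_ : CommRing L) (_ : Algebra B L) (_ : Module.Finite B L)
      (π : ∀ n, L →ₐ[B] Sec (S.F n)),
      (∀ n l, secMap (S.u_F n) (π (n + 1) l) = π n l) ∧
      (∀ n l, π n l = 0 → ∃ z : L, l = t ^ (n + 1) • z) ∧
      (∀ n a (z : Sec (S.F n)), ∃ (k : ℕ) (l : L), π n l = g a ^ k • z) := by
  let Sy := S.formalSys ht
  have hd : ∀ n, LatDual g (Ideal.span {t ^ (n + 1)}) (Sec (S.F n)) := fun n =>
    latDual_sec (S.F n) (S.G n) rfl (S.finiteApp n) (S.flatApp n)
  have hfinT := Sy.finite_transRange c hg ht hrad (hd (N + N)) (hd N) h₂ h₃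
  obtain ⟨X, _, hX⟩ := Sy.finite_bottom c ht hrad (hd (0 + N)) (hd 0) h₂ h₁
  have hfin : Module.Finite B Sy.lim := Sy.finite_lim_of_bottom X hX
  let A : Subalgebra B (∀ n, Sec (S.F n)) := Sy.lim.toSubalgebra (fun n => map_one (secMap (S.u_F n)))
    fun l l' hl hl' n => by
      show secMap (S.u_F n) (l (n + 1) * l' (n + 1)) = l n * l' n
      rw [map_mul]; exact congrArg₂ _ (hl n) (hl' n)
  refine ⟨A, inferInstance, inferInstance, hfin, fun n => (Pi.evalAlgHom B _ n).comp A.val,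
    fun n l => l.2 n, fun n l hl => ?_, fun n a z => ?_⟩
  · obtain ⟨z, hz⟩ := Sy.exists_eq_pow_smul n (x := ⟨l.1, l.2⟩) hl
    exact ⟨⟨z.1, z.2⟩, Subtype.ext (congrArg Subtype.val hz :)⟩
  · obtain ⟨k, l, hl⟩ := Sy.lim_surj_of_finite N n a z
    exact ⟨k, ⟨l.1, l.2⟩, hl⟩

end CoverSys

end Groth.ParaLift82
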