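import Groth.Agent.ParaLift82.System
import Groth.Agent.LefSections.QuasiAffine

/-!
# Formal functions on a punctured spectrum
-/

set_option autoImplicit false
universe u

open CategoryTheory AlgebraicGeometry TopologicalSpace IsLocalRing Groth.PicAux

namespace Groth.ParaLift82

variable {B : Type u} [CommRing B] {U : (SpB B).Opens} {J : Ideal B}

variable (J U) in
/-- The ideal sheaf of `V(J)` on `U`. -/
noncomputable abbrev closedIdeal : (U : Scheme.{u}).IdealSheafData := (quotMap J).ker.comap U.ι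

theorem isAffineOpen_preimage_D {f : B} (hf : D f ≤ U) : IsAffineOpen (U.ι ⁻¹ᵁ D f) :=
  (IsAffineOpen.Spec_basicOpen f).preimage_of_isOpenImmersion U.ι (by rwa [Scheme.Opens.opensRange_ι])

theorem image_preimage_of_le {O : (SpB B).Opens} (hO : O ≤ U) : U.ι ''ᵁ (U.ι ⁻¹ᵁ O) = O :=
  le_antisymm (Set.image_preimage_subset _ _) fun z hz => ⟨⟨z, hO hz⟩, hz, rfl⟩

/-- A function on the part of `U` in `O` as a function on `O`. -/
noncomputable def toD {O : (SpB B).Opens} (hO : O ≤ U) : Γ((U : Scheme.{u}), U.ι ⁻¹ᵁ O) →+* Γ(SpB B, O) :=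
  resX (SpB B) (U := U.ι ''ᵁ (U.ι ⁻¹ᵁ O)) (image_preimage_of_le hO).ge

theorem ideal_ker_quotMap {O : (SpB B).affineOpens} {f : B} (hO : O.1 = D f) :
    (quotMap J).ker.ideal O = idl J O.1 := by
  rw [Scheme.Hom.ker_apply]
  refine le_antisymm (fun x hx => mem_of_app_eq_zero hO hx) (Ideal.map_le_iff_le_comap.2 fun a ha => ?_)
  show (quotMap J).app O.1 (cst O.1 a) = 0
  rw [app_cst, Ideal.Quotient.eq_zero_iff_mem.2 ha, map_zero]

theorem toSub_pow_eq_zero_iff {f : B} (hf : D f ≤ U) (k : ℕ) (x : Γ((U : Scheme.{u}), U.ι ⁻¹ᵁ D f)) :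
    (ClSub.toSubscheme (closedIdeal U J ^ k)).app (U.ι ⁻¹ᵁ D f) x = 0 ↔ toD hf x ∈ idl (J ^ k) (D f) := by
  let W : (U : Scheme.{u}).affineOpens := ⟨_, isAffineOpen_preimage_D hf⟩
  refine (Groth.LefSections.toSub_eq_zero_iff (closedIdeal U J ^ k) W x).trans ?_
  rw [Scheme.IdealSheafData.ideal_pow, Pi.pow_apply,
    Scheme.IdealSheafData.ideal_comap_of_isOpenImmersion, ideal_ker_quotMap (f := f) (image_preimage_of_le hf)]
  have h : ∀ x : Γ(SpB B, U.ι ''ᵁ W.1), x ∈ idl J (U.ι ''ᵁ W.1) ^ k ↔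
      resX _ (image_preimage_of_le hf).ge x ∈ idl (J ^ k) (D f) := fun x => by
    refine ⟨fun hx => res_mem _ (by rwa [idl, Ideal.map_pow]), fun hx => ?_⟩
    have h1 := res_mem (image_preimage_of_le hf).le hx
    rwa [resX_resX, resX_self, idl, Ideal.map_pow] at h1
  rw [Scheme.Opens.ι_appIso]
  refine Iff.trans ?_ (h x)
  exact Iff.rfl

theorem toD_injective {O : (SpB B).Opens} (hO : O ≤ U) : Function.Injective (toD (B := B) hO) :=
  Function.LeftInverse.injective (g := fun a : Γ(SpB B, O) =>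
      (resX (SpB B) (image_preimage_of_le hO).le a : Γ(SpB B, U.ι ''ᵁ (U.ι ⁻¹ᵁ O))))
    fun x => (resX_resX (X := SpB B) (image_preimage_of_le hO).ge (image_preimage_of_le hO).le x).trans
      (resX_self (X := SpB B) (le_refl (U.ι ''ᵁ (U.ι ⁻¹ᵁ O))) x)

theorem toD_app {O : (SpB B).Opens} (hO : O ≤ U) (a : Γ(SpB B, O)) : toD hO (U.ι.app O a) = a := by
  rw [Scheme.Opens.ι_app]
  exact (resX_resX (X := SpB B) (Set.image_preimage_subset _ _ : U.ι ''ᵁ (U.ι ⁻¹ᵁ O) ≤ O) _ a).trans (resX_self _ a)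

theorem toD_res {O O' : (SpB B).Opens} (hO : O ≤ U) (h : O' ≤ O) (x : Γ((U : Scheme.{u}), U.ι ⁻¹ᵁ O)) :
    resX _ h (toD hO x) = toD (h.trans hO) (resX (U : Scheme.{u}) (U.ι.preimage_mono h) x) := by
  exact (resX_resX (X := SpB B) (image_preimage_of_le hO).ge h x).trans
    (resX_resX (X := SpB B) (U.ι.image_mono (U.ι.preimage_mono h)) (image_preimage_of_le (h.trans hO)).ge x).symm

theorem eq_zero_of_forall_mem [IsAdicComplete J B] {b : B} (h : ∀ n, b ∈ J ^ (n + 1)) : b = 0 :=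
  IsHausdorff.haus' (I := J) b fun n => by
    rw [SModEq.zero, smul_eq_mul, Ideal.mul_top]
    exact Ideal.pow_le_pow_right n.le_succ (h n)

theorem homToFormalBijective_structure [IsNoetherianRing B] [IsAdicComplete J B] {ι : Type u} [Finite ι]
    {g : ι → B} {x y : B} (hcov : U ≤ ⨆ a, Dg g a) (hle : ∀ a, Dg g a ≤ U) (hx : InRad g x)
    (hy : InRad g y) (hreg : ∀ n, RegPair (J ^ (n + 1)) x y) :
    Lef.HomToFormalBijective (closedIdeal U J) (Coh.structureModule (U : Scheme.{u})) := by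
  let O := Coh.structureModule (U : Scheme.{u})
  let 𝓙 := closedIdeal U J
  have hJac : J ≤ Ideal.jacobson ⊥ := IsAdicComplete.le_jacobson_bot J
  have hbot := regPair_bot_of_forall hJac hreg
  have hc : (⊤ : (U : Scheme.{u}).Opens) ≤ ⨆ a, U.ι ⁻¹ᵁ Dg g a := fun z _ => by
    obtain ⟨a, ha⟩ := Opens.mem_iSup.1 (hcov z.2)
    exact Opens.mem_iSup.2 ⟨a, ha⟩
  let rs : ∀ a, Γ((U : Scheme.{u}), ⊤) → Γ(SpB B, Dg g a) := fun a z =>
    toD (hle a) (resX (U : Scheme.{u}) le_top z)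
  have hglob : ∀ z : Γ((U : Scheme.{u}), ⊤), ∃ b : B, ∀ a, rs a z = cst (Dg g a) b := fun z => by
    obtain ⟨b, hb⟩ := sat_glue hbot hx hy (fun a => rs a z) fun a a' => by
      simp only [rs, toD_res, resX_resX, sub_self]; exact zero_mem _
    refine ⟨b, fun a => ?_⟩
    have := hb a
    rw [idl, Ideal.map_bot, Ideal.mem_bot, sub_eq_zero] at this
    exact this.symm
  have hq : ∀ (n : ℕ) (s : Γ(ClSub.quotMod (𝓙 ^ (n + 1)), ⊤)) a, ∃ t : Γ((U : Scheme.{u}), U.ι ⁻¹ᵁ Dg g a),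
      (ClSub.toSubscheme (𝓙 ^ (n + 1))).app (U.ι ⁻¹ᵁ Dg g a) t = res _ le_top s := fun n s a =>
    (𝓙 ^ (n + 1)).subschemeι.app_surjective _ (isAffineOpen_preimage_D (hle a)) _
  refine ⟨fun φ ψ hφψ => hom_structure_ext ?_, fun f hf => ?_⟩
  · rw [← sub_eq_zero]
    set z : Γ((U : Scheme.{u}), ⊤) := φ.app ⊤ (oneSec _ ⊤) - ψ.app ⊤ (oneSec _ ⊤) with hz
    obtain ⟨b, hb⟩ := hglob z
    obtain rfl : b = 0 := eq_zero_of_forall_mem (J := J) fun n => sat_inj (hreg n) hx fun a => by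
      rw [← hb, ← toSub_pow_eq_zero_iff (hle a)]
      refine (app_res (M := O) (ClSub.toSubscheme (𝓙 ^ (n + 1))) (le_top : U.ι ⁻¹ᵁ Dg g a ≤ ⊤) z).trans ?_
      have e : (ClSub.toSubscheme (𝓙 ^ (n + 1))).app ⊤ z = 0 := by
        rw [hz]
        refine (map_sub ((ClSub.toSubscheme (𝓙 ^ (n + 1))).app ⊤).hom (φ.app ⊤ (oneSec _ ⊤)) (ψ.app ⊤ (oneSec _ ⊤))).trans ?_
        rw [sub_eq_zero]
        exact congrArg (fun χ => Scheme.Modules.Hom.app χ ⊤ (oneSec _ ⊤)) (hφψ n)
      rw [e]; exact map_zero _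
    show z = (0 : Γ((U : Scheme.{u}), ⊤))
    refine resX_ext (fun a => U.ι ⁻¹ᵁ Dg g a) (fun _ => le_top) hc fun a => toD_injective (hle a) ?_
    rw [map_zero, map_zero]
    exact (hb a).trans (map_zero _)
  · choose t ht using fun n => hq n ((f n).app ⊤ (oneSec _ ⊤))
    have hzn : ∀ n, ∃ b : B, ∀ a, cst (Dg g a) b - toD (hle a) (t n a) ∈ idl (J ^ (n + 1)) (Dg g a) := fun n => by
      refine sat_glue (hreg n) hx hy (fun a => toD (hle a) (t n a)) fun a a' => ?_
      rw [toD_res, toD_res, ← map_sub]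
      have hD : Dg g a ⊓ Dg g a' = D (g a * g a') := (D_mul _ _).symm
      let d : Γ((U : Scheme.{u}), U.ι ⁻¹ᵁ D (g a * g a')) :=
        resX (U : Scheme.{u}) (U.ι.preimage_mono (hD.ge.trans inf_le_left)) (t n a) -
          resX (U : Scheme.{u}) (U.ι.preimage_mono (hD.ge.trans inf_le_right)) (t n a')
      have hd : (ClSub.toSubscheme (𝓙 ^ (n + 1))).app _ d = 0 := by
        refine (map_sub ((ClSub.toSubscheme (𝓙 ^ (n + 1))).app _).hom _ _).trans ?_
        rw [sub_eq_zero]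
        refine (app_res (φ := ClSub.toSubscheme (𝓙 ^ (n + 1))) _ (t n a)).trans ?_
        rw [ht]
        refine Eq.trans ?_ (app_res (φ := ClSub.toSubscheme (𝓙 ^ (n + 1))) _ (t n a')).symm
        rw [ht, res_res, res_res]
      have h1 := res_mem hD.le ((toSub_pow_eq_zero_iff (hD.ge.trans (inf_le_left.trans (hle a))) (n + 1) d).1 hd)
      rwa [toD_res, map_sub, resX_resX, resX_resX] at h1
    choose b hb using hzn
    have hstep : ∀ n, b (n + 1) - b n ∈ J ^ (n + 1) := fun n => sat_inj (hreg n) hx fun a => by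
      have h1 : toD (hle a) (t (n + 1) a - t n a) ∈ idl (J ^ (n + 1)) (Dg g a) := by
        rw [← toSub_pow_eq_zero_iff (hle a)]
        refine (map_sub ((ClSub.toSubscheme (𝓙 ^ (n + 1))).app _).hom (t (n + 1) a) (t n a)).trans ?_
        rw [sub_eq_zero]
        have e1 : ∀ w, (ClSub.toSubscheme (𝓙 ^ (n + 1))).app (U.ι ⁻¹ᵁ Dg g a) w =
            (Lef.quotMap (Lef.pow_succ_le 𝓙 n)).app (U.ι ⁻¹ᵁ Dg g a)
              ((ClSub.toSubscheme (𝓙 ^ (n + 1 + 1))).app (U.ι ⁻¹ᵁ Dg g a) w) := fun w =>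
          congr($((congrArg (fun χ => Scheme.Modules.Hom.app χ (U.ι ⁻¹ᵁ Dg g a))
            (Groth.LefSections.toSub_quotMap (Lef.pow_succ_le 𝓙 n))).symm) w)
        have e2 : (Lef.quotMap (Lef.pow_succ_le 𝓙 n)).app ⊤ ((f (n + 1)).app ⊤ (oneSec _ ⊤)) =
            (f n).app ⊤ (oneSec _ ⊤) :=
          congr($(congrArg (fun χ : Coh.structureModule (U : Scheme.{u}) ⟶ ClSub.quotMod (𝓙 ^ (n + 1)) =>
            Scheme.Modules.Hom.app χ ⊤) (hf n)) (oneSec _ ⊤))
        refine (e1 (t (n + 1) a)).trans ?_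
        rw [ht (n + 1) a, app_res, e2]
        exact (ht n a).symm
      have h2 := idl_mono (O := Dg g a) (Ideal.pow_le_pow_right (n + 1).le_succ) (hb (n + 1) a)
      have := Ideal.sub_mem _ (Ideal.add_mem _ h2 h1) (hb n a)
      rw [map_sub] at this ⊢
      convert this using 1
      ring
    obtain ⟨c, hcl⟩ : ∃ c : B, ∀ n, b n - c ∈ J ^ (n + 1) := by
      have hcauchy : ∀ {m n}, m ≤ n → b m - b n ∈ J ^ (m + 1) := fun {m n} h => by
        induction h with
        | refl => simp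
        | @step k h ih =>
          rw [show b m - b (k + 1) = (b m - b k) - (b (k + 1) - b k) by ring]
          exact Ideal.sub_mem _ ih (Ideal.pow_le_pow_right (Nat.succ_le_succ h) (hstep k))
      obtain ⟨c, hc⟩ := IsPrecomplete.prec (inferInstance : IsPrecomplete J B) (f := b) fun {m n} h => by
        rw [SModEq.sub_mem, smul_eq_mul, Ideal.mul_top]
        exact Ideal.pow_le_pow_right m.le_succ (hcauchy h)
      refine ⟨c, fun n => ?_⟩
      have := hc (n + 1)
      rw [SModEq.sub_mem, smul_eq_mul, Ideal.mul_top] at this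
      rw [show b n - c = (b (n + 1) - c) - (b (n + 1) - b n) by ring]
      exact Ideal.sub_mem _ this (hstep n)
    let z : Γ((U : Scheme.{u}), ⊤) := U.ι.appTop (cst ⊤ c)
    obtain ⟨φ, hφ⟩ := exists_hom_structure (M := O) z
    refine ⟨φ, fun n => hom_structure_ext ?_⟩
    show (ClSub.toSubscheme (𝓙 ^ (n + 1))).app ⊤ (φ.app ⊤ (oneSec _ ⊤)) = _
    rw [hφ]
    refine res_ext (M := ClSub.quotMod (𝓙 ^ (n + 1))) (fun a => U.ι ⁻¹ᵁ Dg g a) (fun _ => le_top) hc fun a => ?_
    rw [← app_res, ← ht, ← sub_eq_zero]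
    refine (map_sub ((ClSub.toSubscheme (𝓙 ^ (n + 1))).app _).hom _ _).symm.trans ((toSub_pow_eq_zero_iff (hle a) (n + 1) _).2 ?_)
    have e : toD (hle a) (resX (U : Scheme.{u}) (le_top : U.ι ⁻¹ᵁ Dg g a ≤ ⊤) z) = cst (Dg g a) c := by
      refine (congrArg (toD (hle a)) ((congr($(U.ι.naturality (homOfLE (le_top : Dg g a ≤ ⊤)).op) (cst ⊤ c))).symm)).trans ?_
      exact (toD_app (hle a) _).trans (resX_cst _ c)
    refine (map_sub (toD (hle a)) _ _).symm ▸ ?_
    show toD (hle a) (resX (U : Scheme.{u}) (le_top : U.ι ⁻¹ᵁ Dg g a ≤ ⊤) z) - toD (hle a) (t n a) ∈ _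
    rw [show toD (hle a) (resX (U : Scheme.{u}) (le_top : U.ι ⁻¹ᵁ Dg g a ≤ ⊤) z) - toD (hle a) (t n a) =
      (cst (Dg g a) (b n) - toD (hle a) (t n a)) - cst (Dg g a) (b n - c) by rw [e, map_sub]; ring]
    exact Ideal.sub_mem _ (hb n a) (Ideal.mem_map_of_mem _ (hcl n))

/-- Formal functions on the punctured spectrum for all finite locally free modules. -/
theorem homToFormalBijective_punctured [IsLocalRing B] [IsNoetherianRing B] [IsAdicComplete J B] {x y : B}
    (hxm : x ∈ maximalIdeal B) (hym : y ∈ maximalIdeal B) (hreg : ∀ n, RegPair (J ^ (n + 1)) x y)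
    (E : (↑(FEt.puncturedSpec B) : Scheme.{u}).Modules) (hE : FlatMod.IsFinLocFree E) :
    Lef.HomToFormalBijective (closedIdeal (FEt.puncturedSpec B) J) E := by
  obtain ⟨s, hs⟩ := IsNoetherian.noetherian (maximalIdeal B)
  let g : s → B := fun a => a.1
  have hmem : ∀ z, D z ≤ FEt.puncturedSpec B → z ∈ maximalIdeal B := fun z hz hu =>
    hz (show IsLocalRing.closedPoint B ∈ D z from fun h => h hu) rfl
  have hg : ∀ a, g a ∈ maximalIdeal B := fun a => hs ▸ Submodule.subset_span a.2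
  have hle : ∀ a, Dg g a ≤ FEt.puncturedSpec B := fun a z hz e => by
    obtain rfl : z = IsLocalRing.closedPoint B := e
    exact hz (hg a)
  have hspan : Ideal.span (Set.range g) = maximalIdeal B := by
    rw [← hs]; exact congrArg Ideal.span (Subtype.range_val)
  have hcov : FEt.puncturedSpec B ≤ ⨆ a, Dg g a := fun z hz => by
    by_contra h
    refine hz (PrimeSpectrum.ext ((le_maximalIdeal z.isPrime.ne_top).antisymm ?_))
    show maximalIdeal B ≤ z.asIdeal
    rw [← hspan, Ideal.span_le]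
    rintro _ ⟨a, rfl⟩
    by_contra ha
    exact h (Opens.mem_iSup.2 ⟨a, ha⟩)
  have hrad : ∀ v ∈ maximalIdeal B, InRad g v := fun v hv => Ideal.le_radical (hspan.symm ▸ hv)
  have : CompactSpace ↥(↑(FEt.puncturedSpec B) : Scheme.{u}) := by
    have : NoetherianSpace ↥(SpB B) := inferInstance
    exact isCompact_iff_compactSpace.1 (NoetherianSpace.isCompact _)
  have := Scheme.IsQuasiAffine.of_isImmersion (FEt.puncturedSpec B).ι
  exact Groth.LefSections.QAff.of_structureModule _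
    (homToFormalBijective_structure hcov hle (hrad x hxm) (hrad y hym) hreg) E hE

end Groth.ParaLift82
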