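import Groth.Agent.ParaLift82.CoverLim
import Groth.Agent.ParaLift82.LefPunctured
import Groth.Agent.Pi1Inv.Thickening
import Groth.Agent.Pi1FEt.Colimits

/-!
# The formal cover of a punctured open lifting a cover of a hypersurface
-/

set_option autoImplicit false
set_option backward.isDefEq.respectTransparency false
universe u

open CategoryTheory AlgebraicGeometry TopologicalSpace Groth.PicAux Groth.ParaFormal Groth.Pi1FEt

namespace Groth.ParaLift82

variable {B : Type u} [CommRing B] (t : B) (U : (SpB B).Opens)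

/-- The ideal of the `n`-th thickening. -/
abbrev Jl (n : ℕ) : Ideal B := Ideal.span {t ^ (n + 1)}

/-- The `n`-th thickening of `V(t) ∩ U`. -/
noncomputable abbrev Ul (n : ℕ) : (SpB (B ⧸ Jl t n)).Opens := quotMap (Jl t n) ⁻¹ᵁ U

theorem Jl_le {m n : ℕ} (h : m ≤ n) : Jl t n ≤ Jl t m :=
  Ideal.span_singleton_le_span_singleton.2 (pow_dvd_pow t (Nat.succ_le_succ h))

/-- The closed immersions between thickenings. -/
noncomputable def fac {m n : ℕ} (h : m ≤ n) : SpB (B ⧸ Jl t m) ⟶ SpB (B ⧸ Jl t n) :=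
  Spec.map (CommRingCat.ofHom (Ideal.Quotient.factor (Jl_le t h)))

theorem fac_quotMap {m n : ℕ} (h : m ≤ n) : fac t h ≫ quotMap (Jl t n) = quotMap (Jl t m) := by
  rw [fac, ← Spec.map_comp, ← CommRingCat.ofHom_comp, Ideal.Quotient.factor_comp_mk]

/-- The transition maps of the thickenings. -/
noncomputable def tr {m n : ℕ} (h : m ≤ n) : (Ul t U m : Scheme.{u}) ⟶ Ul t U n :=
  (fac t h).resLE _ _ (by rw [← Scheme.Hom.comp_preimage, fac_quotMap])

theorem tr_restrict {m n : ℕ} (h : m ≤ n) :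
    tr t U h ≫ (quotMap (Jl t n) ∣_ U) = quotMap (Jl t m) ∣_ U := by
  rw [← cancel_mono U.ι, Category.assoc, morphismRestrict_ι, morphismRestrict_ι, tr,
    Scheme.Hom.resLE_comp_ι_assoc, fac_quotMap]

theorem tr_tr {l m n : ℕ} (h : l ≤ m) (h' : m ≤ n) : tr t U h ≫ tr t U h' = tr t U (h.trans h') := by
  have : IsClosedImmersion (quotMap (Jl t n)) :=
    IsClosedImmersion.spec_of_surjective _ Ideal.Quotient.mk_surjective
  rw [← cancel_mono (quotMap (Jl t n) ∣_ U), Category.assoc, tr_restrict, tr_restrict, tr_restrict]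

instance isClosedImmersion_tr {m n : ℕ} (h : m ≤ n) : IsClosedImmersion (tr t U h) := by
  have : ∀ k, IsClosedImmersion (quotMap (Jl t k)) := fun k =>
    IsClosedImmersion.spec_of_surjective _ Ideal.Quotient.mk_surjective
  have : IsClosedImmersion (tr t U h ≫ (quotMap (Jl t n) ∣_ U)) := by rw [tr_restrict]; infer_instance
  exact IsClosedImmersion.of_comp (tr t U h) (quotMap (Jl t n) ∣_ U)

instance surjective_tr {m n : ℕ} (h : m ≤ n) : Surjective (tr t U h) := ⟨fun y => by
  have ht : Ideal.Quotient.mk (Jl t n) t ∈ (y.1).asIdeal := (y.1).isPrime.mem_of_pow_mem (n + 1) (by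
    rw [← map_pow, Ideal.Quotient.eq_zero_iff_mem.2 (Ideal.mem_span_singleton_self _)]
    exact zero_mem _)
  obtain ⟨P, hP⟩ : y.1 ∈ Set.range (PrimeSpectrum.comap (Ideal.Quotient.factor (Jl_le t h))) := by
    rw [range_comap_of_surjective _ _ (Ideal.Quotient.factor_surjective (Jl_le t h)),
      PrimeSpectrum.mem_zeroLocus]
    intro c hc
    obtain ⟨c, rfl⟩ := Ideal.Quotient.mk_surjective c
    rw [SetLike.mem_coe, RingHom.mem_ker, Ideal.Quotient.factor_mk, Ideal.Quotient.eq_zero_iff_mem,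
      Ideal.mem_span_singleton] at hc
    obtain ⟨d, rfl⟩ := hc
    rw [SetLike.mem_coe, map_mul, map_pow]
    exact Ideal.mul_mem_right _ _ (Ideal.pow_mem_of_mem _ ht _ (Nat.succ_pos _))
  have hPU : P ∈ Ul t U m := by
    show quotMap (Jl t m) P ∈ U
    rw [← fac_quotMap t h, Scheme.Hom.comp_apply, show fac t h P = y.1 from hP]
    exact y.2
  refine ⟨⟨P, hPU⟩, Subtype.ext ?_⟩
  exact (congr($(Scheme.Hom.resLE_comp_ι (fac t h) (U := Ul t U n) (V := Ul t U m) _) ⟨P, hPU⟩)).trans hP⟩

theorem isPullback_tr (n : ℕ) : IsPullback (tr t U n.le_succ) (Ul t U n).ι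
    ((Ul t U (n + 1)).ι ≫ quotMap (Jl t (n + 1))) (quotMap (Jl t n)) := by
  have : IsClosedImmersion (quotMap (Jl t (n + 1))) :=
    IsClosedImmersion.spec_of_surjective _ Ideal.Quotient.mk_surjective
  rw [← morphismRestrict_ι (quotMap (Jl t (n + 1))) U]
  exact Groth.FormalAlg.isPullback_of_mono (tr_restrict t U n.le_succ) (isPullback_morphismRestrict _ U)

/-- An isomorphism with a restriction gives a cartesian square. -/
theorem isPullback_of_restrict_iso {X Y : Scheme.{u}} {f : X ⟶ Y} {V : FEt.Cat X} {Z : FEt.Cat Y}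
    (e : V ≅ (FEt.restrict f).obj Z) :
    IsPullback (e.hom.left ≫ Limits.pullback.fst Z.hom f) V.hom Z.hom f := by
  let el : V.left ≅ Limits.pullback Z.hom f :=
    (MorphismProperty.Over.forget FEt.prop ⊤ X ⋙ Over.forget X).mapIso e
  refine IsPullback.of_iso_pullback ⟨?_⟩ el rfl (Over.w e.hom.hom)
  rw [Category.assoc, Limits.pullback.condition, ← Category.assoc]
  exact congrArg (· ≫ f) (Over.w e.hom.hom)

/-- Covers of all thickenings lifting a given one. -/
theorem exists_levels (V₀ : FEt.Cat (Ul t U 0 : Scheme.{u})) :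
    ∃ (Y : ∀ n, FEt.Cat (Ul t U n : Scheme.{u})) (u : ∀ n, (Y n).left ⟶ (Y (n + 1)).left),
      (∀ n, IsPullback (u n) (Y n).hom (Y (n + 1)).hom (tr t U n.le_succ)) ∧
      Nonempty ((FEt.restrict (tr t U (le_refl 0))).obj (Y 0) ≅ V₀) := by
  let c : ∀ n, (Ul t U 0 : Scheme.{u}) ⟶ Ul t U n := fun n => tr t U (Nat.zero_le n)
  have : ∀ n, (FEt.restrict (c n)).IsEquivalence := fun n => Groth.Pi1Inv.isEquivalence_of_thickening (c n)
  let Y := fun n => (FEt.restrict (c n)).objPreimage V₀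
  let eY : ∀ n, (FEt.restrict (c n)).obj (Y n) ≅ V₀ := fun n => (FEt.restrict (c n)).objObjPreimageIso V₀
  let η : ∀ n, Y n ≅ (FEt.restrict (tr t U n.le_succ)).obj (Y (n + 1)) := fun n =>
    (FEt.restrict (c n)).preimageIso (eY n ≪≫ (eY (n + 1)).symm ≪≫
      (restrictCongr (tr_tr t U (Nat.zero_le n) n.le_succ)).symm.app (Y (n + 1)) ≪≫
      (restrictCompIso (c n) (tr t U n.le_succ)).app (Y (n + 1)))
  exact ⟨Y, fun n => (η n).hom.left ≫ Limits.pullback.fst (Y (n + 1)).hom (tr t U n.le_succ),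
    fun n => isPullback_of_restrict_iso (η n), ⟨eY 0⟩⟩

variable {t U} [IsNoetherianRing B] {ι : Type u} {g : ι → B}

/-- The system of covers as a `CoverSys`. -/
noncomputable def coverSys (hle : ∀ a, D (g a) ≤ U) (hcov : U ≤ ⨆ a, D (g a))
    (Y : ∀ n, FEt.Cat (Ul t U n : Scheme.{u})) (u : ∀ n, (Y n).left ⟶ (Y (n + 1)).left)
    (hu : ∀ n, IsPullback (u n) (Y n).hom (Y (n + 1)).hom (tr t U n.le_succ)) :
    CoverSys g t := by
  have hfin : ∀ n, IsFinite (Y n).hom := fun n => (Y n).prop.1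
  have het : ∀ n, Etale (Y n).hom := fun n => (Y n).prop.2
  have hD : ∀ n a, D (Ideal.Quotient.mk (Jl t n) (g a)) ≤ Ul t U n := fun n a =>
    (quotMap (Jl t n)).preimage_mono (hle a)
  have hcpt : ∀ n, CompactSpace ↥(Ul t U n : Scheme.{u}) := fun n =>
    isCompact_iff_compactSpace.1 (NoetherianSpace.isCompact _)
  refine {
    X := fun n => (Y n).left
    G := fun n => (Y n).hom ≫ (Ul t U n).ι
    u := u
    pb := fun n => by
      have h := (hu n).paste_vert (isPullback_tr t U n)
      rwa [← Category.assoc] at h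
    compact := fun n => by
      let π : (Y n).left ⟶ (Ul t U n : Scheme.{u}) := (Y n).hom
      haveI : IsFinite π := hfin n
      haveI : CompactSpace ↥(Ul t U n : Scheme.{u}) := hcpt n
      exact QuasiCompact.compactSpace_of_compactSpace π
    qsep := fun n => ?_
    affine := fun n a => ?_
    cover := fun n z => ?_
    flat := fun n => inferInstance
    finiteApp := fun n a => ?_ }
  · let π : (Y n).left ⟶ (Ul t U n : Scheme.{u}) := (Y n).hom
    haveI : IsFinite π := hfin n
    have : IsLocallyNoetherian (Y n).left := LocallyOfFiniteType.isLocallyNoetherian π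
    infer_instance
  · show IsAffineOpen ((Y n).hom ⁻¹ᵁ ((Ul t U n).ι ⁻¹ᵁ D (Ideal.Quotient.mk (Jl t n) (g a))))
    exact (isAffineOpen_preimage_D (hD n a)).preimage _
  · obtain ⟨a, ha⟩ := Opens.mem_iSup.1 (hcov ((Y n).hom z).2)
    exact ⟨a, ha⟩
  · rw [Scheme.Hom.comp_app, CommRingCat.hom_comp]
    have hiso : IsIso ((Ul t U n).ι.app (D (Ideal.Quotient.mk (Jl t n) (g a)))) :=
      Scheme.Hom.isIso_app _ _ (by rw [Scheme.Opens.opensRange_ι]; exact hD n a)
    refine (IsFinite.finite_app (Y n).hom _ (isAffineOpen_preimage_D (hD n a))).comp ?_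
    exact RingHom.Finite.of_surjective _ (ConcreteCategory.bijective_of_isIso _).2

end Groth.ParaLift82
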