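import Groth.Agent.ParaLift82.CoverTame

/-!
# The algebra of functions of a formal cover of a punctured open
-/

set_option autoImplicit false
universe u

open CategoryTheory AlgebraicGeometry TopologicalSpace Groth.PicAux Groth.ParaFormal

namespace Groth.ParaLift82

variable {B : Type u} [CommRing B] {ι : Type u} (g : ι → B) (t : B)

/-- A compatible system of covers of the thickenings of a hypersurface in the union of the `D (g a)`. -/
structure CoverSys where
  X : ℕ → Scheme.{u}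
  G : ∀ n, X n ⟶ SpB (B ⧸ Ideal.span {t ^ (n + 1)})
  u : ∀ n, X n ⟶ X (n + 1)
  pb : ∀ n, IsPullback (u n) (G n) (G (n + 1) ≫ quotMap _) (quotMap (Ideal.span {t ^ (n + 1)}))
  compact : ∀ n, CompactSpace (X n)
  qsep : ∀ n, QuasiSeparatedSpace (X n)
  affine : ∀ n a, IsAffineOpen ((G n ≫ quotMap _) ⁻¹ᵁ D (g a))
  cover : ∀ n (z : X n), ∃ a, z ∈ (G n ≫ quotMap _) ⁻¹ᵁ D (g a)
  flat : ∀ n, Flat (G n)
  finiteApp : ∀ n a, ((G n).app (D (Ideal.Quotient.mk _ (g a)))).hom.Finite

namespace CoverSys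

variable {g t} (S : CoverSys g t)

/-- The structure map to the base. -/
noncomputable abbrev F (n : ℕ) : S.X n ⟶ SpB B := S.G n ≫ quotMap _

instance (n : ℕ) : CompactSpace (S.X n) := S.compact n

instance (n : ℕ) : QuasiSeparatedSpace (S.X n) := S.qsep n

instance (n : ℕ) : Flat (S.G n) := S.flat n

theorem u_F (n : ℕ) : S.u n ≫ S.F (n + 1) = S.F n := (S.pb n).w

instance (n : ℕ) : IsClosedImmersion (S.u n) :=
  MorphismProperty.of_isPullback (S.pb n).flip
    (IsClosedImmersion.spec_of_surjective _ Ideal.Quotient.mk_surjective)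

theorem bcst_kill (n : ℕ) (O : (S.X n).Opens) : bcst (S.F n) O (t ^ (n + 1)) = 0 := by
  rw [bcst_comp, Ideal.Quotient.eq_zero_iff_mem.2 (Ideal.mem_span_singleton_self _), map_zero]

theorem kill (n : ℕ) (z : Sec (S.F n)) : t ^ (n + 1) • z = 0 := by
  rw [Algebra.smul_def, algebraMap_sec, S.bcst_kill]; exact zero_mul _

variable [Finite ι]

/-- The system of modules of global functions. -/
noncomputable def formalSys (ht : IsSMulRegular B t) : FormalSys g t fun n => Sec (S.F n) where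
  ρ n := (secMap (S.u_F n)).toLinearMap
  kill := S.kill
  sat n := sat_sec (S.F n) (S.cover n)
  surj n a z := exists_secMap_eq (S.u_F n) (S.affine (n + 1) a) z
  ker n a _ hy := exists_smul_of_secMap_eq_zero (S.u_F n) (S.pb n) (S.affine (n + 1) a) hy
  flat n a _ hy := exists_smul_of_flat (S.F n) ht (S.G n) rfl (S.affine n a) hy

variable [IsNoetherianRing B] [IsAdicComplete (Ideal.span {t}) B]

theorem flatApp (n : ℕ) (a : ι) : ((S.G n).app (D (Ideal.Quotient.mk _ (g a)))).hom.Flat := by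
  rw [Scheme.Hom.app_eq_appLE]
  exact (S.G n).flat_appLE (IsAffineOpen.Spec_basicOpen _) (S.affine n a) le_rfl

/-- The algebra of formal functions, given stabilization and finiteness at the bottom level. -/
theorem exists_algebra_of_stable (ht : IsSMulRegular B t)
    (hst : ∃ n₀, ∀ n ≥ n₀, ∀ x : Sec (S.F (n + 1)), ∃ (y : Sec (S.F (n + 1 + 1))) (x₀ : Sec (S.F n)),
      x = (S.formalSys ht).ρ (n + 1) y + (S.formalSys ht).T n x₀)
    (h0 : Module.Finite B (Sec (S.F 0))) :
    ∃ (L : Type u) (_ : CommRing L) (_ : Algebra B L) (_ : Module.Finite B L)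
      (π : ∀ n, L →ₐ[B] Sec (S.F n)),
      (∀ n l, secMap (S.u_F n) (π (n + 1) l) = π n l) ∧
      (∀ n l, π n l = 0 → ∃ z : L, l = t ^ (n + 1) • z) ∧
      (∀ n a (z : Sec (S.F n)), ∃ (k : ℕ) (l : L), π n l = g a ^ k • z) := by
  let Sy := S.formalSys ht
  obtain ⟨n₀, hs⟩ := hst
  have hfin : Module.Finite B Sy.lim := Sy.finite_lim h0
  let A : Subalgebra B (∀ n, Sec (S.F n)) := Sy.lim.toSubalgebra (fun n => map_one (secMap (S.u_F n)))
    fun l l' hl hl' n => by
      show secMap (S.u_F n) (l (n + 1) * l' (n + 1)) = l n * l' n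
      rw [map_mul]; exact congrArg₂ _ (hl n) (hl' n)
  refine ⟨A, inferInstance, inferInstance, hfin, fun n => (Pi.evalAlgHom B _ n).comp A.val,
    fun n l => l.2 n, fun n l hl => ?_, fun n a z => ?_⟩
  · obtain ⟨z, hz⟩ := Sy.exists_eq_pow_smul n (x := ⟨l.1, l.2⟩) hl
    exact ⟨⟨z.1, z.2⟩, Subtype.ext (congrArg Subtype.val hz :)⟩
  · obtain ⟨k, l, hl⟩ := Sy.lim_surj hs n a z
    exact ⟨k, ⟨l.1, l.2⟩, hl⟩

/-- The algebra of formal functions is finite, and induces each level locally on the cover. -/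
theorem exists_algebra (ht : IsSMulRegular B t) {x y w : B} (h : RegTriple (Ideal.span {t}) x y w)
    (hx : InRad g x) (hy : InRad g y) (hw : InRad g w) :
    ∃ (L : Type u) (_ : CommRing L) (_ : Algebra B L) (_ : Module.Finite B L)
      (π : ∀ n, L →ₐ[B] Sec (S.F n)),
      (∀ n l, secMap (S.u_F n) (π (n + 1) l) = π n l) ∧
      (∀ n l, π n l = 0 → ∃ z : L, l = t ^ (n + 1) • z) ∧
      (∀ n a (z : Sec (S.F n)), ∃ (k : ℕ) (l : L), π n l = g a ^ k • z) := by
  have h' : RegTriple (Ideal.span {t ^ (0 + 1)}) x y w := by rwa [zero_add, pow_one]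
  let Sy := S.formalSys ht
  have hloc := locDual_sec (I := Ideal.span {t ^ (0 + 1)}) (S.F 0) (S.G 0) rfl (sat_quotient h'.pair hx hy)
    (S.finiteApp 0) (S.flatApp 0)
  obtain ⟨W, Z, _, _, _, _, _, _, e, R, he, hRe, hex, hZ, hprim⟩ :=
    exists_tame h' hx hy hw (Sy.sat 0) (fun i hi z => by
      obtain ⟨c, rfl⟩ := Ideal.mem_span_singleton'.1 hi
      rw [mul_smul, S.kill, smul_zero]) hloc
  have H : FormalSys.Tame (M := fun n => Sec (S.F n)) g e R := ⟨he, hRe, hex, hZ, hprim⟩
  exact S.exists_algebra_of_stable ht (Sy.exists_stable H) (finite_of_injective e he)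

end CoverSys

end Groth.ParaLift82
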