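import Groth.Agent.ParaLift82.Lift
import Groth.Agent.PicAux.Pullback
import Groth.Prelude.Def_FEt

/-!
# Triviality of the Picard group of a punctured spectrum lifts along an ideal
-/

set_option autoImplicit false
universe u

open CategoryTheory AlgebraicGeometry TopologicalSpace Groth.PicAux Groth.ParaFormal IsLocalRing

namespace Groth.ParaLift82

variable {B : Type u} [CommRing B] (J : Ideal B)

/-- The closed subscheme cut out by `J`. -/
noncomputable abbrev quotMap : SpB (B ⧸ J) ⟶ SpB B :=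
  Spec.map (CommRingCat.ofHom (Ideal.Quotient.mk J))

theorem quotMap_preimage (g : B) : quotMap J ⁻¹ᵁ D g = D (Ideal.Quotient.mk J g) := rfl

theorem app_cst (O : (SpB B).Opens) (a : B) :
    (quotMap J).app O (cst O a) = cst _ (Ideal.Quotient.mk J a) := by
  simp only [cst, RingHom.comp_apply]
  rw [app_resX]
  have h := congr($((Scheme.ΓSpecIso_inv_naturality
    (CommRingCat.ofHom (Ideal.Quotient.mk J)))) a)
  exact congrArg _ h.symm

variable {J}

theorem app_surjective {O : (SpB B).Opens} {g : B} (hO : O = D g)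
    (y : Γ(SpB (B ⧸ J), quotMap J ⁻¹ᵁ O)) : ∃ x, (quotMap J).app O x = y := by
  obtain ⟨k, b, hb⟩ := num (by rw [hO]; exact quotMap_preimage J g) y
  obtain ⟨a, rfl⟩ := Ideal.Quotient.mk_surjective b
  obtain ⟨x, hx⟩ := exists_div hO.le k (cst O a)
  refine ⟨x, (isUnit_cst_pow (O := quotMap J ⁻¹ᵁ O)
    (by rw [hO]; exact (quotMap_preimage J g).le) k).mul_left_cancel ?_⟩
  rw [hb, ← app_cst J O a, ← hx, map_mul, app_cst]
  simp only [map_pow]

theorem mem_of_app_eq_zero {O : (SpB B).Opens} {g : B} (hO : O = D g) {x : Γ(SpB B, O)}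
    (h : (quotMap J).app O x = 0) : x ∈ idl J O := by
  obtain ⟨k, a, hka⟩ := num hO x
  have h1 := congrArg ((quotMap J).app O) hka
  rw [map_mul, h, mul_zero, app_cst, eq_comm,
    cst_eq_zero_iff (g := Ideal.Quotient.mk J g) (by rw [hO]; exact quotMap_preimage J g)] at h1
  obtain ⟨p, hp⟩ := h1
  refine (mul_cst_mem_iff hO.le k).1 ?_
  rw [hka, cst_mem_iff hO]
  exact ⟨p, Ideal.Quotient.eq_zero_iff_mem.1 (by rw [map_mul, map_pow]; exact hp)⟩

theorem restrict_preimage (U O : (SpB B).Opens) :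
    (quotMap J ∣_ U) ⁻¹ᵁ (U.ι ⁻¹ᵁ O) = (quotMap J ⁻¹ᵁ U).ι ⁻¹ᵁ (quotMap J ⁻¹ᵁ O) := by
  rw [← Scheme.Hom.comp_preimage, morphismRestrict_ι, Scheme.Hom.comp_preimage]

theorem frames_pull {ι : Type u} {g : ι → B} {η : ∀ a b, Γ(SpB B, Dg g a ⊓ Dg g b)}
    {P : (SpB B).Opens} {L : (P : Scheme.{u}).Modules}
    {e : ∀ a, Γ(L, P.ι ⁻¹ᵁ Dg g a)} (hF : Frames η L e) :
    Frames (U := fun a => quotMap J ⁻¹ᵁ Dg g a)
      (fun a b => (quotMap J).app (Dg g a ⊓ Dg g b) (η a b))
      ((Scheme.Modules.pullback (quotMap J ∣_ P)).obj L)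
      (fun a => res _ (restrict_preimage _ _).ge (pullSec (quotMap J ∣_ P) L (e a))) := by
  let U := P
  let k := quotMap J ∣_ U
  refine ⟨fun a => ((hF.1 a).pull k).res _, fun a b W ha hb => ?_⟩
  let V : (U : Scheme.{u}).Opens := U.ι ⁻¹ᵁ Dg g a ⊓ U.ι ⁻¹ᵁ Dg g b
  have hW : W ≤ k ⁻¹ᵁ V := le_inf (ha.trans (restrict_preimage _ _).ge) (hb.trans (restrict_preimage _ _).ge)
  have h1 := congrArg (fun m => res _ hW (pullSec k L m)) (hF.2 a b V inf_le_left inf_le_right)
  simp only [pullSec_smul, res_smul, ← res_pullSec, res_res] at h1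
  simp only [res_res]
  refine h1.trans (congrArg (· • _) ?_)
  simp only [toP, k, morphismRestrict_app', Scheme.Hom.appLE]
  change resX _ hW (resX (SpB (B ⧸ J)) _ ((quotMap J).app _ (resX (SpB B) _ (η a b)))) = _
  rw [app_resX, resX_open, resX_resX]
  exact resX_resX _ _ _

variable {ι : Type u} {g : ι → B}

/-- The inverse cocycle. -/
noncomputable def swapCocycle (η : ∀ a b, Γ(SpB B, Dg g a ⊓ Dg g b)) :
    ∀ a b, Γ(SpB B, Dg g a ⊓ Dg g b) :=
  fun a b => resX _ (le_inf inf_le_right inf_le_left) (η b a)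

variable {η : ∀ a b, Γ(SpB B, Dg g a ⊓ Dg g b)}

theorem isCocycle_swap (hη : IsCocycle (Dg g) η) : IsCocycle (Dg g) (swapCocycle η) :=
  ⟨fun a b => (hη.unit b a).map _, fun a b d W ha hb hd => by
    simp only [swapCocycle, resX_resX]
    rw [hη.rel d b a W hd hb ha, mul_comm]⟩

theorem mul_swapCocycle (hη : IsCocycle (Dg g) η) (a b : ι) : η a b * swapCocycle η a b = 1 := by
  have := hη.rel a b a (Dg g a ⊓ Dg g b) inf_le_left inf_le_right inf_le_left
  rw [hη.diag a _ inf_le_left, resX_self] at this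
  exact this.symm

/-- A trivialisation on the closed subscheme lifts to approximate trivialisations. -/
theorem exists_approx {P : (SpB B).Opens} {L : (P : Scheme.{u}).Modules}
    {e : ∀ a, Γ(L, P.ι ⁻¹ᵁ Dg g a)} (hUP : ∀ a, Dg g a ≤ P) (hη : IsCocycle (Dg g) η)
    (hF : Frames η L e)
    (h0 : Nonempty ((Scheme.Modules.pullback (quotMap J ∣_ P)).obj L ≅ Coh.structureModule _)) :
    ∃ t s : ∀ a, Γ(SpB B, Dg g a), (∀ a, t a * s a - 1 ∈ idl J (Dg g a)) ∧
      Approx η J t ∧ Approx (swapCocycle η) J s := by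
  obtain ⟨σ, hσ⟩ := nonempty_iso_structure_iff.1 h0
  have hCob : Cob (fun a => quotMap J ⁻¹ᵁ Dg g a)
      (fun a b => (quotMap J).app (Dg g a ⊓ Dg g b) (η a b)) ⊤ :=
    (frames_pull hF).cob_of_gen (fun a => (quotMap J).preimage_mono (hUP a)) (O := ⊤) (s := res _ le_top σ)
      (hσ.res le_top)
  obtain ⟨c₀, hu₀, hc₀⟩ := hCob
  let c : ∀ a, Γ(SpB (B ⧸ J), quotMap J ⁻¹ᵁ Dg g a) := fun a => resX _ (le_inf le_rfl le_top) (c₀ a)
  have hu : ∀ a, IsUnit (c a) := fun a => (hu₀ a).map _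
  have hcab : ∀ a b, resX _ ((quotMap J).preimage_mono inf_le_right) (c b) =
      resX _ ((quotMap J).preimage_mono (inf_le_left : Dg g a ⊓ Dg g b ≤ _)) (c a) *
        (quotMap J).app (Dg g a ⊓ Dg g b) (η a b) := fun a b => by
    simp only [c, resX_resX]
    have := hc₀ a b (quotMap J ⁻¹ᵁ (Dg g a ⊓ Dg g b)) ((quotMap J).preimage_mono inf_le_left)
      ((quotMap J).preimage_mono inf_le_right) le_top
    exact this.trans (congrArg _ (resX_self (X := SpB (B ⧸ J)) _ _))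
  choose t₁ ht₁ using fun a => app_surjective (J := J) (O := Dg g a) rfl (c a)
  choose s₁ hs₁ using fun a => app_surjective (J := J) (O := Dg g a) rfl (↑(hu a).unit⁻¹ : Γ(SpB (B ⧸ J), _))
  have hts : ∀ a, t₁ a * s₁ a - 1 ∈ idl J (Dg g a) := fun a => mem_of_app_eq_zero rfl (by
    rw [map_sub, map_mul, map_one, ht₁, hs₁, IsUnit.mul_val_inv, sub_self])
  have happ₁ : Approx η J t₁ := fun a b => mem_of_app_eq_zero (D_mul _ _).symm (by
    rw [map_sub, map_mul, app_resX, app_resX, ht₁, ht₁, hcab, sub_self])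
  have happ' : Approx (swapCocycle η) J s₁ := fun a b => mem_of_app_eq_zero (D_mul _ _).symm (by
    rw [map_sub, map_mul, app_resX, app_resX, hs₁, hs₁, sub_eq_zero]
    refine ((hu b).map (resX _ ((quotMap J).preimage_mono inf_le_right))).mul_left_cancel ?_
    rw [← map_mul, IsUnit.mul_val_inv, map_one, hcab a b,
      mul_mul_mul_comm, ← map_mul, ← map_mul, IsUnit.mul_val_inv, mul_swapCocycle hη, map_one, map_one, mul_one])
  exact ⟨t₁, s₁, hts, happ₁, happ'⟩

variable [IsLocalRing B] [IsNoetherianRing B]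

theorem exists_frame_cover (L : (↑(FEt.puncturedSpec B) : Scheme.{u}).Modules) (hL : PicF.IsInvertible L) :
    ∃ (ι : Type u) (_ : Finite ι) (g : ι → B) (e : ∀ a, Γ(L, (FEt.puncturedSpec B).ι ⁻¹ᵁ Dg g a)),
      (∀ a, g a ∈ maximalIdeal B) ∧ FEt.puncturedSpec B ≤ ⨆ a, Dg g a ∧
      (∀ a, Dg g a ≤ FEt.puncturedSpec B) ∧ (∀ x ∈ maximalIdeal B, InRad g x) ∧
      ∀ a, Gen L ((FEt.puncturedSpec B).ι ⁻¹ᵁ Dg g a) (e a) := by
  classical
  let U := FEt.puncturedSpec B
  choose V e hmem he using (isInvertible_iff_exists_gen L).1 hL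
  have hbas : ∀ z : (U : Scheme.{u}), ∃ g : B, g ∈ maximalIdeal B ∧ g ∉ z.1.asIdeal ∧
      U.ι ⁻¹ᵁ D g ≤ V z := by
    intro z
    obtain ⟨_, ⟨c, rfl⟩, hzc, hcV⟩ := PrimeSpectrum.isTopologicalBasis_basic_opens.exists_subset_of_mem_open
      (show z.1 ∈ SetLike.coe (U.ι ''ᵁ V z) from ⟨z, hmem z, rfl⟩)
      (U.ι ''ᵁ V z).isOpen
    refine ⟨c, ?_, hzc, fun w hw => ?_⟩
    · by_contra hc
      obtain ⟨w, -, hw⟩ := hcV (a := closedPoint B) hc
      exact w.2 hw
    · obtain ⟨w', hw', e'⟩ := hcV (a := w.1) hw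
      rwa [← U.ι.isOpenEmbedding.injective e']
  choose g₀ hgm hg₀ hgV using hbas
  have hcompact : CompactSpace (U : Scheme.{u}) := by
    have : QuasiCompact U.ι := inferInstance
    exact QuasiCompact.compactSpace_of_compactSpace U.ι
  obtain ⟨S, hS⟩ := CompactSpace.elim_nhds_subcover
    (fun z : (U : Scheme.{u}) => ((U.ι ⁻¹ᵁ D (g₀ z) : (U : Scheme.{u}).Opens) : Set (U : Scheme.{u})))
    fun z => (U.ι ⁻¹ᵁ D (g₀ z)).2.mem_nhds (hg₀ z)
  have hUP : ∀ a : S, D (g₀ a.1) ≤ U := fun a z hz hc => hz (by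
    rw [show z = closedPoint B from hc]; exact hgm _)
  have hcov : U ≤ ⨆ a : S, D (g₀ a.1) := fun z hz => by
    obtain ⟨a, ha, hza⟩ := Set.mem_iUnion₂.1 (hS.ge (Set.mem_univ (⟨z, hz⟩ : (U : Scheme.{u}))))
    exact Opens.mem_iSup.2 ⟨⟨a, ha⟩, hza⟩
  refine ⟨S, inferInstance, fun a => g₀ a.1, fun a => res L (hgV a.1) (e a.1), fun a => hgm _, hcov,
    hUP, fun x hx => ?_, fun a => (he a.1).res _⟩
  rw [InRad, Ideal.radical_eq_sInf, Submodule.mem_sInf]
  rintro p ⟨hp, hpp⟩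
  by_contra hxp
  have hzU : (⟨p, hpp⟩ : PrimeSpectrum B) ∈ U := fun hc =>
    hxp (by rw [show p = maximalIdeal B from congrArg PrimeSpectrum.asIdeal hc]; exact hx)
  obtain ⟨a, ha⟩ := Opens.mem_iSup.1 (hcov hzU)
  exact ha (hp (Ideal.subset_span ⟨a, rfl⟩))

theorem quotMap_preimage_punctured (hJt : J ≠ ⊤) [IsLocalRing (B ⧸ J)] :
    quotMap J ⁻¹ᵁ FEt.puncturedSpec B = FEt.puncturedSpec (B ⧸ J) := by
  have hc : PrimeSpectrum.comap (Ideal.Quotient.mk J) (closedPoint (B ⧸ J)) = closedPoint B := by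
    have := IsLocalHom.of_surjective (Ideal.Quotient.mk J) Ideal.Quotient.mk_surjective
    exact IsLocalRing.comap_closedPoint _
  ext z
  exact not_congr ⟨fun e => PrimeSpectrum.comap_injective_of_surjective _ Ideal.Quotient.mk_surjective
    (e.trans hc.symm), fun e => e ▸ hc⟩

/-- An invertible module on the punctured spectrum of `B` is trivial if it is so on that of `B / J`. -/
theorem trivial_of_section (hJt : J ≠ ⊤) [IsLocalRing (B ⧸ J)] (hJ : FreeGr J) {x y w : B}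
    (hxm : x ∈ maximalIdeal B) (hym : y ∈ maximalIdeal B) (hwm : w ∈ maximalIdeal B)
    (h : RegTriple J x y w)
    (L : (↑(FEt.puncturedSpec B) : Scheme.{u}).Modules) (hL : PicF.IsInvertible L)
    (h0 : Nonempty ((Scheme.Modules.pullback (quotMap J ∣_ FEt.puncturedSpec B)).obj L ≅
      Coh.structureModule _)) : Nonempty (L ≅ Coh.structureModule _) := by
  obtain ⟨ι, hι, g, e, hgm, hcov, hUP, hrad, he⟩ := exists_frame_cover L hL
  obtain ⟨η, hη, hF⟩ := exists_cocycle hUP he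
  have hJm : J ≤ maximalIdeal B := le_maximalIdeal hJt
  have hJac : J ≤ Ideal.jacobson ⊥ := hJm.trans (maximalIdeal_le_jacobson _)
  obtain ⟨t₁, s₁, hts, happ₁, happ'⟩ := exists_approx hUP hη hF h0
  have hη' := isCocycle_swap hη
  have hηη' := mul_swapCocycle hη
  have hx := hrad x hxm
  have hy := hrad y hym
  have hw := hrad w hwm
  have hreg : ∀ n, RegPair (J ^ (n + 1)) x y := fun n => (regTriple_pow hJ h n).pair
  obtain ⟨t, ht, htt⟩ := exists_exact hη hJac hreg hx hy t₁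
    (lift_all hJ h hx hy hw hη t₁ s₁ hts happ₁)
  obtain ⟨s, hs, hss⟩ := exists_exact hη' hJac hreg hx hy s₁
    (lift_all hJ h hx hy hw hη' s₁ t₁ (fun a => by rw [mul_comm]; exact hts a) happ')
  have hbot := (regTriple_bot hJ hJt hxm hym h).pair
  obtain ⟨z, hz⟩ := sat_glue hbot hx hy (fun a => t a * s a) fun a b => by
    rw [map_mul, map_mul, ht a b, hs a b, mul_mul_mul_comm _ (η a b), hηη', mul_one, sub_self]
    exact zero_mem _
  have hz1 : z - 1 ∈ J := sat_inj h.pair hx fun a => by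
    have hza : cst (Dg g a) z = t a * s a := by simpa [idl, sub_eq_zero] using hz a
    rw [map_sub, map_one, hza, show t a * s a - 1 =
      (t a - t₁ a) * s a + t₁ a * (s a - s₁ a) + (t₁ a * s₁ a - 1) by ring]
    exact Ideal.add_mem _ (Ideal.add_mem _ (Ideal.mul_mem_right _ _ (htt a))
      (Ideal.mul_mem_left _ _ (hss a))) (hts a)
  have hzu : IsUnit z := by
    by_contra hc
    exact (maximalIdeal.isMaximal B).ne_top ((Ideal.eq_top_iff_one _).2
      (by simpa using Ideal.sub_mem _ (show z ∈ maximalIdeal B from hc) (hJm hz1)))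
  have htu : ∀ a, IsUnit (t a) := fun a => isUnit_of_mul_isUnit_left (y := s a) (by
    have hza : cst (Dg g a) z = t a * s a := by simpa [idl, sub_eq_zero] using hz a
    exact hza ▸ hzu.map _)
  have hCob' : Cob (Dg g) η ⊤ := ⟨fun a => resX _ inf_le_left (t a), fun a => (htu a).map _,
    fun a b W ha hb hO => by
      have h2 := congrArg (resX _ (le_inf ha hb)) (ht a b)
      simpa [map_mul, resX_resX] using h2⟩
  obtain ⟨σ, hσ⟩ := hF.gen_of_cob hcov hCob'
  exact nonempty_iso_structure_iff.2 ⟨σ, hσ⟩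

/-- If the punctured spectrum of `B / J` has trivial Picard group then so has that of `B`. -/
theorem picTrivial_of_quotient (hJt : J ≠ ⊤) [IsLocalRing (B ⧸ J)] (hJ : FreeGr J) {x y w : B}
    (hxm : x ∈ maximalIdeal B) (hym : y ∈ maximalIdeal B) (hwm : w ∈ maximalIdeal B)
    (h : RegTriple J x y w)
    (h0 : ParaF.PicTrivial (↑(FEt.puncturedSpec (B ⧸ J)) : Scheme.{u})) :
    ParaF.PicTrivial (↑(FEt.puncturedSpec B) : Scheme.{u}) := fun L hL => by
  refine trivial_of_section hJt hJ hxm hym hwm h L hL ?_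
  have h1 : ParaF.PicTrivial (↑(quotMap J ⁻¹ᵁ FEt.puncturedSpec B) : Scheme.{u}) := by
    rw [quotMap_preimage_punctured hJt]; exact h0
  exact h1 _ (isInvertible_pullback _ hL)

end Groth.ParaLift82
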