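import Groth.Agent.ParaLift82.FormalSys
import Groth.Agent.ParaLift82.Basic
import Mathlib.AlgebraicGeometry.Morphisms.QuasiSeparated
import Mathlib.AlgebraicGeometry.AffineScheme
import Groth.Agent.FormalAlg.Sections
import Groth.Agent.ParaLift82.Main

/-!
# Global functions of a scheme over an affine scheme as a saturated module
-/

set_option autoImplicit false
universe u

open CategoryTheory AlgebraicGeometry TopologicalSpace Groth.PicAux Groth.ParaFormal

namespace Groth.ParaLift82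

variable {B : Type u} [CommRing B] {X : Scheme.{u}} (F : X ⟶ SpB B)

/-- Constants as functions on an open of a scheme over `B`. -/
noncomputable def bcst (O : X.Opens) : B →+* Γ(X, O) :=
  (resX X (le_top : O ≤ ⊤)).comp (F.appTop.hom.comp (Scheme.ΓSpecIso (CommRingCat.of B)).inv.hom)

@[simp]
theorem resX_bcst {O O' : X.Opens} (h : O' ≤ O) (b : B) : resX X h (bcst F O b) = bcst F O' b := by
  simp [bcst, RingHom.comp_apply]

/-- Global functions, as an algebra over the base. -/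
@[nolint unusedArguments]
def Sec (_F : X ⟶ SpB B) : Type u := Γ(X, ⊤)

noncomputable instance : CommRing (Sec F) := inferInstanceAs (CommRing Γ(X, ⊤))

noncomputable instance : Algebra B (Sec F) := (bcst F ⊤).toAlgebra

theorem algebraMap_sec (b : B) : algebraMap B (Sec F) b = bcst F ⊤ b := rfl

/-- Restriction of a global function. -/
noncomputable def secRes (O : X.Opens) : Sec F →+* Γ(X, O) := resX X (le_top : O ≤ ⊤)

theorem secRes_smul (O : X.Opens) (b : B) (x : Sec F) : secRes F O (b • x) = bcst F O b * secRes F O x := by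
  rw [Algebra.smul_def, map_mul, algebraMap_sec]
  congr 1
  exact resX_bcst F _ b

@[simp]
theorem resX_secRes {O O' : X.Opens} (h : O' ≤ O) (x : Sec F) : resX X h (secRes F O x) = secRes F O' x :=
  resX_resX (X := X) (le_top : O ≤ ⊤) h x

theorem preimage_D (b : B) : F ⁻¹ᵁ D b = X.basicOpen (bcst F ⊤ b) := by
  rw [show D b = (SpB B).basicOpen ((Scheme.ΓSpecIso (CommRingCat.of B)).inv b) from
    (basicOpen_eq_of_affine (R := CommRingCat.of B) b).symm, Scheme.preimage_basicOpen_top]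
  congr 1
  simp [bcst, RingHom.comp_apply]

theorem isUnit_bcst {O : X.Opens} {b : B} (h : O ≤ F ⁻¹ᵁ D b) (k : ℕ) : IsUnit (bcst F O (b ^ k)) := by
  rw [map_pow]
  refine IsUnit.pow k ?_
  have h1 : IsUnit (resX X (X.basicOpen_le (bcst F ⊤ b)) (bcst F ⊤ b)) :=
    RingedSpace.isUnit_res_basicOpen _ (bcst F ⊤ b)
  rw [resX_bcst] at h1
  have h2 := h1.map (resX X (h.trans (preimage_D F b).le))
  rwa [resX_bcst] at h2

variable [CompactSpace X] [QuasiSeparatedSpace X]

theorem isLocalization_preimage_D (b : B) :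
    letI := (secRes F (X.basicOpen (bcst F ⊤ b))).toAlgebra
    IsLocalization.Away (algebraMap B (Sec F) b) Γ(X, X.basicOpen (bcst F ⊤ b)) :=
  isLocalization_basicOpen_of_qcqs (X := X) (U := ⊤) isCompact_univ
    (isQuasiSeparated_univ) (bcst F ⊤ b)

theorem sec_num {O : X.Opens} {b : B} (h : O = F ⁻¹ᵁ D b) (y : Γ(X, O)) :
    ∃ (k : ℕ) (x : Sec F), secRes F O x = bcst F O (b ^ k) * y := by
  obtain rfl : O = X.basicOpen (bcst F ⊤ b) := h.trans (preimage_D F b)
  letI := (secRes F (X.basicOpen (bcst F ⊤ b))).toAlgebra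
  haveI := isLocalization_preimage_D F b
  obtain ⟨k, x, hx⟩ := IsLocalization.Away.surj (algebraMap B (Sec F) b) y
  refine ⟨k, x, ?_⟩
  rw [map_pow, mul_comm, ← show _ = secRes F _ x from hx]
  congr 2
  exact resX_bcst F _ b

theorem sec_zero {O : X.Opens} {b : B} (h : O = F ⁻¹ᵁ D b) {x : Sec F} (hx : secRes F O x = 0) :
    ∃ k : ℕ, b ^ k • x = 0 := by
  obtain rfl : O = X.basicOpen (bcst F ⊤ b) := h.trans (preimage_D F b)
  letI := (secRes F (X.basicOpen (bcst F ⊤ b))).toAlgebra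
  haveI := isLocalization_preimage_D F b
  obtain ⟨⟨_, k, rfl⟩, hk⟩ := (IsLocalization.map_eq_zero_iff (Submonoid.powers (algebraMap B (Sec F) b))
    Γ(X, X.basicOpen (bcst F ⊤ b)) x).1 hx
  exact ⟨k, by rw [Algebra.smul_def, map_pow]; exact hk⟩

variable {ι : Type u} [Finite ι] {g : ι → B}

theorem sat_sec (hcov : ∀ z : X, ∃ a, z ∈ F ⁻¹ᵁ D (g a)) : Sat g (Sec F) := by
  cases nonempty_fintype ι
  let W : ι → X.Opens := fun a => F ⁻¹ᵁ D (g a)
  have hc : (⊤ : X.Opens) ≤ ⨆ a, W a := fun z _ => Opens.mem_iSup.2 (hcov z)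
  refine ⟨fun x hx => resX_ext W (fun _ => le_top) hc fun a => ?_, fun N y hy => ?_⟩
  · obtain ⟨k, hk⟩ := hx a
    have h1 := congrArg (secRes F (W a)) hk
    rw [secRes_smul, map_zero, (isUnit_bcst F (le_refl (W a)) k).mul_right_eq_zero] at h1
    exact h1.trans (map_zero _).symm
  · choose v hv using fun a => (isUnit_bcst F (le_refl (W a)) N).exists_right_inv
    let s : ∀ a, Γ(X, W a) := fun a => v a * secRes F (W a) (y a)
    obtain ⟨x, hx⟩ := TopCat.Sheaf.existsUnique_gluing' X.sheaf W ⊤ (fun _ => homOfLE le_top) hc s fun a b => by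
      refine (isUnit_bcst F (O := W a ⊓ W b) inf_le_left N).mul_left_cancel ?_
      refine (isUnit_bcst F (O := W a ⊓ W b) inf_le_right N).mul_left_cancel ?_
      have e := congrArg (secRes F (W a ⊓ W b)) (hy a b)
      rw [secRes_smul, secRes_smul] at e
      have ha : bcst F (W a ⊓ W b) (g a ^ N) * resX X inf_le_left (v a) = 1 := by
        rw [← resX_bcst F (inf_le_left : W a ⊓ W b ≤ W a), ← map_mul, hv, map_one]
      have hb : bcst F (W a ⊓ W b) (g b ^ N) * resX X inf_le_right (v b) = 1 := by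
        rw [← resX_bcst F (inf_le_right : W a ⊓ W b ≤ W b), ← map_mul, hv, map_one]
      show bcst F (W a ⊓ W b) (g b ^ N) * (bcst F (W a ⊓ W b) (g a ^ N) * resX X inf_le_left (s a)) =
        bcst F (W a ⊓ W b) (g b ^ N) * (bcst F (W a ⊓ W b) (g a ^ N) * resX X inf_le_right (s b))
      simp only [s, map_mul, resX_secRes] at e ⊢
      linear_combination
        (bcst F (W a ⊓ W b) (g b ^ N) * secRes F (W a ⊓ W b) (y a)) * ha -
        (bcst F (W a ⊓ W b) (g a ^ N) * secRes F (W a ⊓ W b) (y b)) * hb + e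
    let x' : Sec F := x
    have hx' : ∀ a, bcst F (W a) (g a ^ N) * secRes F (W a) x' = secRes F (W a) (y a) := fun a => by
      rw [show secRes F (W a) x' = s a from hx.1 a, ← mul_assoc, hv, one_mul]
    have hz : ∀ a, ∃ k, g a ^ k • (g a ^ N • x' - y a) = 0 := fun a =>
      sec_zero F (O := W a) rfl (by rw [map_sub, secRes_smul]; exact sub_eq_zero.2 (hx' a))
    choose k hk using hz
    refine ⟨x', Finset.univ.sup k, fun a => ?_⟩
    obtain ⟨d, hd⟩ := Nat.exists_eq_add_of_le (Finset.le_sup (f := k) (Finset.mem_univ a))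
    have h1 := hk a
    rw [smul_sub, sub_eq_zero] at h1
    rw [pow_add, mul_smul, hd, add_comm (k a), pow_add, mul_smul, mul_smul, h1]

omit [CompactSpace X] [QuasiSeparatedSpace X] in
theorem bcst_eq_baseHom (O : X.Opens) : bcst F O = Groth.FormalAlg.baseHom F O := RingHom.ext fun b => rfl

section Transition

variable {Y : Scheme.{u}} {FX : X ⟶ SpB B} {FY : Y ⟶ SpB B} {u : X ⟶ Y} (hu : u ≫ FY = FX)
include hu

omit [CompactSpace X] [QuasiSeparatedSpace X] in
theorem app_bcst (O : Y.Opens) (b : B) : u.app O (bcst FY O b) = bcst FX (u ⁻¹ᵁ O) b := by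
  subst hu
  simp only [bcst, RingHom.comp_apply]
  rw [app_resX]
  rfl

/-- Pullback of global functions. -/
noncomputable def secMap : Sec FY →ₐ[B] Sec FX where
  toRingHom := u.appTop.hom
  commutes' b := app_bcst hu ⊤ b

omit [CompactSpace X] [QuasiSeparatedSpace X] in
theorem secRes_secMap (O : Y.Opens) (x : Sec FY) :
    secRes FX (u ⁻¹ᵁ O) (secMap hu x) = u.app O (secRes FY O x) := (app_resX u (le_top : O ≤ ⊤) x).symm

variable [CompactSpace Y] [QuasiSeparatedSpace Y]

theorem exists_secMap_eq [IsClosedImmersion u] {b : B} (hb : IsAffineOpen (FY ⁻¹ᵁ D b)) (x : Sec FX) :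
    ∃ (k : ℕ) (y : Sec FY), secMap hu y = b ^ k • x := by
  obtain ⟨y', hy'⟩ := u.app_surjective _ hb (secRes FX (u ⁻¹ᵁ (FY ⁻¹ᵁ D b)) x)
  obtain ⟨k, z, hz⟩ := sec_num FY (O := FY ⁻¹ᵁ D b) rfl y'
  have h1 : secRes FX (u ⁻¹ᵁ (FY ⁻¹ᵁ D b)) (secMap hu z - b ^ k • x) = 0 := by
    rw [map_sub, secRes_smul, secRes_secMap, hz, map_mul, app_bcst hu, hy', sub_self]
  obtain ⟨l, hl⟩ := sec_zero FX (b := b) (by rw [← hu]; rfl) h1
  rw [smul_sub, sub_eq_zero] at hl
  exact ⟨l + k, b ^ l • z, by rw [map_smul, hl, smul_smul, pow_add]⟩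

omit [CompactSpace X] [QuasiSeparatedSpace X] in
theorem exists_smul_of_secMap_eq_zero {s : B} {G : X ⟶ SpB (B ⧸ Ideal.span {s})}
    (hpb : IsPullback u G FY (quotMap (Ideal.span {s}))) {b : B} (hb : IsAffineOpen (FY ⁻¹ᵁ D b))
    {y : Sec FY} (hy : secMap hu y = 0) : ∃ (k : ℕ) (z : Sec FY), b ^ k • y = s • z := by
  let W := FY ⁻¹ᵁ D b
  obtain ⟨-, hker⟩ := Groth.FormalAlg.sections_of_isPullback u FY (Ideal.span {s}) G hpb hb
  have h1 : secRes FY W y ∈ RingHom.ker (u.app W).hom := by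
    rw [RingHom.mem_ker, ← secRes_secMap hu W y, hy, map_zero]
  rw [hker, ← bcst_eq_baseHom, Ideal.map_span, Set.image_singleton, Ideal.mem_span_singleton] at h1
  obtain ⟨c, hc⟩ := h1
  obtain ⟨k, z, hz⟩ := sec_num FY (O := W) rfl c
  have h2 : secRes FY W (b ^ k • y - s • z) = 0 := by
    rw [map_sub, secRes_smul, secRes_smul, hc, hz, sub_eq_zero, mul_left_comm]
  obtain ⟨l, hl⟩ := sec_zero FY (O := W) rfl h2
  exact ⟨l + k, b ^ l • z, by rwa [smul_sub, sub_eq_zero, smul_smul, ← pow_add, smul_comm _ s] at hl⟩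

end Transition

omit [CompactSpace X] [QuasiSeparatedSpace X] in
theorem bcst_comp {R : Type u} [CommRing R] (φ : B →+* R) (G : X ⟶ SpB R) (O : X.Opens) (b : B) :
    bcst (G ≫ Spec.map (CommRingCat.ofHom φ)) O b = bcst G O (φ b) := by
  simp only [bcst, RingHom.comp_apply]
  rw [Scheme.Hom.comp_appTop, CommRingCat.hom_comp, RingHom.comp_apply]
  exact congrArg (fun z => resX X _ (G.appTop z))
    (congr($((Scheme.ΓSpecIso_inv_naturality (CommRingCat.ofHom φ))) b)).symm

theorem exists_smul_of_flat {t : B} (ht : IsSMulRegular B t) {n : ℕ}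
    (G : X ⟶ SpB (B ⧸ Ideal.span {t ^ (n + 1)})) [Flat G] (hF : F = G ≫ quotMap (Ideal.span {t ^ (n + 1)}))
    {b : B} (hb : IsAffineOpen (F ⁻¹ᵁ D b)) {y : Sec F} (hy : t • y = 0) :
    ∃ (k : ℕ) (z : Sec F), b ^ k • y = t ^ n • z := by
  let R := B ⧸ Ideal.span {t ^ (n + 1)}
  let W := F ⁻¹ᵁ D b
  letI : Algebra R Γ(X, W) := (bcst G W).toAlgebra
  have : Module.Flat R Γ(X, W) := by
    refine RingHom.flat_algebraMap_iff.1 ?_
    rw [show algebraMap R Γ(X, W) = bcst G W from rfl, bcst_eq_baseHom]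
    exact RingHom.Flat.comp (RingHom.Flat.of_bijective
      (ConcreteCategory.bijective_of_isIso (Scheme.ΓSpecIso (CommRingCat.of R)).inv))
      (G.flat_appLE (isAffineOpen_top _) hb le_top)
  have hc : ∀ c : B, bcst F W c = algebraMap R Γ(X, W) (Ideal.Quotient.mk _ c) := fun c => by
    subst hF; exact bcst_comp _ G W c
  obtain ⟨κ, a, z, hz, ha⟩ := Module.Flat.isTrivialRelation_of_sum_smul_eq_zero (R := R) (M := Γ(X, W))
    (ι := Fin 1) (f := fun _ => Ideal.Quotient.mk _ t) (x := fun _ => secRes F W y) (by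
      rw [Fin.sum_univ_one, Algebra.smul_def, ← hc, ← secRes_smul, hy, map_zero])
  have ha' : ∀ j, ∃ d : B, a 0 j = Ideal.Quotient.mk _ (t ^ n * d) := fun j => by
    have h1 : Ideal.Quotient.mk _ t * a 0 j = 0 := by simpa using ha j
    obtain ⟨a0, ha0⟩ := Ideal.Quotient.mk_surjective (a 0 j)
    rw [← ha0, ← map_mul, Ideal.Quotient.eq_zero_iff_mem, Ideal.mem_span_singleton] at h1
    obtain ⟨d, hd⟩ := h1
    refine ⟨d, ha0.symm.trans (congrArg _ (ht ?_))⟩
    show t • a0 = t • (t ^ n * d)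
    rw [smul_eq_mul, smul_eq_mul, hd, pow_succ', mul_assoc]
  choose d hd using ha'
  obtain ⟨k, w, hw⟩ := sec_num F (O := W) rfl (∑ j, bcst F W (d j) * z j)
  have h2 : secRes F W (b ^ k • y - t ^ n • w) = 0 := by
    rw [map_sub, secRes_smul, secRes_smul, hw, show secRes F W y = ∑ j, a 0 j • z j from hz 0, sub_eq_zero, Finset.mul_sum, Finset.mul_sum,
      Finset.mul_sum]
    refine Finset.sum_congr rfl fun j _ => ?_
    rw [hd, Algebra.smul_def, ← hc, map_mul]
    ring
  obtain ⟨l, hl⟩ := sec_zero F (O := W) rfl h2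
  exact ⟨l + k, b ^ l • w, by rwa [smul_sub, sub_eq_zero, smul_smul, ← pow_add, smul_comm _ (t ^ n)] at hl⟩

end Groth.ParaLift82
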