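import Groth.Agent.ParaLift82.FormalSys
import Groth.Agent.ParaLift82.Cech
import Mathlib.RingTheory.Finiteness.Projective
import Mathlib.Algebra.Module.FinitePresentation

/-!
# The tameness hypothesis from regular sequences and local projectivity
-/

set_option autoImplicit false
universe u

open CategoryTheory AlgebraicGeometry TopologicalSpace Groth.PicAux

namespace Groth.ParaLift82

variable {B : Type u} [CommRing B] {ι : Type u} [Finite ι] {g : ι → B} {I : Ideal B} {x y : B}

theorem D_mul_comm (a b : B) : D (a * b) = D a ⊓ D b := D_mul a b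

theorem exists_uniform_mem {P : ι → ℕ → Prop} (hP : ∀ a m n, m ≤ n → P a m → P a n) (h : ∀ a, ∃ k, P a k) :
    ∃ K, ∀ a, P a K := by
  cases nonempty_fintype ι
  choose k hk using h
  exact ⟨Finset.univ.sup k, fun a => hP a _ _ (Finset.le_sup (f := k) (Finset.mem_univ a)) (hk a)⟩

theorem smul_mk (r a : B) : r • Ideal.Quotient.mk I a = Ideal.Quotient.mk I (r * a) := rfl

theorem sat_quotient (h : RegPair I x y) (hx : InRad g x) (hy : InRad g y) : Sat g (B ⧸ I) := by
  refine ⟨fun z hz => ?_, fun N r hr => ?_⟩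
  · obtain ⟨z, rfl⟩ := Ideal.Quotient.mk_surjective z
    refine Ideal.Quotient.eq_zero_iff_mem.2 (sat_inj h hx fun a => (cst_mem_iff rfl I z).2 ?_)
    obtain ⟨k, hk⟩ := hz a
    exact ⟨k, Ideal.Quotient.eq_zero_iff_mem.1 (by rwa [smul_mk] at hk)⟩
  · choose r' hr' using fun a => Ideal.Quotient.mk_surjective (r a)
    obtain rfl : (fun a => Ideal.Quotient.mk I (r' a)) = r := funext hr'
    choose s hs using fun a => exists_div (le_refl (Dg g a)) N (cst (Dg g a) (r' a))
    obtain ⟨z, hz⟩ := sat_glue h hx hy s fun a b => by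
      refine (mul_cst_mem_iff (le_refl (Dg g a ⊓ Dg g b) |>.trans inf_le_left) N).1 ?_
      refine (mul_cst_mem_iff (le_refl (Dg g a ⊓ Dg g b) |>.trans inf_le_right) N).1 ?_
      have ha := congrArg (resX _ (inf_le_left : Dg g a ⊓ Dg g b ≤ _)) (hs a)
      have hb := congrArg (resX _ (inf_le_right : Dg g a ⊓ Dg g b ≤ _)) (hs b)
      rw [map_mul, resX_cst, resX_cst] at ha hb
      rw [mul_sub, mul_sub, ha, mul_left_comm (cst _ (g b ^ N)) (cst _ (g a ^ N)), hb, ← map_mul, ← map_mul,
        ← map_sub]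
      refine Ideal.mem_map_of_mem _ ?_
      have h1 := hr a b
      rwa [smul_mk, smul_mk, Ideal.Quotient.eq] at h1
    obtain ⟨K, hK⟩ := exists_uniform_mem (P := fun a k => g a ^ k * (g a ^ N * z - r' a) ∈ I)
      (fun a m n hmn hm => by
        obtain ⟨d, rfl⟩ := Nat.exists_eq_add_of_le hmn
        rw [add_comm, pow_add, mul_assoc]
        exact I.mul_mem_left _ hm)
      fun a => (cst_mem_iff rfl I _).1 (by
        rw [map_sub, map_mul, ← hs a, ← mul_sub]
        exact Ideal.mul_mem_left _ _ (hz a))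
    refine ⟨Ideal.Quotient.mk I z, K, fun a => ?_⟩
    rw [smul_mk, smul_mk, Ideal.Quotient.eq, pow_add, mul_assoc, ← mul_sub]
    exact hK a

theorem Sat.pi {κ : Type u} [Finite κ] {M : Type u} [AddCommGroup M] [Module B M] (h : Sat g M) :
    Sat g (κ → M) := by
  cases nonempty_fintype κ
  refine ⟨fun f hf => funext fun j => h.sep _ fun a => ?_, fun N r hr => ?_⟩
  · obtain ⟨k, hk⟩ := hf a
    exact ⟨k, congrFun hk j⟩
  · choose z K hz using fun j => h.glue N (fun a => r a j) fun a b => congrFun (hr a b) j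
    refine ⟨z, Finset.univ.sup K, fun a => funext fun j => ?_⟩
    obtain ⟨d, hd⟩ := Nat.exists_eq_add_of_le (Finset.le_sup (f := K) (Finset.mem_univ j))
    show g a ^ (Finset.univ.sup K + N) • z j = g a ^ Finset.univ.sup K • r a j
    rw [hd, show K j + d + N = d + (K j + N) by omega, add_comm (K j) d, pow_add _ d, pow_add _ d, mul_smul,
      mul_smul, hz]

theorem prim_quotient {w : B} (h : RegTriple I x y w) (hx : InRad g x) (hy : InRad g y) (hw : InRad g w)
    (N : ℕ) (c : ι → ι → B ⧸ I)
    (hc : ∀ a b d, g d ^ N • c a b + g a ^ N • c b d = g b ^ N • c a d) :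
    ∃ (K : ℕ) (v : ι → B ⧸ I), ∀ a b,
      (g a * g b) ^ K • c a b = g b ^ (N + K) • v a - g a ^ (N + K) • v b := by
  choose c' hc' using fun a b => Ideal.Quotient.mk_surjective (c a b)
  obtain rfl : (fun a b => Ideal.Quotient.mk I (c' a b)) = c := funext fun a => funext (hc' a)
  have hle : ∀ a b, Dg g a ⊓ Dg g b ≤ D (g a * g b) := fun a b => (D_mul _ _).ge
  choose s hs using fun a b => exists_div (hle a b) N (cst (Dg g a ⊓ Dg g b) (c' a b))
  obtain ⟨W, hW⟩ := exists_primitive h hx hy hw s fun a b d T ha hb hd hT => by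
    refine (mul_cst_mem_iff ha N).1 ((mul_cst_mem_iff hb N).1 ((mul_cst_mem_iff hd N).1 ?_))
    have h1 := congrArg (resX _ (le_inf ha hd)) (hs a d)
    have h2 := congrArg (resX _ (le_inf ha hb)) (hs a b)
    have h3 := congrArg (resX _ (le_inf hb hd)) (hs b d)
    simp only [map_mul, map_pow, mul_pow, resX_cst] at h1 h2 h3
    simp only [map_pow]
    rw [show cst T (g d) ^ N * (cst T (g b) ^ N * (cst T (g a) ^ N *
        (resX _ (le_inf ha hd) (s a d) - (resX _ (le_inf ha hb) (s a b) + resX _ (le_inf hb hd) (s b d))))) =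
      cst T (g b) ^ N * (cst T (g a) ^ N * cst T (g d) ^ N * resX _ (le_inf ha hd) (s a d)) -
        (cst T (g d) ^ N * (cst T (g a) ^ N * cst T (g b) ^ N * resX _ (le_inf ha hb) (s a b)) +
          cst T (g a) ^ N * (cst T (g b) ^ N * cst T (g d) ^ N * resX _ (le_inf hb hd) (s b d))) by ring,
      h1, h2, h3]
    simp only [← map_pow, ← map_mul, ← map_add, ← map_sub]
    refine Ideal.mem_map_of_mem _ ?_
    have h4 := hc a b d
    simp only [smul_mk] at h4
    rw [← map_add, Ideal.Quotient.eq] at h4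
    rw [← neg_sub]
    exact I.neg_mem h4
  obtain ⟨P, r, hr⟩ := exists_num_family (Dg g) g (fun _ => rfl) W
  obtain ⟨Q, hQ⟩ := exists_uniform_mem (ι := ι × ι)
    (P := fun i Q => (g i.1 * g i.2) ^ Q * ((g i.1 * g i.2) ^ P * c' i.1 i.2 -
      (g i.2 ^ (N + P) * (g i.1 ^ N * r i.1) - g i.1 ^ (N + P) * (g i.2 ^ N * r i.2))) ∈ I)
    (fun i m n hmn hm => by
      obtain ⟨d, rfl⟩ := Nat.exists_eq_add_of_le hmn
      rw [add_comm, pow_add, mul_assoc]
      exact I.mul_mem_left _ hm)
    fun ⟨a, b⟩ => (cst_mem_iff (D_mul _ _).symm I _).1 (by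
      have ha := congrArg (resX _ (inf_le_left : Dg g a ⊓ Dg g b ≤ _)) (hr a)
      have hb := congrArg (resX _ (inf_le_right : Dg g a ⊓ Dg g b ≤ _)) (hr b)
      have h1 := hs a b
      simp only [map_mul, map_pow, mul_pow, resX_cst] at ha hb h1
      simp only [map_mul, map_sub, map_pow, mul_pow, pow_add]
      rw [← ha, ← hb, ← h1]
      have := Ideal.mul_mem_left (idl I (Dg g a ⊓ Dg g b))
        (cst _ (g a) ^ P * cst _ (g b) ^ P * (cst _ (g a) ^ N * cst _ (g b) ^ N)) (hW a b)
      convert this using 1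
      ring)
  refine ⟨Q + P, fun a => Ideal.Quotient.mk I (g a ^ (N + Q) * r a), fun a b => ?_⟩
  simp only [smul_mk]
  rw [← map_sub, Ideal.Quotient.eq]
  have h5 := hQ (a, b)
  convert h5 using 1
  simp only [pow_add, mul_pow]
  ring

/-- Local projectivity, in the form used for the trivialisation data. -/
def LocDual (g : ι → B) (I : Ideal B) (M : Type u) [AddCommGroup M] [Module B M] : Prop :=
  ∀ a, ∃ (l : ℕ) (p : Fin l → M) (φ : Fin l → (M →ₗ[B] B ⧸ I)) (N : ℕ),
    ∀ (z : M) (b : Fin l → B), (∀ i, Ideal.Quotient.mk I (b i) = φ i z) →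
      ∃ K, g a ^ K • (g a ^ N • z - ∑ i, b i • p i) = 0

theorem exists_tame [IsNoetherianRing B] {w : B} (h : RegTriple I x y w) (hx : InRad g x) (hy : InRad g y)
    (hw : InRad g w) {M : Type u} [AddCommGroup M] [Module B M] (hM : Sat g M)
    (hI : ∀ i ∈ I, ∀ z : M, i • z = 0) (hloc : LocDual g I M) :
    ∃ (W Z : Type u) (_ : AddCommGroup W) (_ : Module B W) (_ : AddCommGroup Z) (_ : Module B Z)
      (_ : IsNoetherian B W) (_ : IsNoetherian B Z)
      (e : M →ₗ[B] W) (R : W →ₗ[B] Z), Function.Injective e ∧ (∀ z, R (e z) = 0) ∧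
      (∀ (a : ι) (v : W), R v = 0 → ∃ (K : ℕ) (u : M), e u = g a ^ K • v) ∧ Sat g Z ∧
      ∀ (N : ℕ) (c : ι → ι → W), (∀ a b d, g d ^ N • c a b + g a ^ N • c b d = g b ^ N • c a d) →
        ∃ (K : ℕ) (v : ι → W), ∀ a b,
          (g a * g b) ^ K • c a b = g b ^ (N + K) • v a - g a ^ (N + K) • v b := by
  classical
  cases nonempty_fintype ι
  choose l p φ N hN using hloc
  let κ := Σ a : ι, ULift.{u} (Fin (l a))
  let e : M →ₗ[B] (κ → B ⧸ I) := LinearMap.pi fun j => φ j.1 j.2.down
  let Ann : Submodule B (κ → B ⧸ I) :=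
    { carrier := {v | ∀ z, ∑ j, v j * e z j = 0}
      zero_mem' := by simp
      add_mem' := fun {v v'} hv hv' z => by simp [add_mul, Finset.sum_add_distrib, hv z, hv' z]
      smul_mem' := fun r v hv z => by simp [← Finset.smul_sum, hv z] }
  obtain ⟨L, Λ, hΛ⟩ := Submodule.fg_iff_exists_fin_generating_family.1 (IsNoetherian.noetherian Ann)
  let R : (κ → B ⧸ I) →ₗ[B] (ULift.{u} (Fin L) → B ⧸ I) := LinearMap.pi fun i =>
    ∑ j, (LinearMap.mulLeft B (Λ i.down j)).comp (LinearMap.proj j)
  have hR : ∀ v i, R v i = ∑ j, Λ i.down j * v j := fun v i => by simp [R]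
  have hquot := sat_quotient h.pair hx hy
  have hsep : Function.Injective e := (injective_iff_map_eq_zero e).2 fun z hz => hM.sep z fun a => by
    obtain ⟨K, hK⟩ := hN a z (fun _ => 0) fun i => by
      rw [map_zero]; exact (congrFun hz ⟨a, ⟨i⟩⟩).symm
    exact ⟨K + N a, by simpa [pow_add, mul_smul] using hK⟩
  refine ⟨κ → B ⧸ I, ULift.{u} (Fin L) → B ⧸ I, inferInstance, inferInstance, inferInstance, inferInstance,
    inferInstance, inferInstance, e, R, hsep, fun z => funext fun i => ?_, fun a v hv => ?_, hquot.pi,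
    fun N' c hc => ?_⟩
  · rw [hR]
    exact (hΛ ▸ Submodule.subset_span ⟨i.down, rfl⟩ : Λ i.down ∈ Ann) z
  · have hAnn : ∀ v' ∈ Ann, ∑ j, v' j * v j = 0 := fun v' hv' => by
      rw [← hΛ] at hv'
      induction hv' using Submodule.span_induction with
      | mem u hu =>
        obtain ⟨i, rfl⟩ := hu
        rw [← hR v ⟨i⟩, hv]; rfl
      | zero => simp
      | add u u' _ _ hu hu' => simp [add_mul, Finset.sum_add_distrib, hu, hu']
      | smul r u _ hu => simp [← Finset.smul_sum, hu]
    choose b hb using fun i => Ideal.Quotient.mk_surjective (v ⟨a, ⟨i⟩⟩)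
    -- torsion at `g a` is bounded
    let tor : ℕ →o Submodule B (B ⧸ I) :=
      ⟨fun k => LinearMap.ker (LinearMap.lsmul B (B ⧸ I) (g a ^ k)), monotone_nat_of_le_succ fun k z hz => by
        simp only [LinearMap.mem_ker, LinearMap.lsmul_apply] at hz ⊢
        rw [pow_succ', mul_smul, hz, smul_zero]⟩
    obtain ⟨K₀, hK₀⟩ := monotone_stabilizes_iff_noetherian.2 inferInstance tor
    refine ⟨K₀ + N a, g a ^ K₀ • ∑ i, b i • p a i, ?_⟩
    have key : ∀ j, g a ^ (K₀ + N a) • v j - g a ^ K₀ • ∑ i, b i • e (p a i) j = 0 := fun j => by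
      let v' : κ → B ⧸ I := g a ^ K₀ • (g a ^ N a • (Pi.single j (1 : B ⧸ I) : κ → B ⧸ I) -
        ∑ i, Pi.single ⟨a, ⟨i⟩⟩ (e (p a i) j))
      have hv' : v' ∈ Ann := fun z => by
        choose bz hbz using fun i => Ideal.Quotient.mk_surjective (φ a i z)
        obtain ⟨K, hK⟩ := hN a z bz hbz
        have h1 : g a ^ K • (g a ^ N a • e z j - ∑ i, φ a i z * e (p a i) j) = 0 := by
          have h2 := congrFun (congrArg e hK) j
          simp only [map_smul, map_sub, map_sum, Pi.smul_apply, Pi.sub_apply, Finset.sum_apply, map_zero,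
            Pi.zero_apply] at h2
          convert h2 using 4 with i
          rw [← hbz i, Algebra.smul_def, Ideal.Quotient.algebraMap_eq]
        have h3 : g a ^ K₀ • (g a ^ N a • e z j - ∑ i, φ a i z * e (p a i) j) = 0 := by
          rcases le_total K K₀ with hle | hle
          · obtain ⟨d, rfl⟩ := Nat.exists_eq_add_of_le hle
            rw [add_comm, pow_add, mul_smul, h1, smul_zero]
          · exact LinearMap.mem_ker.1 ((hK₀ K hle).ge (LinearMap.mem_ker.2 h1))
        refine Eq.trans ?_ h3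
        simp only [v', Pi.smul_apply, Pi.sub_apply, Finset.sum_apply, smul_mul_assoc, sub_mul, ← Finset.smul_sum,
          Finset.sum_sub_distrib, Finset.sum_mul]
        rw [Finset.sum_comm]
        congr 2
        · rw [Finset.sum_eq_single j (fun x _ hx => by simp [Pi.single_eq_of_ne hx]) (by simp)]
          simp
        · refine Finset.sum_congr rfl fun i _ => ?_
          rw [Finset.sum_eq_single ⟨a, ⟨i⟩⟩ (fun x _ hx => by simp [Pi.single_eq_of_ne hx]) (by simp)]
          simp [e, mul_comm]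
      have h4 := hAnn v' hv'
      refine Eq.trans ?_ h4
      simp only [v', Pi.smul_apply, Pi.sub_apply, Finset.sum_apply, smul_mul_assoc, sub_mul, ← Finset.smul_sum,
        Finset.sum_sub_distrib, Finset.sum_mul]
      rw [Finset.sum_comm, pow_add, mul_smul, smul_sub]
      congr 2
      · rw [Finset.sum_eq_single j (fun x _ hx => by simp [Pi.single_eq_of_ne hx]) (by simp)]
        simp
      · refine Finset.sum_congr rfl fun i _ => ?_
        rw [Finset.sum_eq_single ⟨a, ⟨i⟩⟩ (fun x _ hx => by simp [Pi.single_eq_of_ne hx]) (by simp),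
          Pi.single_eq_same, ← hb i, Algebra.smul_def, Ideal.Quotient.algebraMap_eq, mul_comm]
    funext j
    have := key j
    rw [sub_eq_zero] at this
    rw [Pi.smul_apply, this, map_smul, map_sum]
    simp [Finset.sum_apply]
  · choose K v hv using fun j => prim_quotient h hx hy hw N' (fun a b => c a b j) fun a b d => congrFun (hc a b d) j
    let K' := Finset.univ.sup K
    refine ⟨K', fun a j => g a ^ (K' - K j) • v j a, fun a b => funext fun j => ?_⟩
    obtain ⟨d, hd⟩ := Nat.exists_eq_add_of_le (Finset.le_sup (f := K) (Finset.mem_univ j))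
    show (g a * g b) ^ K' • c a b j = g b ^ (N' + K') • g a ^ (K' - K j) • v j a -
      g a ^ (N' + K') • g b ^ (K' - K j) • v j b
    rw [show K' = K j + d from hd, Nat.add_sub_cancel_left, add_comm (K j) d, pow_add (g a * g b) d, mul_smul, hv,
      smul_sub, smul_smul, smul_smul, smul_smul, smul_smul]
    ring_nf

/-- An embedded saturated module is finite. -/
theorem finite_of_injective {M W : Type u} [AddCommGroup M] [Module B M] [AddCommGroup W] [Module B W]
    [IsNoetherian B W] (e : M →ₗ[B] W) (he : Function.Injective e) : Module.Finite B M :=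
  have := isNoetherian_of_injective e he
  inferInstance

end Groth.ParaLift82
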