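import Groth.Agent.ParaLift82.CoverSections
import Groth.Agent.ParaLift82.FormalTame

/-!
# Functions of a finite flat cover are locally dual to their coordinate maps
-/

set_option autoImplicit false
universe u

open CategoryTheory AlgebraicGeometry TopologicalSpace Groth.PicAux Groth.ParaFormal

namespace Groth.ParaLift82

variable {B : Type u} [CommRing B] {ι : Type u} [Finite ι] {g : ι → B}

/-- Linear maps into a saturated module extend from a submodule containing everything locally. -/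
theorem Sat.exists_extend {M : Type u} [AddCommGroup M] [Module B M] {Z : Type u} [AddCommGroup Z] [Module B Z]
    (hZ : Sat g Z) (M' : Submodule B M) (h : ∀ z a, ∃ k : ℕ, g a ^ k • z ∈ M') (φ : M' →ₗ[B] Z) :
    ∃ ψ : M →ₗ[B] Z, ∀ z : M', ψ z = φ z := by
  have hex : ∀ z, ∃ v, ∀ a (k : ℕ) (hk : g a ^ k • z ∈ M'), g a ^ k • v = φ ⟨_, hk⟩ := fun z => by
    obtain ⟨N, hN⟩ := exists_uniform (P := fun _ v => v ∈ M') (fun a k v hv => M'.smul_mem _ hv)
      (x := z) (h z)
    obtain ⟨v, K, hv⟩ := hZ.glue N (fun a => φ ⟨_, hN a⟩) fun a b => by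
      rw [← map_smul, ← map_smul]
      exact congrArg φ (Subtype.ext (smul_comm _ _ _))
    refine ⟨v, fun a k hk => sub_eq_zero.1 (hZ.sep _ fun b => ⟨K + N, ?_⟩)⟩
    rw [smul_sub, smul_comm, hv b, ← map_smul, ← map_smul, ← map_smul, sub_eq_zero]
    refine congrArg φ (Subtype.ext ?_)
    show g a ^ k • g b ^ K • g b ^ N • z = g b ^ (K + N) • g a ^ k • z
    rw [smul_comm (g a ^ k), smul_comm (g a ^ k), ← mul_smul, ← pow_add]
  choose v hv using hex
  have huniq : ∀ z w, (∀ a, ∃ (k : ℕ) (hk : g a ^ k • z ∈ M'), g a ^ k • w = φ ⟨_, hk⟩) → w = v z :=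
    fun z w hw => sub_eq_zero.1 (hZ.sep _ fun a => by
      obtain ⟨k, hk, e⟩ := hw a
      exact ⟨k, by rw [smul_sub, e, hv z a k hk, sub_self]⟩)
  refine ⟨{ toFun := v, map_add' := fun z z' => (huniq _ _ fun a => ?_).symm,
            map_smul' := fun c z => (huniq _ _ fun a => ?_).symm }, fun z => (huniq _ _ fun a => ?_).symm⟩
  · obtain ⟨k, hk⟩ := h z a
    obtain ⟨k', hk'⟩ := h z' a
    have h1 : g a ^ (k + k') • z ∈ M' := by rw [add_comm, pow_add, mul_smul]; exact M'.smul_mem _ hk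
    have h2 : g a ^ (k + k') • z' ∈ M' := by rw [pow_add, mul_smul]; exact M'.smul_mem _ hk'
    have h3 : g a ^ (k + k') • (z + z') ∈ M' := by rw [smul_add]; exact M'.add_mem h1 h2
    refine ⟨k + k', h3, ?_⟩
    rw [smul_add, hv z a _ h1, hv z' a _ h2, ← map_add]
    exact congrArg φ (Subtype.ext (smul_add _ _ _).symm)
  · obtain ⟨k, hk⟩ := h z a
    have h1 : g a ^ k • c • z ∈ M' := by rw [smul_comm]; exact M'.smul_mem _ hk
    refine ⟨k, h1, ?_⟩
    rw [RingHom.id_apply, smul_comm, hv z a k hk, ← map_smul]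
    exact congrArg φ (Subtype.ext (smul_comm _ _ _))
  · exact ⟨0, by simp, by simp⟩

variable [IsNoetherianRing B] {X : Scheme.{u}} [CompactSpace X] [QuasiSeparatedSpace X] {I : Ideal B}

/-- Local coordinates of the functions on a finite flat cover, with generators among the global functions. -/
theorem exists_sec_coords (F : X ⟶ SpB B) (G : X ⟶ SpB (B ⧸ I)) (hFG : F = G ≫ quotMap I)
    (hfin : ∀ a, (G.app (D (Ideal.Quotient.mk I (g a)))).hom.Finite)
    (hflat : ∀ a, (G.app (D (Ideal.Quotient.mk I (g a)))).hom.Flat) :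
    ∃ (l : ι → ℕ) (q : ∀ a, Fin (l a) → Γ(X, G ⁻¹ᵁ D (Ideal.Quotient.mk I (g a))))
      (ψ : ∀ a, Fin (l a) → Γ(X, G ⁻¹ᵁ D (Ideal.Quotient.mk I (g a))) → Γ(SpB (B ⧸ I), D (Ideal.Quotient.mk I (g a))))
      (K : ℕ) (p' : (Σ a, Fin (l a)) → Sec F),
      (∀ a i x y, ψ a i (x + y) = ψ a i x + ψ a i y) ∧
      (∀ a i r x, ψ a i ((G.app (D (Ideal.Quotient.mk I (g a)))).hom r * x) = r * ψ a i x) ∧
      (∀ a x, x = ∑ i, (G.app (D (Ideal.Quotient.mk I (g a)))).hom (ψ a i x) * q a i) ∧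
      (∀ a i, secRes F (G ⁻¹ᵁ D (Ideal.Quotient.mk I (g a))) (p' ⟨a, i⟩) =
        bcst F (G ⁻¹ᵁ D (Ideal.Quotient.mk I (g a))) (g a ^ K) * q a i) ∧
      ∀ z a, ∃ m : ℕ, g a ^ m • z ∈ Submodule.span B (Set.range p') := by
  classical
  cases nonempty_fintype ι
  subst hFG
  let F := G ≫ quotMap I
  let gq : ι → B ⧸ I := fun a => Ideal.Quotient.mk I (g a)
  let Rb : ι → Type u := fun a => (Spec.structureSheaf (B ⧸ I)).obj.obj (Opposite.op (PrimeSpectrum.basicOpen (gq a)))
  let W : ι → X.Opens := fun a => G ⁻¹ᵁ D (gq a)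
  let χ : ∀ a, Γ(SpB (B ⧸ I), D (gq a)) →+* Γ(X, W a) := fun a => (G.app (D (gq a))).hom
  have hWF : ∀ a, W a = F ⁻¹ᵁ D (g a) := fun a => rfl
  have hχ : ∀ a (c : B), χ a (cst _ (Ideal.Quotient.mk I c)) = bcst F (W a) c := fun a c => by
    refine Eq.trans ?_ (bcst_comp (Ideal.Quotient.mk I) G (W a) c).symm
    simp only [χ, cst, bcst, RingHom.comp_apply]
    exact app_resX G (le_top : D (gq a) ≤ ⊤) _
  have hgen : ∀ a, ∃ (l : ℕ) (q : Fin l → Γ(X, W a)) (ψ : Fin l → Γ(X, W a) → Γ(SpB (B ⧸ I), D (gq a))),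
      (∀ i x y, ψ i (x + y) = ψ i x + ψ i y) ∧ (∀ i r x, ψ i (χ a r * x) = r * ψ i x) ∧
      ∀ x, x = ∑ i, χ a (ψ i x) * q i := fun a => by
    let R' := Γ(SpB (B ⧸ I), D (gq a))
    letI : Algebra R' Γ(X, W a) := (χ a).toAlgebra
    have : Module.Finite R' Γ(X, W a) := RingHom.finite_algebraMap.1 (hfin a)
    have : Module.Flat R' Γ(X, W a) := RingHom.flat_algebraMap_iff.1 (hflat a)
    have : IsNoetherianRing R' := IsLocalization.isNoetherianRing (Submonoid.powers (gq a))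
      ((Spec.structureSheaf (B ⧸ I)).obj.obj (Opposite.op (PrimeSpectrum.basicOpen (gq a)))) inferInstance
    have : Module.FinitePresentation R' Γ(X, W a) := Module.finitePresentation_of_finite _ _
    have : Module.Projective R' Γ(X, W a) := Module.Flat.projective_of_finitePresentation
    obtain ⟨l, f, s, -, -, hfs⟩ := Module.Finite.exists_comp_eq_id_of_projective R' Γ(X, W a)
    refine ⟨l, fun i => f (Pi.single i 1), fun i x => s x i, fun i x y => by simp,
      fun i r x => ?_, fun x => ?_⟩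
    · show s (r • x) i = _
      rw [map_smul]; rfl
    · conv_lhs => rw [← show f (s x) = x from LinearMap.congr_fun hfs x, pi_eq_sum_univ' (s x), map_sum]
      exact Finset.sum_congr rfl fun i _ => (map_smul f _ _).trans (Algebra.smul_def _ _)
  choose l q ψ hψadd hψmul hq using hgen
  choose k p hp using fun j : Σ a, Fin (l a) => sec_num F (O := W j.1) (hWF j.1) (q j.1 j.2)
  let K := Finset.univ.sup k
  let p' : (Σ a, Fin (l a)) → Sec F := fun j => g j.1 ^ (K - k j) • p j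
  have hp' : ∀ a i, secRes F (W a) (p' ⟨a, i⟩) = bcst F (W a) (g a ^ K) * q a i := fun a i => by
    have hk : k ⟨a, i⟩ ≤ K := Finset.le_sup (f := k) (Finset.mem_univ _)
    simp only [p']
    rw [secRes_smul, hp ⟨a, i⟩, ← mul_assoc, ← map_mul, ← pow_add, Nat.sub_add_cancel hk]
  let M' : Submodule B (Sec F) := Submodule.span B (Set.range p')
  have hM' : ∀ z a, ∃ m : ℕ, g a ^ m • z ∈ M' := fun z a => by
    choose m c hc using fun i => num (rfl : D (gq a) = D (gq a)) (ψ a i (secRes F (W a) z))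
    choose c' hc' using fun i => Ideal.Quotient.mk_surjective (c i)
    let m₀ := Finset.univ.sup m
    have h1 : secRes F (W a) (g a ^ (m₀ + K) • z - ∑ i, (g a ^ (m₀ - m i) * c' i) • p' ⟨a, i⟩) = 0 := by
      rw [map_sub, map_sum, secRes_smul, sub_eq_zero]
      conv_lhs => rw [hq a (secRes F (W a) z), Finset.mul_sum]
      refine Finset.sum_congr rfl fun i _ => ?_
      obtain ⟨d, hd⟩ := Nat.exists_eq_add_of_le (Finset.le_sup (f := m) (Finset.mem_univ i))
      have h2 := congrArg (χ a) (hc i)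
      rw [map_mul, ← hc', ← map_pow (Ideal.Quotient.mk I), hχ, hχ] at h2
      rw [secRes_smul, hp', show m₀ - m i = d by omega, show m₀ + K = d + (m i + K) by omega]
      simp only [map_mul, pow_add]
      rw [← h2]
      ring
    obtain ⟨n, hn⟩ := sec_zero F (O := W a) (hWF a) h1
    refine ⟨n + (m₀ + K), ?_⟩
    rw [pow_add, mul_smul]
    rw [smul_sub, sub_eq_zero] at hn
    rw [hn]
    exact M'.smul_mem _ (M'.sum_mem fun i _ => M'.smul_mem _ (Submodule.subset_span ⟨_, rfl⟩))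
  exact ⟨l, q, ψ, K, p', hψadd, hψmul, hq, hp', hM'⟩

/-- Coordinate maps for a cover which is finite flat over the basic opens, given extensions of maps up to powers. -/
theorem locDual_sec_of_extend (F : X ⟶ SpB B) (G : X ⟶ SpB (B ⧸ I)) (hFG : F = G ≫ quotMap I)
    (hextend : ∀ (a : ι) (M' : Submodule B (Sec F)) (φ' : M' →ₗ[B] B ⧸ I),
      (∀ z b, ∃ k : ℕ, g b ^ k • z ∈ M') → ∃ (K : ℕ) (φ : Sec F →ₗ[B] B ⧸ I), ∀ z : M', φ z = g a ^ K • φ' z)
    (hfin : ∀ a, (G.app (D (Ideal.Quotient.mk I (g a)))).hom.Finite)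
    (hflat : ∀ a, (G.app (D (Ideal.Quotient.mk I (g a)))).hom.Flat) : LocDual g I (Sec F) := by
  classical
  cases nonempty_fintype ι
  obtain ⟨l, q, ψ, K, p', hψadd, hψmul, hq, hp', hM'⟩ := exists_sec_coords F G hFG hfin hflat
  subst hFG
  let F := G ≫ quotMap I
  let gq : ι → B ⧸ I := fun a => Ideal.Quotient.mk I (g a)
  let W : ι → X.Opens := fun a => G ⁻¹ᵁ D (gq a)
  let χ : ∀ a, Γ(SpB (B ⧸ I), D (gq a)) →+* Γ(X, W a) := fun a => (G.app (D (gq a))).hom
  have hWF : ∀ a, W a = F ⁻¹ᵁ D (g a) := fun a => rfl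
  have hχ : ∀ a (c : B), χ a (cst _ (Ideal.Quotient.mk I c)) = bcst F (W a) c := fun a c => by
    refine Eq.trans ?_ (bcst_comp (Ideal.Quotient.mk I) G (W a) c).symm
    simp only [χ, cst, bcst, RingHom.comp_apply]
    exact app_resX G (le_top : D (gq a) ≤ ⊤) _
  let M' : Submodule B (Sec F) := Submodule.span B (Set.range p')
  intro a
  letI : Algebra B Γ(SpB (B ⧸ I), D (gq a)) := ((cst (D (gq a))).comp (Ideal.Quotient.mk I)).toAlgebra
  let Ψ : Fin (l a) → Sec F →ₗ[B] Γ(SpB (B ⧸ I), D (gq a)) := fun i =>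
    { toFun := fun z => ψ a i (secRes F (W a) z)
      map_add' := fun z z' => by rw [map_add, hψadd]
      map_smul' := fun c z => by
        rw [secRes_smul, ← hχ, hψmul, RingHom.id_apply, Algebra.smul_def]; rfl }
  -- torsion is bounded
  let tor : ℕ →o Submodule B (B ⧸ I) :=
    ⟨fun n => LinearMap.ker (LinearMap.lsmul B (B ⧸ I) (g a ^ n)), monotone_nat_of_le_succ fun n z hz => by
      simp only [LinearMap.mem_ker, LinearMap.lsmul_apply] at hz ⊢
      rw [pow_succ', mul_smul, hz, smul_zero]⟩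
  obtain ⟨T₀, hT₀⟩ := monotone_stabilizes_iff_noetherian.2 inferInstance tor
  choose e r hr using fun ij : Fin (l a) × Σ b, Fin (l b) =>
    num (rfl : D (gq a) = D (gq a)) (Ψ ij.1 (p' ij.2))
  let e₀ := Finset.univ.sup e
  let Φ : ((Σ b, Fin (l b)) → B) →ₗ[B] Sec F := Fintype.linearCombination B p'
  have hext : ∀ i, ∃ (E : ℕ) (φ : Sec F →ₗ[B] B ⧸ I), ∀ z,
      cst (D (gq a)) (φ z) = g a ^ E • Ψ i z := fun i => by
    let Θ : ((Σ b, Fin (l b)) → B) →ₗ[B] B ⧸ I :=
      Fintype.linearCombination B fun j => g a ^ (e₀ - e (i, j) + T₀) • r (i, j)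
    have hr' : ∀ j, cst (D (gq a)) (g a ^ (e₀ - e (i, j) + T₀) • r (i, j)) = g a ^ (e₀ + T₀) • Ψ i (p' j) :=
      fun j => by
        have hle : e (i, j) ≤ e₀ := Finset.le_sup (f := e) (Finset.mem_univ _)
        rw [Algebra.smul_def, Algebra.smul_def, Ideal.Quotient.algebraMap_eq, map_mul, ← hr (i, j),
          ← mul_assoc, ← map_mul, ← map_pow, ← map_mul, ← pow_add,
          show e₀ - e (i, j) + T₀ + e (i, j) = e₀ + T₀ by omega]
        rfl
    have hΘ : ∀ v, cst (D (gq a)) (Θ v) = g a ^ (e₀ + T₀) • Ψ i (Φ v) := fun v => by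
      simp only [Θ, Φ, Fintype.linearCombination_apply, map_sum, Finset.smul_sum]
      refine Finset.sum_congr rfl fun j _ => ?_
      rw [map_smul (Ψ i), smul_comm _ (v j), ← hr', Algebra.smul_def, map_mul, Algebra.smul_def (v j)]
      rfl
    have hker : LinearMap.ker Φ ≤ LinearMap.ker Θ := fun v hv => by
      rw [LinearMap.mem_ker] at hv ⊢
      let v' := fun j => g a ^ (e₀ - e (i, j)) • r (i, j)
      have hv' : Θ v = g a ^ T₀ • Fintype.linearCombination B v' v := by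
        simp only [Θ, Fintype.linearCombination_apply, Finset.smul_sum, v', pow_add, mul_smul]
        exact Finset.sum_congr rfl fun j _ => by rw [smul_comm (g a ^ (e₀ - e (i, j))), smul_comm _ (v j)]
      have h1 : cst (D (gq a)) (g a ^ T₀ • Fintype.linearCombination B v' v) = 0 := by
        rw [← hv', hΘ, hv, map_zero, smul_zero]
      rw [Algebra.smul_def, Ideal.Quotient.algebraMap_eq, map_mul, map_pow,
        (isUnit_cst_pow (le_refl (D (gq a))) T₀).mul_right_eq_zero, cst_eq_zero_iff rfl] at h1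
      obtain ⟨n, hn⟩ := h1
      rw [hv']
      have h2 : g a ^ n • Fintype.linearCombination B v' v = 0 := by
        rw [Algebra.smul_def, Ideal.Quotient.algebraMap_eq, map_pow]; exact hn
      rcases le_total n T₀ with hle | hle
      · obtain ⟨d, rfl⟩ := Nat.exists_eq_add_of_le hle
        rw [add_comm, pow_add, mul_smul, h2, smul_zero]
      · exact LinearMap.mem_ker.1 ((hT₀ n hle).ge (LinearMap.mem_ker.2 h2))
    have hrange : LinearMap.range Φ = M' := by
      simp only [Φ, M', Fintype.range_linearCombination]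
    let φ' : M' →ₗ[B] B ⧸ I := (LinearMap.ker Φ).liftQ Θ hker ∘ₗ
      ((LinearEquiv.ofEq _ _ hrange.symm).trans Φ.quotKerEquivRange.symm).toLinearMap
    have hφ' : ∀ (z : M') v, Φ v = z → φ' z = Θ v := fun z v hv => by
      obtain rfl : z = ⟨Φ v, hrange ▸ ⟨v, rfl⟩⟩ := Subtype.ext hv.symm
      show (LinearMap.ker Φ).liftQ Θ hker (Φ.quotKerEquivRange.symm _) = _
      exact congrArg ((LinearMap.ker Φ).liftQ Θ hker) (Φ.quotKerEquivRange_symm_apply_image v ⟨v, rfl⟩)
    obtain ⟨K₁, φ, hφ⟩ := hextend a M' φ' hM'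
    refine ⟨K₁ + (e₀ + T₀), φ, fun z => ?_⟩
    obtain ⟨m, hm⟩ := hM' z a
    obtain ⟨v, hv⟩ : g a ^ m • z ∈ LinearMap.range Φ := hrange ▸ hm
    have h1 : cst (D (gq a)) (φ (g a ^ m • z)) = g a ^ (K₁ + (e₀ + T₀)) • Ψ i (g a ^ m • z) := by
      rw [← hv, (hφ ⟨Φ v, hrange ▸ ⟨v, rfl⟩⟩).trans (congrArg _ (hφ' _ v rfl)), pow_add, mul_smul, ← hΘ,
        Algebra.smul_def, Ideal.Quotient.algebraMap_eq, map_mul, Algebra.smul_def (g a ^ K₁)]
      rfl
    rw [map_smul, map_smul (Ψ i), smul_comm _ (g a ^ m), Algebra.smul_def, Ideal.Quotient.algebraMap_eq,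
      map_mul, Algebra.smul_def (g a ^ m)] at h1
    refine (IsUnit.mul_right_inj ?_).1 h1
    rw [map_pow]
    exact isUnit_cst_pow (le_refl (D (gq a))) m
  choose E φ hφ using hext
  let E₀ := Finset.univ.sup E
  let φ₀ : Fin (l a) → (Sec F →ₗ[B] B ⧸ I) := fun i => g a ^ (E₀ - E i) • φ i
  have hφ₀ : ∀ i z, cst (D (gq a)) (φ₀ i z) = g a ^ E₀ • Ψ i z := fun i z => by
    simp only [φ₀, LinearMap.smul_apply]
    rw [Algebra.smul_def, Ideal.Quotient.algebraMap_eq, map_mul, hφ i z, Algebra.smul_def, Algebra.smul_def,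
      ← mul_assoc]
    refine congrArg (· * Ψ i z) ?_
    show cst (D (gq a)) (Ideal.Quotient.mk I (g a ^ (E₀ - E i))) * cst (D (gq a)) (Ideal.Quotient.mk I (g a ^ E i)) =
      cst (D (gq a)) (Ideal.Quotient.mk I (g a ^ E₀))
    rw [← map_mul, ← map_mul, ← pow_add, Nat.sub_add_cancel (Finset.le_sup (f := E) (Finset.mem_univ i))]
  refine ⟨l a, fun i => p' ⟨a, i⟩, φ₀, E₀ + K, fun z b hb => sec_zero F (O := W a) (hWF a) ?_⟩
  rw [map_sub, map_sum, secRes_smul, sub_eq_zero]
  conv_lhs => rw [hq a (secRes F (W a) z), Finset.mul_sum]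
  refine Finset.sum_congr rfl fun i _ => ?_
  rw [secRes_smul, hp', ← hχ a (b i), hb, hφ₀, Algebra.smul_def, map_mul, ← mul_assoc, ← mul_assoc,
    show χ a (algebraMap B _ (g a ^ E₀)) = bcst F (W a) (g a ^ E₀) from hχ a _,
    pow_add, map_mul]
  show _ = bcst F (W a) (g a ^ E₀) * χ a (ψ a i _) * bcst F (W a) (g a ^ K) * q a i
  ring

/-- Coordinate maps for a cover which is finite flat over the basic opens. -/
theorem locDual_sec (F : X ⟶ SpB B) (G : X ⟶ SpB (B ⧸ I)) (hFG : F = G ≫ quotMap I) (hsat : Sat g (B ⧸ I))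
    (hfin : ∀ a, (G.app (D (Ideal.Quotient.mk I (g a)))).hom.Finite)
    (hflat : ∀ a, (G.app (D (Ideal.Quotient.mk I (g a)))).hom.Flat) : LocDual g I (Sec F) :=
  locDual_sec_of_extend F G hFG (fun _ M' φ' hM' => by
    obtain ⟨φ, hφ⟩ := hsat.exists_extend M' hM' φ'
    exact ⟨0, φ, fun z => by rw [pow_zero, one_smul, hφ]⟩) hfin hflat

end Groth.ParaLift82
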