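import Groth.Agent.Pi1Lef.LocalCoh

/-!
# `(S₂)` off `f` and dimension at least four give `depth + dim > 3`
-/

set_option autoImplicit false
universe u

open IsLocalRing

namespace Groth.ParaLift82

variable {A : Type u} [CommRing A] [IsNoetherianRing A] [IsLocalRing A]

theorem two_le_coheight {f : A} (p : Ideal A) [p.IsPrime] (hf : f ∈ maximalIdeal A) (hfp : f ∉ p)
    (h : (p ⊔ Ideal.span {f}).radical ≠ maximalIdeal A) :
    2 ≤ Order.coheight (⟨p, inferInstance⟩ : PrimeSpectrum A) := by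
  have hle : p ⊔ Ideal.span {f} ≤ maximalIdeal A :=
    sup_le (le_maximalIdeal Ideal.IsPrime.ne_top') ((Ideal.span_singleton_le_iff_mem _).2 hf)
  by_contra hlt
  refine h (le_antisymm ((Ideal.IsPrime.radical_le_iff inferInstance).2 hle) ?_)
  rw [Ideal.radical_eq_sInf, le_sInf_iff]
  rintro q ⟨hq, hqp⟩
  by_contra hne
  refine hlt ?_
  let a : PrimeSpectrum A := ⟨p, inferInstance⟩
  let b : PrimeSpectrum A := ⟨q, hqp⟩
  have h1 : a < b := show p < q from lt_of_le_of_ne (le_sup_left.trans hq) fun e =>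
    hfp (e ▸ hq (Submodule.mem_sup_right (Ideal.mem_span_singleton_self f)))
  have h2 : b < closedPoint A := show q < maximalIdeal A from
    lt_of_le_of_ne (le_maximalIdeal hqp.ne_top) fun e => hne e.ge
  have h3 := Order.coheight_add_one_le h1
  have h4 := Order.coheight_add_one_le h2
  calc (2 : ℕ∞) = 1 + 1 := by rfl
    _ ≤ Order.coheight b + 1 := add_le_add (le_trans (by simp) h4) le_rfl
    _ ≤ _ := h3

theorem depth_add_dim_gt_three (hcat : CAlg.IsCatenary A) {f : A} (hf : f ∈ maximalIdeal A)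
    (hS : LocCoh.HasSk 2 (Localization.Away f) (Localization.Away f))
    (hmin : ∀ p ∈ minimalPrimes A, f ∉ p → (4 : WithBot ℕ∞) ≤ ringKrullDim (A ⧸ p))
    (p : Ideal A) [p.IsPrime] (hfp : f ∉ p) (hm : (p ⊔ Ideal.span {f}).radical ≠ maximalIdeal A) :
    (3 : WithBot ℕ∞) < (LocCoh.depth (Localization.AtPrime p) (Localization.AtPrime p) : WithBot ℕ∞) + ringKrullDim (A ⧸ p) := by
  let P := p.map (algebraMap A (Localization.Away f))
  have hdisj : Disjoint (Submonoid.powers f : Set A) p := by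
    rw [Set.disjoint_left]
    rintro _ ⟨k, rfl⟩ hk
    exact hfp (Ideal.IsPrime.mem_of_pow_mem inferInstance k hk)
  haveI : P.IsPrime := IsLocalization.isPrime_of_isPrime_disjoint (Submonoid.powers f) _ p ‹_› hdisj
  have hcomap : P.comap (algebraMap A (Localization.Away f)) = p :=
    IsLocalization.under_map_of_isPrime_disjoint (Submonoid.powers f) _ ‹p.IsPrime› hdisj
  haveI := IsLocalization.isLocalization_isLocalization_atPrime_isLocalization (Submonoid.powers f)
    (Localization.AtPrime P) P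
  haveI : IsLocalization.AtPrime (Localization.AtPrime P) p := by
    simpa [hcomap] using this
  let e : Localization.AtPrime P ≃+* Localization.AtPrime p :=
    (IsLocalization.algEquiv p.primeCompl (Localization.AtPrime P) (Localization.AtPrime p)).toRingEquiv
  have h := hS P
  rw [Calg1.BE.depth_localizedModule_self, Module.supportDim_eq_of_equiv
    ((IsLocalizedModule.iso P.primeCompl
      (Algebra.linearMap (Localization.Away f) (Localization.AtPrime P))).extendScalarsOfIsLocalization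
        P.primeCompl (Localization.AtPrime P)),
    Module.supportDim_self_eq_ringKrullDim, ringKrullDim_eq_of_ringEquiv e,
    Groth.Ega4b.depth_eq_of_ringEquiv e, IsLocalization.AtPrime.ringKrullDim_eq_height p] at h
  let x : PrimeSpectrum A := ⟨p, inferInstance⟩
  obtain ⟨d, hd⟩ := ENat.ne_top_iff_exists.1 (Ega4Algebra1.coheight_ne_top A x)
  have hd2 : 2 ≤ d := by
    have := two_le_coheight p hf hfp hm
    rw [← hd] at this
    exact_mod_cast this
  rw [Ega4Algebra1.ringKrullDim_quotient_eq_coheight A x, ← hd]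
  obtain ⟨k, hk⟩ := ENat.ne_top_iff_exists.1 (Ideal.height_ne_top (I := p) Ideal.IsPrime.ne_top')
  rw [← hk] at h
  suffices hm : 4 ≤ min 2 k + d by
    have h' : ((min 2 k : ℕ) : WithBot ℕ∞) ≤ (LocCoh.depth (Localization.AtPrime p) (Localization.AtPrime p) : WithBot ℕ∞) :=
      le_trans (le_min (Nat.cast_le.2 (min_le_left _ _)) (Nat.cast_le.2 (min_le_right _ _))) h
    refine lt_of_lt_of_le ?_ (add_le_add h' le_rfl)
    show (3 : WithBot ℕ∞) < ((min 2 k : ℕ) : WithBot ℕ∞) + ((d : ℕ) : WithBot ℕ∞)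
    rw [← Nat.cast_add, show (3 : WithBot ℕ∞) = ((3 : ℕ) : WithBot ℕ∞) from rfl, Nat.cast_lt]
    omega
  by_cases hk2 : 2 ≤ k
  · omega
  by_cases hk0 : k = 0
  · have hpm : p ∈ minimalPrimes A := Ideal.height_eq_zero_iff.1 (by rw [← hk, hk0]; rfl)
    have := hmin p hpm hfp
    rw [Ega4Algebra1.ringKrullDim_quotient_eq_coheight A x, ← hd] at this
    have h3 : 4 ≤ d := by
      rw [show (4 : WithBot ℕ∞) = ((4 : ℕ) : WithBot ℕ∞) from rfl] at this
      exact Nat.cast_le.1 this
    omega
  · have hk1 : k = 1 := by omega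
    obtain ⟨q, hq, hqp⟩ := Ideal.exists_minimalPrimes_le (bot_le : ⊥ ≤ p)
    haveI := hq.1.1
    let y : PrimeSpectrum A := ⟨q, inferInstance⟩
    have hlt : y < x := lt_of_le_of_ne hqp fun e => hk0 (by
      have hq0 : q.height = 0 := Ideal.height_eq_zero_iff.2 hq
      rw [show q = p from congrArg PrimeSpectrum.asIdeal e, ← hk] at hq0
      exact_mod_cast hq0)
    have hcov : y ⋖ x := ⟨hlt, fun z hz1 hz2 => by
      have a := Ideal.height_add_one_le_of_lt_of_isPrime (I := y.asIdeal) (J := z.asIdeal) hz1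
      have b := Ideal.height_add_one_le_of_lt_of_isPrime (I := z.asIdeal) (J := p) hz2
      rw [← hk, hk1] at b
      have c : (1 : ℕ∞) ≤ z.asIdeal.height := le_add_self.trans a
      exact absurd ((add_le_add c le_rfl).trans b) (by decide)⟩
    have hco := Ega4Algebra1.coheight_eq_add_one_of_covBy A hcat hcov
    have := hmin q hq fun hh => hfp (hqp hh)
    rw [Ega4Algebra1.ringKrullDim_quotient_eq_coheight A y, hco, ← hd] at this
    have h3 : 4 ≤ d + 1 := by
      rw [show (4 : WithBot ℕ∞) = ((4 : ℕ) : WithBot ℕ∞) from rfl] at this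
      exact Nat.cast_le.1 (this : ((4:ℕ) : WithBot ℕ∞) ≤ ((d + 1 : ℕ) : WithBot ℕ∞))
    omega

/-- Either form of the hypothesis gives `depth + dim > 3`. -/
theorem depth_add_dim_of_or (hd : ∃ ω : Dual.D A, Dual.IsDualizing A ω) {f : A} (hf : f ∈ maximalIdeal A)
    (hc : ((LocCoh.HasSk 2 (Localization.Away f) (Localization.Away f) ∧
        ∀ p : Ideal A, p ∈ minimalPrimes A → f ∉ p → (4 : WithBot ℕ∞) ≤ ringKrullDim (A ⧸ p)) ∨
      (∀ p : Ideal A, ∀ _ : p.IsPrime, f ∉ p → (p ⊔ Ideal.span {f}).radical ≠ maximalIdeal A →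
        (3 : WithBot ℕ∞) < (LocCoh.depth (Localization.AtPrime p) (Localization.AtPrime p) : WithBot ℕ∞) + ringKrullDim (A ⧸ p)))) :
    ∀ p : Ideal A, ∀ _ : p.IsPrime, f ∉ p → (p ⊔ Ideal.span {f}).radical ≠ maximalIdeal A →
      (3 : WithBot ℕ∞) < (LocCoh.depth (Localization.AtPrime p) (Localization.AtPrime p) : WithBot ℕ∞) + ringKrullDim (A ⧸ p) := by
  rcases hc with ⟨hS, hmin⟩ | h
  · obtain ⟨ω, hω⟩ := hd
    exact fun p _ hfp hm => depth_add_dim_gt_three (Groth.DualCore.isCatenary_of_isDualizing hω) hf hS hmin p hfp hm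
  · exact h

end Groth.ParaLift82
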