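import Groth.Agent.S0272
import Groth.Agent.FrobLCI.Avramov.Flat
import Groth.Agent.FrobLCI.Avramov.MapComplete
import Groth.Agent.EtaleBase.EtaleStalk
import Groth.Agent.Pi1Formal.Relative
import Groth.Agent.RefRank.Extend
import Groth.Prelude.Def_SGA2

/-!
# Purity and depth along étale morphisms for regular rings and complete intersections
-/

set_option autoImplicit false
set_option backward.isDefEq.respectTransparency false
universe u

open CategoryTheory AlgebraicGeometry IsLocalRing

namespace Groth.ParaLift82

theorem isCompleteIntersection_of_abs {A : Type u} [CommRing A] [IsLocalRing A] [IsNoetherianRing A]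
    (h : SGA2.IsAbsCompleteIntersection A) : Pi1.IsCompleteIntersection A := by
  obtain ⟨B, _, _, rs, -, hreg, ⟨e⟩⟩ := h
  have : IsLocalRing (B ⧸ Ideal.ofList rs) := e.isLocalRing
  exact Groth.CI.isCompleteIntersection_of_ringEquiv e.symm
    (Groth.FrobLCI.Avramov.isCompleteIntersection_quotient_regular B
      Groth.CI.isCompleteIntersection_of_isRegularLocalRing rs hreg)

theorem isPureDeep_of_ci {A : Type u} [CommRing A] [IsLocalRing A] [IsNoetherianRing A]
    (h : Pi1.IsCompleteIntersection A) (hd : (3 : WithBot ℕ∞) ≤ ringKrullDim A) : Groth.Pi1Formal.IsPureDeep A := by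
  refine ⟨Groth.Agent.S0272.result A h hd, ?_⟩
  obtain ⟨B, _, _, rs, -, hreg, ⟨e⟩⟩ := h
  let C := AdicCompletion (maximalIdeal A) A
  have : IsNoetherianRing C :=
    Groth.Calg1.isNoetherianRing_adicCompletion _ (IsNoetherian.noetherian (maximalIdeal A))
  have hCM := Groth.Calg6.TorCM.isCM_quotient_regularSeq B rs hreg
  have hCMC : LocCoh.IsCohenMacaulayLocalRing C := by
    refine ⟨?_⟩
    have h1 : LocCoh.depth C C = LocCoh.depth (B ⧸ Ideal.ofList rs) (B ⧸ Ideal.ofList rs) :=
      le_antisymm (Groth.ParaFormal.FsReduce.depth_le_of_ringEquiv e)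
        (Groth.ParaFormal.FsReduce.depth_le_of_ringEquiv e.symm)
    rw [Module.supportDim_self_eq_ringKrullDim, h1, ringKrullDim_eq_of_ringEquiv e,
      ← hCM.supportDim_eq_depth, Module.supportDim_self_eq_ringKrullDim]
  have hd' := hd
  rw [← Module.supportDim_self_eq_ringKrullDim, ((Groth.Agent.S9249.result A).2 hCMC).supportDim_eq_depth] at hd'
  exact le_trans (by norm_num) (WithBot.coe_le_coe.1 hd' : (3 : ℕ∞) ≤ LocCoh.depth A A)

theorem isPureDeep_of_regular {A : Type u} [CommRing A] [IsRegularLocalRing A]
    (hd : (2 : WithBot ℕ∞) ≤ ringKrullDim A) : Groth.Pi1Formal.IsPureDeep A := by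
  refine ⟨Groth.Pi1Purity.purityHolds_of_isRegularLocalRing A hd, ?_⟩
  have : IsDomain A := Groth.Ega4Algebra1.isDomain_of_isRegularLocalRing A
  have : IsIntegrallyClosed A := Groth.Ega4Algebra1.isIntegrallyClosed_of_isRegularLocalRing A
  exact Groth.RefRank.two_le_depth_of_normal hd

theorem isCompleteIntersection_atPrime_of_etale (A S : Type u) [CommRing A] [CommRing S] [Algebra A S]
    [Algebra.Etale A S] [IsNoetherianRing A] (q : Ideal S) [q.IsPrime]
    (h : Pi1.IsCompleteIntersection (Localization.AtPrime (q.comap (algebraMap A S)))) :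
    Pi1.IsCompleteIntersection (Localization.AtPrime q) := by
  let p := q.comap (algebraMap A S)
  let R := Localization.AtPrime p
  let T := Localization.AtPrime q
  let _ : Algebra R T := (Localization.localRingHom p q (algebraMap A S) rfl).toAlgebra
  have : IsScalarTower A R T :=
    IsScalarTower.of_algebraMap_eq fun a => by
      rw [RingHom.algebraMap_toAlgebra, Localization.localRingHom_to_map,
        IsScalarTower.algebraMap_apply A S T]
  have : IsLocalHom (algebraMap R T) := Localization.isLocalHom_localRingHom p q (algebraMap A S) rfl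
  have : Module.Flat A T := Module.Flat.trans A S _
  have : Module.Flat R T := (Module.flat_iff_of_isLocalization R p.primeCompl _).mpr inferInstance
  have : IsNoetherianRing S := Algebra.FiniteType.isNoetherianRing A S
  have : Algebra.EssFiniteType S T := Algebra.EssFiniteType.of_isLocalization _ q.primeCompl
  have : Algebra.EssFiniteType A T := Algebra.EssFiniteType.comp A S _
  have : Algebra.EssFiniteType R T := Algebra.EssFiniteType.of_comp A _ _
  have : Algebra.FormallyUnramified S T := Algebra.FormallyUnramified.of_isLocalization q.primeCompl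
  have : Algebra.FormallyUnramified A T := Algebra.FormallyUnramified.comp A S T
  have : Algebra.FormallyUnramified R T := Algebra.FormallyUnramified.of_restrictScalars A R T
  let I := (maximalIdeal R).map (algebraMap R T)
  have hfield : IsField (T ⧸ I) := Algebra.FormallyUnramified.isField_quotient_map_maximalIdeal
  letI : Field (T ⧸ I) := hfield.toField
  have : IsLocalRing (T ⧸ I) := inferInstance
  exact (Groth.FrobLCI.Avramov.isCompleteIntersection_iff_of_flat R T).2
    ⟨h, Groth.CI.isCompleteIntersection_of_isRegularLocalRing⟩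

theorem isPureDeep_stalk_of_etale {X Y : Scheme.{u}} (f : X ⟶ Y) [Etale f] [IsLocallyNoetherian Y] (x : X)
    (h : (IsRegularLocalRing (Y.presheaf.stalk (f.base x)) ∧
        (2 : WithBot ℕ∞) ≤ ringKrullDim (Y.presheaf.stalk (f.base x))) ∨
      (SGA2.IsAbsCompleteIntersection (Y.presheaf.stalk (f.base x)) ∧
        (3 : WithBot ℕ∞) ≤ ringKrullDim (Y.presheaf.stalk (f.base x)))) :
    Groth.Pi1Formal.IsPureDeep (X.presheaf.stalk x) := by
  have hdim := Groth.EtaleBase.ringKrullDim_stalk_eq f x
  rcases h with ⟨hr, hd⟩ | ⟨hci, hd⟩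
  · have := (Groth.EtaleBase.isRegularLocalRing_stalk_iff f x).2 hr
    exact isPureDeep_of_regular (hdim ▸ hd)
  · obtain ⟨A, S, _, _, _, _, _, q, _, ⟨e₁⟩, ⟨e₂⟩⟩ := Groth.EtaleBase.exists_etale_chart f x
    have hA : Pi1.IsCompleteIntersection (Localization.AtPrime (q.comap (algebraMap A S))) :=
      Groth.CI.isCompleteIntersection_of_ringEquiv e₁ (isCompleteIntersection_of_abs hci)
    have : IsNoetherianRing S := Algebra.FiniteType.isNoetherianRing A S
    have hS := isPureDeep_of_ci (isCompleteIntersection_atPrime_of_etale A S q hA)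
      (by rw [← ringKrullDim_eq_of_ringEquiv e₂, hdim]; exact hd)
    exact hS.of_ringEquiv e₂.symm

end Groth.ParaLift82
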