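import Groth.Agent.ParaLift82.Main

/-!
# Invertible modules trivial modulo all powers of an ideal
-/

set_option autoImplicit false
universe u

open CategoryTheory AlgebraicGeometry TopologicalSpace Groth.PicAux Groth.ParaFormal

namespace Groth.ParaLift82

variable {B : Type u} [CommRing B] [IsNoetherianRing B] {J : Ideal B} {x y : B}

theorem mem_of_forall_pow_sup (hJac : J ≤ Ideal.jacobson ⊥) (K : Ideal B) {z : B}
    (hz : ∀ n, z ∈ J ^ n ⊔ K) : z ∈ K := by
  have hmem : (Ideal.Quotient.mk K z) ∈ (⨅ i : ℕ, J ^ i • ⊤ : Submodule B (B ⧸ K)) := by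
    refine (Submodule.mem_iInf _).2 fun i => ?_
    obtain ⟨a, ha, b, hb, e⟩ := Submodule.mem_sup.1 (hz i)
    rw [← e, map_add, Ideal.Quotient.eq_zero_iff_mem.2 hb, add_zero,
      show Ideal.Quotient.mk K a = a • (1 : B ⧸ K) by
        rw [Algebra.smul_def, mul_one, Ideal.Quotient.algebraMap_eq]]
    exact Submodule.smul_mem_smul ha trivial
  rw [Ideal.iInf_pow_smul_eq_bot_of_le_jacobson J hJac, Submodule.mem_bot] at hmem
  exact Ideal.Quotient.eq_zero_iff_mem.1 hmem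

theorem regPair_bot_of_forall (hJac : J ≤ Ideal.jacobson ⊥)
    (h : ∀ n, RegPair (J ^ (n + 1)) x y) : RegPair (⊥ : Ideal B) x y := by
  refine ⟨fun z hz => mem_of_forall_pow_sup hJac ⊥ fun n => ?_, fun z hz => ?_⟩
  · exact Submodule.mem_sup_left (Ideal.pow_le_pow_right (Nat.le_succ n)
      ((h n).left z (by rw [Ideal.mem_bot.1 hz]; exact zero_mem _)))
  · rw [bot_sup_eq] at hz ⊢
    exact mem_of_forall_pow_sup hJac _ fun n => (sup_le_sup_right
      (Ideal.pow_le_pow_right (Nat.le_succ n)) _ : J ^ (n + 1) ⊔ _ ≤ _) ((h n).right z (Submodule.mem_sup_right hz))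

variable {ι : Type u} [Finite ι] {g : ι → B} {η : ∀ a b, Γ(SpB B, Dg g a ⊓ Dg g b)}

theorem isUnit_of_sub_one_mem (hJac : J ≤ Ideal.jacobson ⊥) {z : B} (hz : z - 1 ∈ J) : IsUnit z := by
  simpa using Ideal.mem_jacobson_bot.1 (hJac hz) 1

/-- Global functions compare two approximate trivialisations. -/
theorem exists_ratio (h : RegPair J x y) (hx : InRad g x) (hy : InRad g y)
    (hη : IsCocycle (Dg g) η) {t s : ∀ a, Γ(SpB B, Dg g a)} (ht : Approx η J t)
    (hs : Approx (swapCocycle η) J s) :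
    ∃ z : B, ∀ a, cst (Dg g a) z - t a * s a ∈ idl J _ :=
  sat_glue h hx hy (fun a => t a * s a) fun a b => by
    rw [map_mul, map_mul, show resX _ inf_le_left (t a) * resX _ inf_le_left (s a) -
      resX _ inf_le_right (t b) * resX _ inf_le_right (s b) =
      -((resX _ inf_le_right (t b) - resX _ inf_le_left (t a) * η a b) * resX _ inf_le_right (s b)) -
      resX _ inf_le_left (t a) * η a b *
        (resX _ inf_le_right (s b) - resX _ inf_le_left (s a) * swapCocycle η a b) by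
      linear_combination -(resX _ inf_le_left (t a) * resX _ inf_le_left (s a)) * mul_swapCocycle hη a b]
    exact Ideal.sub_mem _ (Ideal.neg_mem_iff _ |>.2 (Ideal.mul_mem_right _ _ (ht a b)))
      (Ideal.mul_mem_left _ _ (hs a b))

/-- A cocycle which is approximately trivial modulo every power of `J` is trivial. -/
theorem cob_of_system (hη : IsCocycle (Dg g) η) (hJac : J ≤ Ideal.jacobson ⊥)
    (hreg : ∀ n, RegPair (J ^ (n + 1)) x y) (hx : InRad g x) (hy : InRad g y)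
    (happ : ∀ n, ∃ t s : ∀ a, Γ(SpB B, Dg g a), (∀ a, t a * s a - 1 ∈ idl (J ^ (n + 1)) (Dg g a)) ∧
      Approx η (J ^ (n + 1)) t ∧ Approx (swapCocycle η) (J ^ (n + 1)) s) :
    Cob (Dg g) η ⊤ := by
  choose t s hts ht hs using happ
  have hJ1 : J ^ (0 + 1) = J := by simp
  have hreg0 : RegPair J x y := hJ1 ▸ hreg 0
  have hle : ∀ n O, idl (J ^ (n + 1)) O ≤ idl J O := fun n O => idl_mono (Ideal.pow_le_self (Nat.succ_ne_zero n))
  have htJ : ∀ n, Approx η J (t n) := fun n a b => hle n _ (ht n a b)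
  have hsJ : ∀ n, Approx (swapCocycle η) J (s n) := fun n a b => hle n _ (hs n a b)
  have htsJ : ∀ n a, t n a * s n a - 1 ∈ idl J (Dg g a) := fun n a => hle n _ (hts n a)
  choose z hz using fun n m => exists_ratio hreg0 hx hy hη (htJ n) (hsJ m)
  have hzu : ∀ n m, IsUnit (z n m) := fun n m => by
    refine isUnit_of_mul_isUnit_left (y := z m n) (isUnit_of_sub_one_mem hJac (sat_inj hreg0 hx fun a => ?_))
    have h1 := hz n m a
    have h2 := hz m n a
    rw [map_sub, map_mul, map_one,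
      show cst (Dg g a) (z n m) * cst _ (z m n) - 1 = (cst (Dg g a) (z n m) - t n a * s m a) * cst _ (z m n) +
        t n a * s m a * (cst _ (z m n) - t m a * s n a) + (t m a * s m a - 1) * (t n a * s n a) +
        (t n a * s n a - 1) by ring]
    exact Ideal.add_mem _ (Ideal.add_mem _ (Ideal.add_mem _ (Ideal.mul_mem_right _ _ h1)
      (Ideal.mul_mem_left _ _ h2)) (Ideal.mul_mem_right _ _ (htsJ m a))) (htsJ n a)
  have happt : ∀ n, ∃ t' : ∀ a, Γ(SpB B, Dg g a), Approx η (J ^ (n + 1)) t' ∧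
      ∀ a, t' a - t 0 a ∈ idl J _ := fun n => by
    refine ⟨fun a => cst _ (((hzu n 0).unit⁻¹ : Bˣ) : B) * t n a, fun a b => ?_, fun a => ?_⟩
    · rw [map_mul, map_mul, resX_cst, resX_cst, mul_assoc, ← mul_sub]
      exact Ideal.mul_mem_left _ _ (ht n a b)
    · have h1 : cst (Dg g a) (((hzu n 0).unit⁻¹ : Bˣ) : B) * cst _ (z n 0) = 1 := by
        rw [← map_mul, IsUnit.val_inv_mul, map_one]
      rw [show cst (Dg g a) (((hzu n 0).unit⁻¹ : Bˣ) : B) * t n a - t 0 a =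
        cst (Dg g a) (((hzu n 0).unit⁻¹ : Bˣ) : B) * (-(t n a * (t 0 a * s 0 a - 1)) -
          (cst _ (z n 0) - t n a * s 0 a) * t 0 a) by linear_combination (t 0 a) * h1]
      exact Ideal.mul_mem_left _ _ (Ideal.sub_mem _ (Ideal.neg_mem_iff _ |>.2
        (Ideal.mul_mem_left _ _ (htsJ 0 a))) (Ideal.mul_mem_right _ _ (hz n 0 a)))
  have happs : ∀ n, ∃ s' : ∀ a, Γ(SpB B, Dg g a), Approx (swapCocycle η) (J ^ (n + 1)) s' ∧
      ∀ a, s' a - s 0 a ∈ idl J _ := fun n => by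
    refine ⟨fun a => cst _ (z n 0) * s n a, fun a b => ?_, fun a => ?_⟩
    · rw [map_mul, map_mul, resX_cst, resX_cst, mul_assoc, ← mul_sub]
      exact Ideal.mul_mem_left _ _ (hs n a b)
    · rw [show cst (Dg g a) (z n 0) * s n a - s 0 a =
        (cst _ (z n 0) - t n a * s 0 a) * s n a + (t n a * s n a - 1) * s 0 a by ring]
      exact Ideal.add_mem _ (Ideal.mul_mem_right _ _ (hz n 0 a)) (Ideal.mul_mem_right _ _ (htsJ n a))
  obtain ⟨t', ht', htt⟩ := exists_exact hη hJac hreg hx hy (t 0) happt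
  obtain ⟨s', hs', hss⟩ := exists_exact (isCocycle_swap hη) hJac hreg hx hy (s 0) happs
  obtain ⟨f, hf⟩ := sat_glue (regPair_bot_of_forall hJac hreg) hx hy (fun a => t' a * s' a) fun a b => by
    rw [map_mul, map_mul, ht' a b, hs' a b, mul_mul_mul_comm _ (η a b), mul_swapCocycle hη, mul_one,
      sub_self]
    exact zero_mem _
  have hfa : ∀ a, cst (Dg g a) f = t' a * s' a := fun a => by simpa [idl, sub_eq_zero] using hf a
  have hfu : IsUnit f := isUnit_of_sub_one_mem hJac (sat_inj hreg0 hx fun a => by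
    rw [map_sub, map_one, hfa, show t' a * s' a - 1 =
      (t' a - t 0 a) * s' a + t 0 a * (s' a - s 0 a) + (t 0 a * s 0 a - 1) by ring]
    exact Ideal.add_mem _ (Ideal.add_mem _ (Ideal.mul_mem_right _ _ (htt a))
      (Ideal.mul_mem_left _ _ (hss a))) (htsJ 0 a))
  refine ⟨fun a => resX _ inf_le_left (t' a), fun a =>
    (isUnit_of_mul_isUnit_left (y := s' a) (hfa a ▸ hfu.map _)).map _, fun a b W ha hb hO => ?_⟩
  have h2 := congrArg (resX _ (le_inf ha hb)) (ht' a b)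
  simpa [map_mul, resX_resX] using h2

omit [Finite ι] in
theorem exists_cover (U : (SpB B).Opens) (L : (U : Scheme.{u}).Modules) (hL : PicF.IsInvertible L) :
    ∃ (κ : Type u) (_ : Finite κ) (g : κ → B) (e : ∀ a, Γ(L, U.ι ⁻¹ᵁ Dg g a)),
      U ≤ ⨆ a, Dg g a ∧ (∀ a, Dg g a ≤ U) ∧ (∀ z, D z ≤ U → InRad g z) ∧
      ∀ a, Gen L (U.ι ⁻¹ᵁ Dg g a) (e a) := by
  classical
  choose V e hmem he using (isInvertible_iff_exists_gen L).1 hL
  have hbas : ∀ z : (U : Scheme.{u}), ∃ g : B, g ∉ z.1.asIdeal ∧ D g ≤ U ∧ U.ι ⁻¹ᵁ D g ≤ V z := by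
    intro z
    obtain ⟨_, ⟨c, rfl⟩, hzc, hcV⟩ := PrimeSpectrum.isTopologicalBasis_basic_opens.exists_subset_of_mem_open
      (show z.1 ∈ SetLike.coe (U.ι ''ᵁ V z) from ⟨z, hmem z, rfl⟩)
      (U.ι ''ᵁ V z).isOpen
    refine ⟨c, hzc, fun w hw => ?_, fun w hw => ?_⟩
    · obtain ⟨w', -, e'⟩ := hcV (a := w) hw
      exact e' ▸ w'.2
    · obtain ⟨w', hw', e'⟩ := hcV (a := w.1) hw
      rwa [← U.ι.isOpenEmbedding.injective e']
  choose g₀ hg₀ hgU hgV using hbas
  have hcompact : CompactSpace (U : Scheme.{u}) := by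
    have : QuasiCompact U.ι := inferInstance
    exact QuasiCompact.compactSpace_of_compactSpace U.ι
  obtain ⟨S, hS⟩ := CompactSpace.elim_nhds_subcover
    (fun z : (U : Scheme.{u}) => ((U.ι ⁻¹ᵁ D (g₀ z) : (U : Scheme.{u}).Opens) : Set (U : Scheme.{u})))
    fun z => (U.ι ⁻¹ᵁ D (g₀ z)).2.mem_nhds (hg₀ z)
  have hcov : U ≤ ⨆ a : S, D (g₀ a.1) := fun z hz => by
    obtain ⟨a, ha, hza⟩ := Set.mem_iUnion₂.1 (hS.ge (Set.mem_univ (⟨z, hz⟩ : (U : Scheme.{u}))))
    exact Opens.mem_iSup.2 ⟨⟨a, ha⟩, hza⟩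
  refine ⟨S, inferInstance, fun a => g₀ a.1, fun a => res L (hgV a.1) (e a.1), hcov,
    fun a => hgU _, fun z hz => ?_, fun a => (he a.1).res _⟩
  rw [InRad, Ideal.radical_eq_sInf, Submodule.mem_sInf]
  rintro p ⟨hp, hpp⟩
  by_contra hzp
  obtain ⟨a, ha⟩ := Opens.mem_iSup.1 (hcov (hz (show (⟨p, hpp⟩ : PrimeSpectrum B) ∈ D z from hzp)))
  exact ha (hp (Ideal.subset_span ⟨a, rfl⟩))

omit [Finite ι] in
/-- An invertible module on an open containing `D x` and `D y` which is trivial modulo every power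
of `J` is trivial. -/
theorem trivial_of_system (hJac : J ≤ Ideal.jacobson ⊥) (hreg : ∀ n, RegPair (J ^ (n + 1)) x y)
    (U : (SpB B).Opens) (hxU : D x ≤ U) (hyU : D y ≤ U) (L : (U : Scheme.{u}).Modules)
    (hL : PicF.IsInvertible L)
    (hn : ∀ n, ∃ K : Ideal B, K = J ^ (n + 1) ∧
      Nonempty ((Scheme.Modules.pullback (quotMap K ∣_ U)).obj L ≅ Coh.structureModule _)) :
    Nonempty (L ≅ Coh.structureModule _) := by
  obtain ⟨κ, hκ, g, e, hcov, hUP, hrad, he⟩ := exists_cover U L hL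
  obtain ⟨η, hη, hF⟩ := exists_cocycle hUP he
  have hCob := cob_of_system hη hJac hreg (hrad x hxU) (hrad y hyU) fun n => by
    obtain ⟨K, rfl, h0⟩ := hn n
    exact exists_approx hUP hη hF h0
  obtain ⟨σ, hσ⟩ := hF.gen_of_cob hcov hCob
  exact nonempty_iso_structure_iff.2 ⟨σ, hσ⟩

end Groth.ParaLift82
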