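import Groth.Agent.ParaLift82.Algebraize
import Groth.Agent.ParaLift82.System
import Groth.Agent.ParaFormal.StalkCriterion

/-!
# Invertible modules on punctured hypersurfaces extend
-/

set_option autoImplicit false
universe u

open CategoryTheory AlgebraicGeometry TopologicalSpace Groth.PicAux Groth.ParaFormal IsLocalRing

namespace Groth.ParaLift82

theorem gen_of_le_bot {X : Scheme.{u}} (M : X.Modules) {U : X.Opens} (hU : U ≤ ⊥) (s : Γ(M, U)) :
    Gen M U s := fun V hV => by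
  have : Subsingleton Γ(M, V) := ⟨fun a b => res_ext (fun e : Empty => e.elim) (fun e => e.elim)
    ((hV.trans hU).trans bot_le) fun e => e.elim⟩
  have : Subsingleton Γ(X, V) := ⟨fun a b => resX_ext (fun e : Empty => e.elim) (fun e => e.elim)
    ((hV.trans hU).trans bot_le) fun e => e.elim⟩
  exact ⟨Function.injective_of_subsingleton _, fun t => ⟨0, Subsingleton.elim _ _⟩⟩

variable {X : Scheme.{u}} {κ : Type u} {U : κ → X.Opens} {η : ∀ a b, Γ(X, U a ⊓ U b)} {P : X.Opens}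

theorem nonempty_iso_of_frames {L L' : (P : Scheme.{u}).Modules} {e : ∀ a, Γ(L, P.ι ⁻¹ᵁ U a)}
    {e' : ∀ a, Γ(L', P.ι ⁻¹ᵁ U a)} (hc : P ≤ iSup U) (hF : Frames η L e) (hF' : Frames η L' e') :
    Nonempty (L ≅ L') := by
  have hcov : (⨆ a, P.ι ⁻¹ᵁ U a) = ⊤ := eq_top_iff.2 fun z _ => by
    obtain ⟨a, ha⟩ := Opens.mem_iSup.1 (hc z.2)
    exact Opens.mem_iSup.2 ⟨a, ha⟩
  obtain ⟨i, -⟩ := exists_iso_of_gen hcov e hF.1 e' hF'.1 fun a b r hr => by
    rw [hF.2 a b _ inf_le_left inf_le_right] at hr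
    rw [hF'.2 a b _ inf_le_left inf_le_right, (hF.1 b).smul_inj inf_le_right hr]
  exact ⟨i⟩

theorem ext_congr_right {C V V' : X.Opens} (e : V = V') :
    Ext (X.homOfLE (inf_le_left : V ⊓ C ≤ V)) ↔ Ext (X.homOfLE (inf_le_left : V' ⊓ C ≤ V')) := by
  subst e
  exact Iff.rfl

theorem two_le_depth_of_parafactorial {R : Type u} [CommRing R] [IsLocalRing R] [IsNoetherianRing R]
    (h : ParaF.IsParafactorialLocalRing R) : (2 : ℕ∞) ≤ LocCoh.depth R R := by
  let S := Spec (CommRingCat.of R)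
  let z : S := closedPoint R
  have hz := two_le_depth_of_hart (X := S) ((pair_iff _ _).1 h).1 (x := z) fun hc => hc rfl
  letI : Algebra R (S.presheaf.stalk z) := StructureSheaf.stalkAlgebra R z
  have : IsLocalization.AtPrime (S.presheaf.stalk z) (maximalIdeal R) :=
    StructureSheaf.IsLocalization.to_stalk R z
  exact hz.trans (Groth.Ega4b.depth_eq_of_ringEquiv (IsLocalization.atUnits R
    (maximalIdeal R).primeCompl (S := S.presheaf.stalk z)
    (fun t ht => not_not.1 fun h => ht (mem_nonunits_iff.2 h))).toRingEquiv).ge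

variable {B : Type u} [CommRing B] {t : B}

/-- Frames of a module on the closed subscheme cut out by `t`, over lifted basic opens. -/
theorem exists_quot_frames [IsLocalRing B] [IsNoetherianRing B] (ht : t ∈ maximalIdeal B)
    (L₀ : (↑(quotMap (Ideal.span {t}) ⁻¹ᵁ FEt.puncturedSpec B) : Scheme.{u}).Modules)
    (hL₀ : PicF.IsInvertible L₀) :
    ∃ (ι : Type u) (_ : Finite ι) (g : ι → B)
      (e₀ : ∀ a, Γ(L₀, (quotMap (Ideal.span {t}) ⁻¹ᵁ FEt.puncturedSpec B).ι ⁻¹ᵁ
        (quotMap (Ideal.span {t}) ⁻¹ᵁ Dg g a))),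
      FEt.puncturedSpec B ≤ ⨆ a, Dg g a ∧ (∀ a, Dg g a ≤ FEt.puncturedSpec B) ∧
        (∀ v ∈ maximalIdeal B, InRad g v) ∧ ∀ a, Gen L₀ _ (e₀ a) := by
  let f := quotMap (Ideal.span {t})
  let P₀ := f ⁻¹ᵁ FEt.puncturedSpec B
  obtain ⟨κ, hκ, g₀, e, hcov, hUP, -, he⟩ := exists_cover P₀ L₀ hL₀
  choose g hg using fun a => Ideal.Quotient.mk_surjective (g₀ a)
  have hDg : ∀ a, D (g₀ a) = f ⁻¹ᵁ D (g a) := fun a => by
    rw [quotMap_preimage]; rw [hg]
  have hgm : ∀ a, g a ∈ maximalIdeal B := fun a => by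
    by_contra hu
    have hz : closedPoint B ∈ D (g a) := hu
    obtain ⟨z, hz'⟩ : ∃ z : PrimeSpectrum (B ⧸ Ideal.span {t}),
        PrimeSpectrum.comap (Ideal.Quotient.mk (Ideal.span {t})) z = closedPoint B := by
      rw [← Set.mem_range, range_comap_of_surjective _ _ Ideal.Quotient.mk_surjective,
        Ideal.mk_ker, PrimeSpectrum.mem_zeroLocus, SetLike.coe_subset_coe]
      exact (Ideal.span_singleton_le_iff_mem _).2 ht
    have hzU : z ∈ D (g₀ a) := by
      rw [hDg a]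
      exact (show f z ∈ D (g a) from (hz' ▸ hz : PrimeSpectrum.comap _ z ∈ D (g a)))
    exact hUP a hzU hz'
  let g' : Option κ → B := fun o => o.elim t g
  have hbot : f ⁻¹ᵁ D t ≤ ⊥ := fun z hz => by
    refine (hz ?_).elim
    have : (Ideal.Quotient.mk (Ideal.span {t})) t = 0 :=
      Ideal.Quotient.eq_zero_iff_mem.2 (Ideal.mem_span_singleton_self t)
    change Ideal.Quotient.mk _ t ∈ z.asIdeal
    rw [this]; exact zero_mem _
  let e₀ : ∀ o, Γ(L₀, P₀.ι ⁻¹ᵁ (f ⁻¹ᵁ Dg g' o)) := fun o => match o with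
    | none => 0
    | some a => res L₀ (P₀.ι.preimage_mono (hDg a).ge) (e a)
  have hUP' : ∀ o, Dg g' o ≤ FEt.puncturedSpec B := fun o z hz hc => hz (by
    rw [show z = closedPoint B from hc]
    cases o with
    | none => exact ht
    | some a => exact hgm a)
  have hcov' : FEt.puncturedSpec B ≤ ⨆ o, Dg g' o := fun z hz => by
    by_cases htz : t ∈ z.asIdeal
    · obtain ⟨w, hw⟩ : ∃ w : PrimeSpectrum (B ⧸ Ideal.span {t}),
          PrimeSpectrum.comap (Ideal.Quotient.mk (Ideal.span {t})) w = z := by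
        rw [← Set.mem_range, range_comap_of_surjective _ _ Ideal.Quotient.mk_surjective,
          Ideal.mk_ker, PrimeSpectrum.mem_zeroLocus, SetLike.coe_subset_coe]
        exact (Ideal.span_singleton_le_iff_mem _).2 htz
      obtain ⟨a, ha⟩ := Opens.mem_iSup.1 (hcov (show w ∈ P₀ from fun hc => hz (hw ▸ hc)))
      have ha' : f w ∈ D (g a) := (hDg a).le ha
      exact Opens.mem_iSup.2 ⟨some a, (hw ▸ ha' : z ∈ D (g a))⟩
    · exact Opens.mem_iSup.2 ⟨none, htz⟩
  refine ⟨Option κ, inferInstance, g', e₀, hcov', hUP', fun v hv => ?_, fun o => ?_⟩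
  · rw [InRad, Ideal.radical_eq_sInf, Submodule.mem_sInf]
    rintro p ⟨hp, hpp⟩
    by_contra hvp
    obtain ⟨o, ho⟩ := Opens.mem_iSup.1 (hcov' (show (⟨p, hpp⟩ : PrimeSpectrum B) ∈ _ from fun hc =>
      hvp (by rw [show p = maximalIdeal B from congrArg PrimeSpectrum.asIdeal hc]; exact hv)))
    exact ho (hp (Ideal.subset_span ⟨o, rfl⟩))
  · cases o with
    | none => exact gen_of_le_bot L₀ (fun z hz => (hbot hz).elim) _
    | some a => exact (he a).res _

/-- An invertible module on the punctured spectrum of `B / (t)` extends to that of `B`. -/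
theorem exists_extension [IsLocalRing B] [IsNoetherianRing B] [IsAdicComplete (Ideal.span {t}) B]
    (ht : t ∈ maximalIdeal B) (htreg : ∀ a, t * a = 0 → a = 0) {x y z w : B}
    (hxm : x ∈ maximalIdeal B) (hym : y ∈ maximalIdeal B) (hzm : z ∈ maximalIdeal B)
    (hwm : w ∈ maximalIdeal B) (h : RegQuad (Ideal.span {t}) x y z w)
    (hpf : ∀ p : (↑(FEt.puncturedSpec B) : Scheme.{u}), t ∉ p.1.asIdeal →
      (∀ q ∈ FEt.puncturedSpec B, p.1 ⤳ q → t ∉ q.asIdeal) →
      ParaF.IsParafactorialLocalRing ((↑(FEt.puncturedSpec B) : Scheme.{u}).presheaf.stalk p))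
    (L₀ : (↑(quotMap (Ideal.span {t}) ⁻¹ᵁ FEt.puncturedSpec B) : Scheme.{u}).Modules)
    (hL₀ : PicF.IsInvertible L₀) :
    ∃ L : (↑(FEt.puncturedSpec B) : Scheme.{u}).Modules, PicF.IsInvertible L ∧
      Nonempty ((Scheme.Modules.pullback (quotMap (Ideal.span {t}) ∣_ FEt.puncturedSpec B)).obj L ≅ L₀) := by
  classical
  let J := Ideal.span {t}
  let f := quotMap J
  let U := FEt.puncturedSpec B
  let P₀ := f ⁻¹ᵁ U
  obtain ⟨ι, hι, g, e₀, hcov, hUP, hrad, he₀⟩ := exists_quot_frames ht L₀ hL₀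
  obtain ⟨η₀, hη₀, hF₀⟩ := exists_cocycle (U := fun a => f ⁻¹ᵁ Dg g a)
    (fun a => f.preimage_mono (hUP a)) he₀
  choose ee hee using fun a b => app_surjective (J := J) (D_mul (g a) (g b)).symm (η₀ a b)
  have hcoc : CocMod g J ee := fun a b c T ha hb hc => by
    let T₀ := Dg g a ⊓ Dg g b ⊓ Dg g c
    have h0 : rs (inf_le_left : T₀ ≤ _) (ee a b) * rs (inf_le_inf_right _ inf_le_right : T₀ ≤ _) (ee b c) -
        rs (inf_le_inf_right _ inf_le_left : T₀ ≤ _) (ee a c) ∈ idl J T₀ := by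
      refine mem_of_app_eq_zero (g := g a * g b * g c) (by simp only [T₀, D_mul]) ?_
      simp only [rs, map_sub, map_mul, app_resX, hee]
      rw [sub_eq_zero]
      exact (hη₀.rel a b c (f ⁻¹ᵁ T₀) (f.preimage_mono (inf_le_left.trans inf_le_left))
        (f.preimage_mono (inf_le_left.trans inf_le_right)) (f.preimage_mono inf_le_right)).symm
    have := res_mem (le_inf (le_inf ha hb) hc : T ≤ T₀) h0
    simpa only [rs, map_sub, map_mul, resX_resX] using this
  have hrevu : RevUnit g J ee := fun a b => by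
    refine mem_of_app_eq_zero (D_mul (g a) (g b)).symm ?_
    simp only [rev, rs, map_sub, map_mul, map_one, app_resX, hee]
    rw [sub_eq_zero]
    have := hη₀.rel a b a (f ⁻¹ᵁ (Dg g a ⊓ Dg g b)) (f.preimage_mono inf_le_left)
      (f.preimage_mono inf_le_right) (f.preimage_mono inf_le_left)
    rw [hη₀.diag a _ (f.preimage_mono inf_le_left)] at this
    erw [resX_self] at this
    exact this.symm
  obtain ⟨r, α, β, hrel, hdiag, hoff⟩ := exists_matrix htreg h (hrad x hxm) (hrad y hym) (hrad z hzm)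
    (hrad w hwm) ee hrevu hcoc
  let g' : ι → B := fun a => g a * r a a
  have hg' : ∀ a, Dg g' a ≤ Dg g a ∧ Dg g' a ≤ D (r a a) := fun a => by
    have : Dg g' a = Dg g a ⊓ D (r a a) := D_mul _ _
    exact ⟨this.le.trans inf_le_left, this.le.trans inf_le_right⟩
  have hunit : ∀ a {T : (SpB B).Opens}, T ≤ Dg g' a → IsUnit (cst T (r a a)) := fun a T hT => by
    simpa using isUnit_cst_pow (hT.trans (hg' a).2) 1
  have hdiv : ∀ a b, ∃ η : Γ(SpB B, Dg g' a ⊓ Dg g' b), cst _ (r a a) * η = cst _ (r a b) := fun a b => by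
    obtain ⟨η, hη⟩ := exists_div (g := r a a) (O := Dg g' a ⊓ Dg g' b) (inf_le_left.trans (hg' a).2) 1
      (cst _ (r a b))
    exact ⟨η, by simpa using hη⟩
  choose η hη using hdiv
  have hηu : ∀ a b, IsUnit (η a b) := fun a b => by
    refine isUnit_of_mul_isUnit_right (x := cst _ (r a a)) ?_
    rw [hη]
    refine isUnit_of_mul_isUnit_left (y := cst _ (r b a)) ?_
    rw [← map_mul, mul_comm, hrel a b b, map_mul]
    exact (hunit b inf_le_right).mul (hunit a inf_le_left)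
  have hcoc' : IsCocycle (Dg g') η := ⟨hηu, fun a b c T ha hb hc => by
    refine ((hunit a ha).mul (hunit b hb)).mul_left_cancel ?_
    have h1 := congrArg (resX _ (le_inf ha hc)) (hη a c)
    have h2 := congrArg (resX _ (le_inf ha hb)) (hη a b)
    have h3 := congrArg (resX _ (le_inf hb hc)) (hη b c)
    have h4 := congrArg (cst T) (hrel b c a)
    simp only [map_mul, resX_cst] at h1 h2 h3 h4
    linear_combination cst T (r b b) * h1 - cst T (r b b) * resX _ (le_inf hb hc) (η b c) * h2 -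
      cst T (r a b) * h3 - h4⟩
  let P : (SpB B).Opens := U ⊓ ⨆ a, Dg g' a
  have hUP' : ∀ a, Dg g' a ≤ P := fun a => le_inf ((hg' a).1.trans (hUP a)) (le_iSup _ a)
  have hPc : P ≤ ⨆ a, Dg g' a := inf_le_right
  obtain ⟨L₁, e₁, hF₁, hL₁⟩ := exists_frames P hPc hcoc'
  have hmemP : ∀ q ∈ U, t ∈ q.asIdeal → q ∈ P := fun q hq htq => by
    obtain ⟨a, ha⟩ := Opens.mem_iSup.1 (hcov hq)
    refine ⟨hq, Opens.mem_iSup.2 ⟨a, fun hc => ?_⟩⟩
    rcases q.isPrime.mem_or_mem hc with hc | hc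
    · exact ha hc
    have h1 := hdiag a
    rw [← map_sub] at h1
    obtain ⟨k, hk⟩ := (cst_mem_iff rfl J _).1 h1
    have h2 : g a ^ k * (r a a - g a ^ (α a + β a)) ∈ q.asIdeal :=
      (Ideal.span_singleton_le_iff_mem _).2 htq hk
    have h3 : r a a - g a ^ (α a + β a) ∈ q.asIdeal :=
      (q.isPrime.mem_or_mem h2).resolve_left fun h3 => ha (q.isPrime.mem_of_pow_mem _ h3)
    exact ha (q.isPrime.mem_of_pow_mem _ (show g a ^ (α a + β a) ∈ q.asIdeal by
      simpa using Ideal.sub_mem _ hc h3))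
  -- extension across the finitely many points outside `P`
  have hpf' : ∀ p : (↑U : Scheme.{u}), p ∉ U.ι ⁻¹ᵁ (⨆ a, Dg g' a) →
      ParaF.IsParafactorialLocalRing ((↑U : Scheme.{u}).presheaf.stalk p) := fun p hp =>
    hpf p (fun htp => hp (hmemP p.1 p.2 htp).2) fun q hq hspec htq =>
      hp (hspec.mem_open (⨆ a, Dg g' a).2 (hmemP q hq htq).2)
  have hd : ∀ p : (↑U : Scheme.{u}), p ∉ U.ι ⁻¹ᵁ (⨆ a, Dg g' a) →
      (2 : ℕ∞) ≤ LocCoh.depth ((↑U : Scheme.{u}).presheaf.stalk p) ((↑U : Scheme.{u}).presheaf.stalk p) :=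
    fun p hp => two_le_depth_of_parafactorial (hpf' p hp)
  have hExt := (ext_homOfLE_iff U (⨆ a, Dg g' a) ⊤).1 (ext_of_local (hart_of_depth hd) hpf' ⊤)
  rw [ext_congr_right (Scheme.Opens.ι_image_top U)] at hExt
  obtain ⟨L, hL, ⟨iL⟩⟩ := hExt L₁ hL₁
  -- comparison on the closed subscheme
  have hP₀ : f ⁻¹ᵁ P = P₀ := le_antisymm (f.preimage_mono inf_le_left) fun q hq =>
    show f q ∈ P from hmemP (f q) hq (by
      change t ∈ Ideal.comap (Ideal.Quotient.mk J) q.asIdeal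
      rw [Ideal.mem_comap, Ideal.Quotient.eq_zero_iff_mem.2 (Ideal.mem_span_singleton_self t)]
      exact zero_mem _)
  let D' : ι → (SpB (B ⧸ J)).Opens := fun a => f ⁻¹ᵁ Dg g' a
  have hD' : ∀ a, D' a ≤ f ⁻¹ᵁ Dg g a := fun a => f.preimage_mono (hg' a).1
  choose v hv using fun a => exists_div (g := Ideal.Quotient.mk J (g a)) (O := D' a)
    ((hD' a).trans (quotMap_preimage J (g a)).le) (β a) 1
  have hvu : ∀ a, IsUnit (v a) := fun a => isUnit_of_mul_isUnit_right (hv a ▸ isUnit_one)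
  let e₀' : ∀ a, Γ(L₀, P₀.ι ⁻¹ᵁ D' a) := fun a =>
    toP _ (resX _ (P₀.ι.image_preimage_le _) (v a)) • res L₀ (P₀.ι.preimage_mono (hD' a)) (e₀ a)
  have hF₀' : Frames (U := D') (fun a b => f.app _ (η a b)) L₀ e₀' := by
    refine ⟨fun a => ((he₀ a).res _).smul_unit ((hvu a).map _), fun a b W ha hb => ?_⟩
    simp only [e₀', res_smul, res_res]
    rw [hF₀.2 a b W (ha.trans (P₀.ι.preimage_mono (hD' a))) (hb.trans (P₀.ι.preimage_mono (hD' b))),
      ← mul_smul, ← mul_smul]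
    congr 1
    let Tb := Dg g' a ⊓ Dg g' b
    have hTg : Tb ≤ Dg g a ⊓ Dg g b := inf_le_inf (hg' a).1 (hg' b).1
    have hua := isUnit_cst_pow (g := g a) (O := Tb) (inf_le_left.trans (hg' a).1) (α a)
    have hkey : cst Tb (g a ^ β a) * η a b - cst Tb (g b ^ β b) * rs hTg (ee a b) ∈ idl J Tb := by
      refine (Ideal.unit_mul_mem_iff_mem _ hua).1 ?_
      have h1 := res_mem (inf_le_left.trans (hg' a).1 : Tb ≤ _) (hdiag a)
      have h2 := res_mem hTg (hoff a b)
      simp only [rs, map_sub, map_mul, resX_cst] at h1 h2 ⊢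
      rw [pow_add, map_mul] at h1
      rw [show cst Tb (g a ^ α a) * (cst Tb (g a ^ β a) * η a b - cst Tb (g b ^ β b) * resX _ hTg (ee a b)) =
        (cst Tb (r a b) - cst Tb (g a ^ α a) * cst Tb (g b ^ β b) * resX _ hTg (ee a b)) -
          (cst Tb (r a a) - cst Tb (g a ^ α a) * cst Tb (g a ^ β a)) * η a b by rw [← hη a b]; ring]
      exact Ideal.sub_mem _ h2 (Ideal.mul_mem_right _ _ h1)
    have hkey' : cst (f ⁻¹ᵁ Tb) (Ideal.Quotient.mk J (g a) ^ β a) * f.app Tb (η a b) =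
        cst (f ⁻¹ᵁ Tb) (Ideal.Quotient.mk J (g b) ^ β b) * resX _ (f.preimage_mono hTg) (η₀ a b) := by
      have h1 := Ideal.mem_map_of_mem (f.app Tb).hom hkey
      have h0 : ∀ u ∈ (idl J Tb).map (f.app Tb).hom, u = 0 := by
        intro u hu
        rw [idl, Ideal.map_map] at hu
        have : J.map ((f.app Tb).hom.comp (cst Tb)) ≤ ⊥ := Ideal.map_le_iff_le_comap.2 fun j hj => by
          rw [Ideal.mem_comap, RingHom.comp_apply, Ideal.mem_bot]
          exact (app_cst J Tb j).trans (by rw [Ideal.Quotient.eq_zero_iff_mem.2 hj, map_zero])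
        simpa using this hu
      have h2 := h0 _ h1
      simp only [rs, map_sub, map_mul, app_resX, hee, f, app_cst, map_pow, sub_eq_zero] at h2 ⊢
      exact h2
    have hWa := (P₀.ι.image_mono ha).trans (P₀.ι.image_preimage_le (D' a))
    have hWb := (P₀.ι.image_mono hb).trans (P₀.ι.image_preimage_le (D' b))
    have hW : P₀.ι ''ᵁ W ≤ f ⁻¹ᵁ (Dg g' a ⊓ Dg g' b) := le_inf hWa hWb
    have h3 := congrArg (resX _ hW) hkey'
    have h4 := congrArg (resX _ hWa) (hv a)
    have h5 := congrArg (resX _ hWb) (hv b)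
    simp only [map_mul, map_pow, map_one, resX_cst, resX_resX, toP, resX_open, Tb] at h3 h4 h5 ⊢
    set va := resX _ hWa (v a)
    set vb := resX _ hWb (v b)
    have main : va * resX _ (hW.trans (f.preimage_mono hTg)) (η₀ a b) =
        resX _ hW (f.app _ (η a b)) * vb := by
      linear_combination (-va * vb) * h3 + (vb * resX _ hW (f.app _ (η a b))) * h4 -
        (va * resX _ (hW.trans (f.preimage_mono hTg)) (η₀ a b)) * h5
    exact main
  have key : ∀ (Q : (SpB (B ⧸ J)).Opens) (e : Q = P₀) (M : (Q : Scheme.{u}).Modules)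
      (ε : ∀ a, Γ(M, Q.ι ⁻¹ᵁ D' a)), Q ≤ iSup D' → Frames (U := D') (fun a b => f.app _ (η a b)) M ε →
      Nonempty ((Scheme.Modules.pullback ((SpB (B ⧸ J)).homOfLE e.ge)).obj M ≅ L₀) := by
    intro Q e M ε hQ hM
    subst e
    obtain ⟨i⟩ := nonempty_iso_of_frames hQ hM hF₀'
    exact ⟨(Scheme.Modules.pullbackCongr (Scheme.homOfLE_rfl _ _)).app M ≪≫
      (Scheme.Modules.pullbackId _).app M ≪≫ i⟩
  obtain ⟨i₀⟩ := key (f ⁻¹ᵁ P) hP₀ _ _ (fun q hq => by
    obtain ⟨a, ha⟩ := Opens.mem_iSup.1 (hPc (show f q ∈ P from hq))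
    exact Opens.mem_iSup.2 ⟨a, ha⟩) (frames_pull hF₁)
  refine ⟨L, hL, ⟨?_⟩⟩
  have hk : ((SpB (B ⧸ J)).homOfLE hP₀.ge ≫ f ∣_ P) ≫ (SpB B).homOfLE (inf_le_left : P ≤ U) = f ∣_ U := by
    rw [← cancel_mono U.ι]
    simp only [Category.assoc, Scheme.homOfLE_ι, morphismRestrict_ι]
    rw [← Category.assoc, Scheme.homOfLE_ι]
  exact ((Scheme.Modules.pullbackCongr hk).app L).symm ≪≫ ((Scheme.Modules.pullbackComp _ _).app L).symm ≪≫
    (Scheme.Modules.pullback _).mapIso iL ≪≫ ((Scheme.Modules.pullbackComp _ _).app L₁).symm ≪≫ i₀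

end Groth.ParaLift82
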