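import Groth.Agent.ParaLift82.Extend
import Groth.Agent.ParaLift82.Depth
import Groth.Agent.ParaFormal.FsReduce
import Groth.Agent.ParaFormal.PairPhi
import Groth.Agent.S2824

/-!
# Parafactoriality along hypersurfaces of depth at least four
-/

set_option autoImplicit false
universe u

open CategoryTheory AlgebraicGeometry TopologicalSpace IsLocalRing RingTheory.Sequence Groth.PicAux

namespace Groth.ParaLift82

variable {B : Type u} [CommRing B]

theorem exists_regQuad [IsLocalRing B] [IsNoetherianRing B] {J : Ideal B} [IsLocalRing (B ⧸ J)]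
    (hd : (4 : ℕ∞) ≤ LocCoh.depth (B ⧸ J) (B ⧸ J)) :
    ∃ x y z w : B, x ∈ maximalIdeal B ∧ y ∈ maximalIdeal B ∧ z ∈ maximalIdeal B ∧ w ∈ maximalIdeal B ∧
      RegQuad J x y z w := by
  have := IsLocalHom.of_surjective (Ideal.Quotient.mk J) Ideal.Quotient.mk_surjective
  obtain ⟨rs, hlen, hrs, hm⟩ := (Groth.LocCohBase.le_idealDepth_iff_exists _
    (Groth.LocCohBase.smul_maximalIdeal_ne_top (B ⧸ J) (maximalIdeal.isMaximal (B ⧸ J)).ne_top) 4).1 hd
  match rs, hlen, hrs, hm with
  | [x', y', z', w'], _, hrs, hm =>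
    obtain ⟨x, rfl⟩ := Ideal.Quotient.mk_surjective x'
    obtain ⟨y, rfl⟩ := Ideal.Quotient.mk_surjective y'
    obtain ⟨z, rfl⟩ := Ideal.Quotient.mk_surjective z'
    obtain ⟨w, rfl⟩ := Ideal.Quotient.mk_surjective w'
    have hmax : ∀ a : B, Ideal.Quotient.mk J a ∈ maximalIdeal (B ⧸ J) → a ∈ maximalIdeal B :=
      fun a ha hu => ha (hu.map _)
    have hof : ∀ l : List B, ∀ a, Ideal.Quotient.mk J a ∈ Ideal.ofList (l.map (Ideal.Quotient.mk J)) ↔
        a ∈ J ⊔ Ideal.ofList l := fun l a => by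
      rw [← Ideal.map_ofList, ← Ideal.mem_comap,
        Ideal.comap_map_of_surjective _ Ideal.Quotient.mk_surjective, ← RingHom.ker_eq_comap_bot,
        Ideal.mk_ker, sup_comm]
    have key : ∀ (i : ℕ) (hi : i < 4) (a : B),
        [x, y, z, w][i]'(by simpa using hi) * a ∈ J ⊔ Ideal.ofList ([x, y, z, w].take i) →
          a ∈ J ⊔ Ideal.ofList ([x, y, z, w].take i) := fun i hi a ha => by
      have h0 := (isSMulRegular_quotient_iff_mem_of_smul_mem _ _).1 (hrs.regular_mod_prev i (by simpa using hi))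
        (Ideal.Quotient.mk J a)
      simp only [smul_eq_mul, Ideal.mul_top] at h0
      have hmap : List.take i [Ideal.Quotient.mk J x, Ideal.Quotient.mk J y, Ideal.Quotient.mk J z,
          Ideal.Quotient.mk J w] = ([x, y, z, w].take i).map (Ideal.Quotient.mk J) := by
        rw [List.map_take]; rfl
      simp only [hmap, hof] at h0
      refine h0 ?_
      have : [Ideal.Quotient.mk J x, Ideal.Quotient.mk J y, Ideal.Quotient.mk J z,
          Ideal.Quotient.mk J w][i]'(by simpa using hi) = Ideal.Quotient.mk J ([x, y, z, w][i]'(by simpa using hi)) := by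
        interval_cases i <;> rfl
      rw [this, ← map_mul, hof]
      exact ha
    have o1 : J ⊔ Ideal.ofList [x] = J ⊔ Ideal.span {x} := by rw [Ideal.ofList_singleton]
    have o2 : J ⊔ Ideal.ofList [x, y] = J ⊔ Ideal.span {x} ⊔ Ideal.span {y} := by
      rw [Ideal.ofList_cons, Ideal.ofList_singleton, ← sup_assoc]
    have o3 : J ⊔ Ideal.ofList [x, y, z] = J ⊔ Ideal.span {x} ⊔ Ideal.span {y} ⊔ Ideal.span {z} := by
      rw [Ideal.ofList_cons, Ideal.ofList_cons, Ideal.ofList_singleton, ← sup_assoc, ← sup_assoc]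
    refine ⟨x, y, z, w, hmax x (hm _ (by simp)), hmax y (hm _ (by simp)), hmax z (hm _ (by simp)),
      hmax w (hm _ (by simp)), ⟨⟨⟨fun a ha => ?_, ?_⟩, ?_⟩, ?_⟩⟩
    · have := key 0 (by norm_num) a
      simp only [List.take_zero, Ideal.ofList_nil, sup_bot_eq, List.getElem_cons_zero] at this
      exact this ha
    · exact o1 ▸ key 1 (by norm_num)
    · exact o2 ▸ key 2 (by norm_num)
    · exact o3 ▸ key 3 (by norm_num)

variable [IsLocalRing B] [IsNoetherianRing B] {t : B}

theorem ringKrullDim_quotient_eq_one (ht : t ∈ maximalIdeal B) (p : PrimeSpectrum B) (htp : t ∉ p.asIdeal)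
    (h : ∀ q : PrimeSpectrum B, q ∈ FEt.puncturedSpec B → p.asIdeal ≤ q.asIdeal → t ∉ q.asIdeal) :
    ringKrullDim (B ⧸ p.asIdeal) = 1 := by
  let mk := Ideal.Quotient.mk p.asIdeal
  have : IsLocalRing (B ⧸ p.asIdeal) := IsLocalRing.of_surjective' mk Ideal.Quotient.mk_surjective
  have := IsLocalHom.of_surjective mk Ideal.Quotient.mk_surjective
  have ht0 : mk t ≠ 0 := fun e => htp (Ideal.Quotient.eq_zero_iff_mem.1 e)
  have htu : ¬ IsUnit (mk t) := fun hu => ht (isUnit_of_map_unit mk t hu)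
  have hmin : maximalIdeal (B ⧸ p.asIdeal) ∈ (Ideal.span {mk t}).minimalPrimes := by
    refine ⟨⟨inferInstance, (Ideal.span_singleton_le_iff_mem _).2 htu⟩, fun P ⟨hP, hle⟩ _ => ?_⟩
    intro v hv
    by_contra hvP
    obtain ⟨v, rfl⟩ := Ideal.Quotient.mk_surjective v
    refine h ⟨P.comap mk, inferInstance⟩ (fun hc => hvP ?_) (fun b hb => ?_)
      (show mk t ∈ P from (Ideal.span_singleton_le_iff_mem P).1 hle)
    · have hc' : P.comap mk = maximalIdeal B := congrArg PrimeSpectrum.asIdeal hc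
      show v ∈ P.comap mk
      rw [hc']
      exact fun hu => hv (hu.map _)
    · show mk b ∈ P
      rw [Ideal.Quotient.eq_zero_iff_mem.2 hb]; exact P.zero_mem
  refine le_antisymm ?_ ?_
  · rw [← IsLocalRing.maximalIdeal_height_eq_ringKrullDim]
    exact WithBot.coe_le_coe.2 (Ideal.height_le_one_of_isPrincipal_of_mem_minimalPrimes _ _ hmin)
  · refine Order.one_le_krullDim_iff.2
      ⟨⟨⊥, Ideal.isPrime_bot⟩, closedPoint (B ⧸ p.asIdeal), lt_of_le_of_ne bot_le fun e => ht0 ?_⟩
    have e' : (⊥ : Ideal (B ⧸ p.asIdeal)) = maximalIdeal _ := congrArg PrimeSpectrum.asIdeal e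
    rw [← Ideal.mem_bot (R := B ⧸ p.asIdeal), e']
    exact htu

/-- Every invertible module on the punctured spectrum of the hypersurface extends. -/
theorem exists_extension_of_depth [IsAdicComplete (Ideal.span {t}) B] (ht : t ∈ maximalIdeal B)
    (hreg : IsSMulRegular B t) [IsLocalRing (B ⧸ Ideal.span {t})]
    (hd : (4 : ℕ∞) ≤ LocCoh.depth (B ⧸ Ideal.span {t}) (B ⧸ Ideal.span {t}))
    (he : ∀ p : PrimeSpectrum B, t ∉ p.asIdeal → ringKrullDim (B ⧸ p.asIdeal) = 1 →
      ParaF.IsParafactorialLocalRing (Localization.AtPrime p.asIdeal))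
    (L₀ : (↑(quotMap (Ideal.span {t}) ⁻¹ᵁ FEt.puncturedSpec B) : Scheme.{u}).Modules)
    (hL₀ : PicF.IsInvertible L₀) :
    ∃ L : (↑(FEt.puncturedSpec B) : Scheme.{u}).Modules, PicF.IsInvertible L ∧
      Nonempty ((Scheme.Modules.pullback (quotMap (Ideal.span {t}) ∣_ FEt.puncturedSpec B)).obj L ≅ L₀) := by
  obtain ⟨x, y, z, w, hx, hy, hz, hw, hq⟩ := exists_regQuad hd
  refine exists_extension ht (fun a ha => hreg.right_eq_zero_of_smul ha) hx hy hz hw hq
    (fun p htp hp => ?_) L₀ hL₀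
  have hdim := ringKrullDim_quotient_eq_one ht p.1 htp fun q hq hle => hp q hq
    ((PrimeSpectrum.le_iff_specializes p.1 q).1 hle)
  letI : Algebra B ((SpB B).presheaf.stalk p.1) := StructureSheaf.stalkAlgebra B p.1
  have : IsLocalization.AtPrime ((SpB B).presheaf.stalk p.1) p.1.asIdeal :=
    StructureSheaf.IsLocalization.to_stalk B p.1
  exact Groth.ParaFormal.FsReduce.parafactorial_of_ringEquiv
    (((FEt.puncturedSpec B).stalkIso p).commRingCatIsoToRingEquiv.trans
      (IsLocalization.algEquiv p.1.asIdeal.primeCompl ((SpB B).presheaf.stalk p.1)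
        (Localization.AtPrime p.1.asIdeal)).toRingEquiv) (he p.1 htp hdim)

/-- The closed subscheme `V(t) ∩ X` of the punctured spectrum. -/
noncomputable def toInter (t : B) :
    (↑(quotMap (Ideal.span {t}) ⁻¹ᵁ FEt.puncturedSpec B) : Scheme.{u}) ⟶
      ((quotMap (Ideal.span {t})).ker.comap (FEt.puncturedSpec B).ι).subscheme :=
  Limits.pullback.lift (quotMap (Ideal.span {t}) ∣_ FEt.puncturedSpec B)
    ((quotMap (Ideal.span {t}) ⁻¹ᵁ FEt.puncturedSpec B).ι ≫ (quotMap (Ideal.span {t})).toImage)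
    (by rw [morphismRestrict_ι, Category.assoc]; exact congrArg _ (quotMap (Ideal.span {t})).toImage_imageι.symm) ≫
    ((quotMap (Ideal.span {t})).ker.comapIso (FEt.puncturedSpec B).ι).inv

omit [IsNoetherianRing B] in
theorem toInter_ι (t : B) : toInter t ≫ ((quotMap (Ideal.span {t})).ker.comap (FEt.puncturedSpec B).ι).subschemeι =
    quotMap (Ideal.span {t}) ∣_ FEt.puncturedSpec B := by
  simp only [toInter, Category.assoc, Scheme.IdealSheafData.comapIso_inv_subschemeι]
  exact Limits.pullback.lift_fst _ _ _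

omit [IsNoetherianRing B] in
theorem isIso_toInter (t : B) : IsIso (toInter t) := by
  have : IsClosedImmersion (quotMap (Ideal.span {t})) :=
    IsClosedImmersion.spec_of_surjective _ Ideal.Quotient.mk_surjective
  have : IsIso (quotMap (Ideal.span {t})).toImage := inferInstance
  have hpb := (isPullback_morphismRestrict (quotMap (Ideal.span {t})) (FEt.puncturedSpec B))
  have hpb' : IsPullback (quotMap (Ideal.span {t}) ∣_ FEt.puncturedSpec B)
      ((quotMap (Ideal.span {t}) ⁻¹ᵁ FEt.puncturedSpec B).ι ≫ (quotMap (Ideal.span {t})).toImage)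
      (FEt.puncturedSpec B).ι (quotMap (Ideal.span {t})).ker.subschemeι :=
    IsPullback.of_iso hpb (Iso.refl _) (Iso.refl _) (asIso (quotMap (Ideal.span {t})).toImage) (Iso.refl _)
      (by simp) (by simp) (by simp) (by simp)
  have hiso : IsIso (Limits.pullback.lift (f := (FEt.puncturedSpec B).ι)
      (g := (quotMap (Ideal.span {t})).ker.subschemeι) (quotMap (Ideal.span {t}) ∣_ FEt.puncturedSpec B)
      ((quotMap (Ideal.span {t}) ⁻¹ᵁ FEt.puncturedSpec B).ι ≫ (quotMap (Ideal.span {t})).toImage) hpb'.w) := by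
    rw [show Limits.pullback.lift (f := (FEt.puncturedSpec B).ι)
      (g := (quotMap (Ideal.span {t})).ker.subschemeι) (quotMap (Ideal.span {t}) ∣_ FEt.puncturedSpec B)
      ((quotMap (Ideal.span {t}) ⁻¹ᵁ FEt.puncturedSpec B).ι ≫ (quotMap (Ideal.span {t})).toImage) hpb'.w =
        hpb'.isoPullback.hom from Limits.pullback.hom_ext
          ((Limits.pullback.lift_fst _ _ _).trans hpb'.isoPullback_hom_fst.symm)
          ((Limits.pullback.lift_snd _ _ _).trans hpb'.isoPullback_hom_snd.symm)]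
    infer_instance
  rw [toInter]
  infer_instance

/-- Parafactoriality passes to a hypersurface of depth at least four. -/
theorem isParafactorial_quotient [IsAdicComplete (Ideal.span {t}) B] (ht : t ∈ maximalIdeal B)
    (hreg : IsSMulRegular B t) [IsLocalRing (B ⧸ Ideal.span {t})]
    (hd : (4 : ℕ∞) ≤ LocCoh.depth (B ⧸ Ideal.span {t}) (B ⧸ Ideal.span {t}))
    (he : ∀ p : PrimeSpectrum B, t ∉ p.asIdeal → ringKrullDim (B ⧸ p.asIdeal) = 1 →
      ParaF.IsParafactorialLocalRing (Localization.AtPrime p.asIdeal))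
    (hB : ParaF.IsParafactorialLocalRing B) : ParaF.IsParafactorialLocalRing (B ⧸ Ideal.span {t}) := by
  rw [Groth.Agent.S2824.result] at hB ⊢
  obtain ⟨a, b, ha, hb, h1, h2, h3⟩ :=
    Groth.ParaFormal.exists_pair (R := B ⧸ Ideal.span {t}) (le_trans (by norm_num) hd)
  refine ⟨Groth.ParaFormal.bijective_restrict_of_pair ha hb h1 h2 h3, ?_⟩
  have hJ : Ideal.span {t} ≠ ⊤ := fun e => (maximalIdeal.isMaximal B).ne_top
    (top_le_iff.1 (e ▸ (Ideal.span_singleton_le_iff_mem _).2 ht))
  suffices hmain : ParaF.PicTrivial (↑(quotMap (Ideal.span {t}) ⁻¹ᵁ FEt.puncturedSpec B) : Scheme.{u}) by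
    rw [quotMap_preimage_punctured hJ] at hmain; exact hmain
  intro L₀ hL₀
  obtain ⟨L, hL, ⟨i⟩⟩ := exists_extension_of_depth ht hreg hd he L₀ hL₀
  obtain ⟨e⟩ := hB.2 L hL
  obtain ⟨i'⟩ := pullback_structure_iso (quotMap (Ideal.span {t}) ∣_ FEt.puncturedSpec B)
  exact ⟨i.symm ≪≫ (Scheme.Modules.pullback _).mapIso e ≪≫ i'⟩

end Groth.ParaLift82
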