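import Groth.Agent.ParaLift82.CoverAlgebraize
import Groth.Agent.ParaLift82.Hypersurface
import Groth.Agent.Pi1Purity.Extend
import Groth.Agent.Pi1Formal.Transport

/-!
# Purity descends to a hypersurface of depth at least three
-/

set_option autoImplicit false
set_option backward.isDefEq.respectTransparency false
universe u

open CategoryTheory AlgebraicGeometry TopologicalSpace IsLocalRing Groth.PicAux Groth.Pi1FEt

namespace Groth.ParaLift82

variable {B : Type u} [CommRing B]

theorem purityHolds_stalk (p : SpB B) (h : FEt.PurityHolds (Localization.AtPrime p.asIdeal)) :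
    FEt.PurityHolds ((SpB B).presheaf.stalk p) := by
  letI : Algebra B ((SpB B).presheaf.stalk p) := StructureSheaf.stalkAlgebra B p
  have : IsLocalization.AtPrime ((SpB B).presheaf.stalk p) p.asIdeal :=
    StructureSheaf.IsLocalization.to_stalk B p
  exact Groth.Pi1Formal.purityHolds_of_ringEquiv
    (IsLocalization.algEquiv p.asIdeal.primeCompl (Localization.AtPrime p.asIdeal)
      ((SpB B).presheaf.stalk p)).toRingEquiv h

variable [IsLocalRing B] [IsNoetherianRing B] {t : B}

theorem purityHolds_quotient [IsAdicComplete (Ideal.span {t}) B] (ht : t ∈ maximalIdeal B)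
    (hreg : IsSMulRegular B t) [IsLocalRing (B ⧸ Ideal.span {t})]
    (hd : (3 : ℕ∞) ≤ LocCoh.depth (B ⧸ Ideal.span {t}) (B ⧸ Ideal.span {t}))
    (he : ∀ p : PrimeSpectrum B, t ∉ p.asIdeal → ringKrullDim (B ⧸ p.asIdeal) = 1 →
      FEt.PurityHolds (Localization.AtPrime p.asIdeal))
    (hB : FEt.PurityHolds B) : FEt.PurityHolds (B ⧸ Ideal.span {t}) := by
  have hJ : Jl t 0 = Ideal.span {t} := by simp [Jl]
  have : IsLocalRing (B ⧸ Jl t 0) := (Ideal.quotEquivOfEq hJ).symm.isLocalRing
  refine Groth.Pi1Formal.purityHolds_of_ringEquiv (Ideal.quotEquivOfEq hJ) ?_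
  let U := FEt.puncturedSpec B
  have hne : Jl t 0 ≠ ⊤ := fun e => (maximalIdeal.isMaximal B).ne_top
    (top_le_iff.1 (e ▸ (hJ.le.trans ((Ideal.span_singleton_le_iff_mem _).2 ht))))
  unfold FEt.PurityHolds
  rw [← quotMap_preimage_punctured hne]
  refine ⟨fun V₀ => ?_⟩
  obtain ⟨s, hs⟩ := IsNoetherian.noetherian (maximalIdeal B)
  let g : s → B := fun a => a.1
  have hspan : Ideal.span (Set.range g) = maximalIdeal B := by
    rw [← hs]; exact congrArg Ideal.span Subtype.range_val
  have hle : ∀ a, D (g a) ≤ U := fun a z hz e => by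
    obtain rfl : z = IsLocalRing.closedPoint B := e
    exact hz (show g a ∈ maximalIdeal B from hs ▸ Submodule.subset_span a.2)
  have hcov : U ≤ ⨆ a, D (g a) := fun z hz => by
    by_contra h
    refine hz (PrimeSpectrum.ext ((le_maximalIdeal z.isPrime.ne_top).antisymm ?_))
    show maximalIdeal B ≤ z.asIdeal
    rw [← hspan, Ideal.span_le]
    rintro _ ⟨a, rfl⟩
    by_contra ha
    exact h (Opens.mem_iSup.2 ⟨a, ha⟩)
  have hrad : ∀ v ∈ maximalIdeal B, InRad g v := fun v hv => Ideal.le_radical (hspan.symm ▸ hv)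
  obtain ⟨x, y, w, hx, hy, hw, htri⟩ := exists_regTriple hd
  obtain ⟨W, hWU, hW, Z, ⟨i⟩⟩ :=
    exists_open_lift hreg htri (hrad x hx) (hrad y hy) (hrad w hw) hle hcov V₀
  obtain ⟨Z', ⟨i'⟩⟩ := Groth.Pi1Purity.exists_extension W Z fun p hp => Or.inl (by
    refine purityHolds_stalk p ?_
    by_cases hpm : p = IsLocalRing.closedPoint B
    · subst hpm
      exact Groth.Pi1Formal.purityHolds_of_ringEquiv (IsLocalization.atUnits B
        (IsLocalRing.closedPoint B).asIdeal.primeCompl
        (fun a ha => IsLocalRing.notMem_maximalIdeal.mp ha)).toRingEquiv hB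
    · have htW : ∀ q : PrimeSpectrum B, q ∈ U → t ∈ q.asIdeal → q ∈ W := fun q hq htq => by
        obtain ⟨v, hv⟩ : q ∈ Set.range (quotMap (Jl t 0)) := by
          show q ∈ Set.range (PrimeSpectrum.comap (Ideal.Quotient.mk (Jl t 0)))
          rw [range_comap_of_surjective _ _ Ideal.Quotient.mk_surjective, Ideal.mk_ker,
            PrimeSpectrum.mem_zeroLocus, SetLike.coe_subset_coe, hJ, Ideal.span_singleton_le_iff_mem]
          exact htq
        subst hv
        exact hW hq
      refine he p (fun htp => hp (htW p hpm htp)) ?_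
      refine ringKrullDim_quotient_eq_one ht p (fun htp => hp (htW p hpm htp)) fun q hq hpq htq => ?_
      exact hp (((PrimeSpectrum.le_iff_specializes p q).1 hpq).mem_open W.isOpen (htW q hq htq)))
  refine ⟨(FEt.restrict (quotMap (Jl t 0))).obj Z', ⟨?_⟩⟩
  exact ((restrictCompIso _ (quotMap (Jl t 0))).app Z').symm ≪≫
    (restrictCongr (Scheme.Hom.resLE_comp_ι (quotMap (Jl t 0)) hW).symm).app Z' ≪≫
    (restrictCompIso _ W.ι).app Z' ≪≫ (FEt.restrict _).mapIso i' ≪≫ i

end Groth.ParaLift82
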