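import Groth.Agent.ParaLift82.FiniteTame
import Groth.Agent.ParaLift82.PurityHyper

/-!
# Covers of the punctured hypersurface extend when `H^1` and `H^2` of it are finite
-/

set_option autoImplicit false
set_option backward.isDefEq.respectTransparency false
universe u

open CategoryTheory CategoryTheory.Limits AlgebraicGeometry TopologicalSpace IsLocalRing Groth.PicAux Groth.Pi1FEt

namespace Groth.ParaLift82

variable {B : Type u} [CommRing B] [IsLocalRing B] [IsNoetherianRing B] {t : B}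

/-- Finite generators of the maximal ideal give a cover of the punctured spectrum. -/
theorem exists_cover_punctured (B : Type u) [CommRing B] [IsLocalRing B] [IsNoetherianRing B] :
    ∃ (ι : Type u) (_ : Finite ι) (g : ι → B), Ideal.span (Set.range g) = maximalIdeal B ∧
      (∀ a, D (g a) ≤ FEt.puncturedSpec B) ∧ FEt.puncturedSpec B ≤ ⨆ a, D (g a) := by
  obtain ⟨s, hs⟩ := IsNoetherian.noetherian (maximalIdeal B)
  let g : s → B := fun a => a.1
  have hspan : Ideal.span (Set.range g) = maximalIdeal B := by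
    rw [← hs]; exact congrArg Ideal.span Subtype.range_val
  refine ⟨s, inferInstance, g, hspan, fun a z hz e => ?_, fun z hz => ?_⟩
  · obtain rfl : z = IsLocalRing.closedPoint B := e
    exact hz (show g a ∈ maximalIdeal B from hs ▸ Submodule.subset_span a.2)
  · by_contra h
    refine hz (PrimeSpectrum.ext ((le_maximalIdeal z.isPrime.ne_top).antisymm ?_))
    show maximalIdeal B ≤ z.asIdeal
    rw [← hspan, Ideal.span_le]
    rintro _ ⟨a, rfl⟩
    by_contra ha
    exact h (Opens.mem_iSup.2 ⟨a, ha⟩)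

variable [IsAdicComplete (Ideal.span {t}) B]

theorem exists_nhd_lift_aux (ht : IsSMulRegular B t) (J : Ideal B) (hJ : Jl t 0 = J)
    (h₁ : Module.Finite B (LocCoh.H (maximalIdeal B) 1 (B ⧸ Ideal.span {t})))
    (h₂ : Module.Finite B (LocCoh.H (maximalIdeal B) 2 (B ⧸ Ideal.span {t})))
    (V₀ : FEt.Cat (pullback (FEt.puncturedSpec B).ι (quotMap J))) :
    ∃ (U' : (SpB B).Opens) (_ : U' ≤ FEt.puncturedSpec B)
      (u' : pullback (FEt.puncturedSpec B).ι (quotMap J) ⟶ (U' : Scheme.{u}))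
      (_ : u' ≫ U'.ι = pullback.fst (FEt.puncturedSpec B).ι (quotMap J) ≫ (FEt.puncturedSpec B).ι)
      (V' : FEt.Cat (U' : Scheme.{u})), Nonempty ((FEt.restrict u').obj V' ≅ V₀) := by
  subst hJ
  let U := FEt.puncturedSpec B
  let q := quotMap (Jl t 0)
  obtain ⟨ι, _, g, hspan, hle, hcov⟩ := exists_cover_punctured B
  rw [← hspan] at h₁ h₂
  let α : pullback U.ι q ≅ (Ul t U 0 : Scheme.{u}) :=
    pullbackSymmetry _ _ ≪≫ pullbackRestrictIsoRestrict q U
  have hα : α.hom ≫ (Ul t U 0).ι = pullback.snd U.ι q := by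
    show (_ ≫ _) ≫ _ = _
    rw [Category.assoc, pullbackRestrictIsoRestrict_hom_ι, pullbackSymmetry_hom_comp_fst]
  obtain ⟨W, hWU, hW, Z, ⟨i⟩⟩ := exists_open_lift_of_algebra (fun S => S.exists_algebra_of_finite ht h₁ h₂)
    hle hcov ((FEt.restrict α.inv).obj V₀)
  refine ⟨W, hWU, α.hom ≫ q.resLE W (Ul t U 0) hW, ?_, Z, ⟨?_⟩⟩
  · rw [Category.assoc, Scheme.Hom.resLE_comp_ι, reassoc_of% hα, pullback.condition]
  · exact (restrictCompIso α.hom _).app Z ≪≫ (FEt.restrict α.hom).mapIso i ≪≫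
      (restrictCompIso α.hom α.inv).symm.app V₀ ≪≫ (restrictCongr α.hom_inv_id).app V₀ ≪≫
      (restrictIdIso _).app V₀

/-- Covers of the punctured hypersurface extend to an open of the punctured spectrum. -/
theorem exists_nhd_lift (ht : IsSMulRegular B t)
    (h₁ : Module.Finite B (LocCoh.H (maximalIdeal B) 1 (B ⧸ Ideal.span {t})))
    (h₂ : Module.Finite B (LocCoh.H (maximalIdeal B) 2 (B ⧸ Ideal.span {t})))
    (V₀ : FEt.Cat (pullback (FEt.puncturedSpec B).ι (quotMap (Ideal.span {t})))) :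
    ∃ (U' : (SpB B).Opens) (_ : U' ≤ FEt.puncturedSpec B)
      (u' : pullback (FEt.puncturedSpec B).ι (quotMap (Ideal.span {t})) ⟶ (U' : Scheme.{u}))
      (_ : u' ≫ U'.ι = pullback.fst (FEt.puncturedSpec B).ι (quotMap (Ideal.span {t})) ≫ (FEt.puncturedSpec B).ι)
      (V' : FEt.Cat (U' : Scheme.{u})), Nonempty ((FEt.restrict u').obj V' ≅ V₀) :=
  exists_nhd_lift_aux ht _ (by simp [Jl]) h₁ h₂ V₀

omit [IsAdicComplete (Ideal.span {t}) B] in
/-- Purity at the points of the punctured spectrum outside an open containing the punctured hypersurface. -/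
theorem purityHolds_outside (ht : t ∈ maximalIdeal B)
    (hp : ∀ P : Ideal (Localization.Away t), ∀ _ : P.IsMaximal, FEt.PurityHolds (Localization.AtPrime P))
    {W : (SpB B).Opens} (hW : ∀ q : PrimeSpectrum B, q ∈ FEt.puncturedSpec B → t ∈ q.asIdeal → q ∈ W)
    (p : SpB B) (hpU : p ∈ FEt.puncturedSpec B) (hpW : p ∉ W) : FEt.PurityHolds ((SpB B).presheaf.stalk p) := by
  refine purityHolds_stalk p ?_
  have htp : t ∉ p.asIdeal := fun h => hpW (hW p hpU h)
  have hdim : ringKrullDim (B ⧸ p.asIdeal) = 1 := ringKrullDim_quotient_eq_one ht p htp fun q hq hpq htq =>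
    hpW (((PrimeSpectrum.le_iff_specializes p q).1 hpq).mem_open W.isOpen (hW q hq htq))
  let R := Localization.Away t
  have hdis : Disjoint (Submonoid.powers t : Set B) (p.asIdeal : Set B) :=
    Set.disjoint_left.2 fun _ ⟨n, hn⟩ hx => htp (p.isPrime.mem_of_pow_mem n (by subst hn; exact hx))
  let P := p.asIdeal.map (algebraMap B R)
  have hP : P.IsPrime := IsLocalization.isPrime_of_isPrime_disjoint _ R _ p.isPrime hdis
  have hcomap : P.comap (algebraMap B R) = p.asIdeal :=
    IsLocalization.under_map_of_isPrime_disjoint _ R p.isPrime hdis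
  have hmax : P.IsMaximal := by
    obtain ⟨Q, hQ, hPQ⟩ := Ideal.exists_le_maximal P hP.ne_top
    suffices h : Q.comap (algebraMap B R) = p.asIdeal by
      have h1 : Q = P := (IsLocalization.map_comap (Submonoid.powers t) R Q).symm.trans (congrArg (Ideal.map _) h)
      exact h1 ▸ hQ
    have hpq : p.asIdeal ≤ Q.comap (algebraMap B R) := hcomap ▸ Ideal.comap_mono hPQ
    have htq : t ∉ Q.comap (algebraMap B R) := fun h =>
      hQ.ne_top (Ideal.eq_top_of_isUnit_mem _ h (IsLocalization.Away.algebraMap_isUnit t))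
    by_contra hne
    have : IsDomain (B ⧸ p.asIdeal) := Ideal.Quotient.isDomain _
    let mk := Ideal.Quotient.mk p.asIdeal
    let q := Q.comap (algebraMap B R)
    have : q.IsPrime := Ideal.comap_isPrime _ _
    have hk : RingHom.ker mk ≤ q := by rw [Ideal.mk_ker]; exact hpq
    have hqm : q ≠ maximalIdeal B := fun h => htq (show t ∈ q by rw [h]; exact ht)
    have hback : ∀ J : Ideal B, RingHom.ker mk ≤ J → (J.map mk).comap mk = J := fun J hJ =>
      (Ideal.comap_map_of_surjective' mk Ideal.Quotient.mk_surjective _).trans (sup_eq_left.2 hJ)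
    have hkm : RingHom.ker mk ≤ maximalIdeal B := hk.trans (le_maximalIdeal (Ideal.IsPrime.ne_top this))
    let a : PrimeSpectrum (B ⧸ p.asIdeal) := ⟨⊥, Ideal.isPrime_bot⟩
    let b : PrimeSpectrum (B ⧸ p.asIdeal) :=
      ⟨q.map mk, Ideal.map_isPrime_of_surjective Ideal.Quotient.mk_surjective hk⟩
    let c : PrimeSpectrum (B ⧸ p.asIdeal) :=
      ⟨(maximalIdeal B).map mk, Ideal.map_isPrime_of_surjective Ideal.Quotient.mk_surjective hkm⟩
    have h1 : a < b := show (⊥ : Ideal (B ⧸ p.asIdeal)) < q.map mk from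
      bot_lt_iff_ne_bot.2 fun h => hne (le_antisymm (by
        rw [← Ideal.mk_ker (I := p.asIdeal)]; exact (Ideal.map_eq_bot_iff_le_ker _).1 h) hpq)
    have h2 : b < c := show q.map mk < (maximalIdeal B).map mk from
      lt_of_le_of_ne (Ideal.map_mono (le_maximalIdeal (Ideal.IsPrime.ne_top this))) fun h => hqm (by
        rw [← hback q hk, h, hback _ hkm])
    let sr : LTSeries (PrimeSpectrum (B ⧸ p.asIdeal)) :=
      ((RelSeries.singleton _ a).snoc b h1).snoc c (by simpa using h2)
    have h3 : (sr.length : WithBot ℕ∞) ≤ ringKrullDim (B ⧸ p.asIdeal) := Order.LTSeries.length_le_krullDim sr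
    rw [hdim, show sr.length = 2 from rfl] at h3
    exact absurd h3 (by decide)
  have : IsLocalization.AtPrime (Localization.AtPrime P) p.asIdeal := by
    have h1 : IsLocalization.AtPrime (Localization.AtPrime P) (P.comap (algebraMap B R)) := inferInstance
    simpa only [hcomap] using h1
  exact Groth.Pi1Formal.purityHolds_of_ringEquiv
    (IsLocalization.algEquiv p.asIdeal.primeCompl (Localization.AtPrime P)
      (Localization.AtPrime p.asIdeal)).toRingEquiv (hp P hmax)

/-- Covers of the punctured hypersurface extend to the punctured spectrum given purity at maximal ideals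
away from the hypersurface, if they extend to opens. -/
theorem exists_punctured_lift_of_nhd (hm : t ∈ maximalIdeal B)
    (hlift : ∀ V₀ : FEt.Cat (pullback (FEt.puncturedSpec B).ι (quotMap (Ideal.span {t}))),
      ∃ (U' : (SpB B).Opens) (_ : U' ≤ FEt.puncturedSpec B)
      (u' : pullback (FEt.puncturedSpec B).ι (quotMap (Ideal.span {t})) ⟶ (U' : Scheme.{u}))
      (_ : u' ≫ U'.ι = pullback.fst (FEt.puncturedSpec B).ι (quotMap (Ideal.span {t})) ≫ (FEt.puncturedSpec B).ι)
      (V' : FEt.Cat (U' : Scheme.{u})), Nonempty ((FEt.restrict u').obj V' ≅ V₀))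
    (hp : ∀ P : Ideal (Localization.Away t), ∀ _ : P.IsMaximal, FEt.PurityHolds (Localization.AtPrime P)) :
    (FEt.restrict (pullback.fst (FEt.puncturedSpec B).ι (quotMap (Ideal.span {t})))).EssSurj := by
  refine ⟨fun V₀ => ?_⟩
  let U := FEt.puncturedSpec B
  obtain ⟨W, hWU, u', hu', V', ⟨i⟩⟩ := hlift V₀
  have hW : ∀ q : PrimeSpectrum B, q ∈ U → t ∈ q.asIdeal → q ∈ W := fun q hq htq => by
    obtain ⟨v, hv⟩ : q ∈ Set.range (quotMap (Ideal.span {t})) := by
      show q ∈ Set.range (PrimeSpectrum.comap (Ideal.Quotient.mk (Ideal.span {t})))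
      rw [range_comap_of_surjective _ _ Ideal.Quotient.mk_surjective, Ideal.mk_ker,
        PrimeSpectrum.mem_zeroLocus, SetLike.coe_subset_coe, Ideal.span_singleton_le_iff_mem]
      exact htq
    obtain ⟨z, hz1, -⟩ := Scheme.Pullback.exists_preimage_pullback
      (f := U.ι) (g := quotMap (Ideal.span {t})) ⟨q, hq⟩ v hv.symm
    have h3 := (u' z).2
    have h4 : W.ι (u' z) = U.ι (pullback.fst U.ι (quotMap (Ideal.span {t})) z) := by
      rw [← Scheme.Hom.comp_apply, ← Scheme.Hom.comp_apply, hu']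
    rw [hz1] at h4
    exact (show (u' z).1 = q from h4) ▸ h3
  let W' : (U : Scheme.{u}).Opens := U.ι ⁻¹ᵁ W
  let σ : (W' : Scheme.{u}) ⟶ (W : Scheme.{u}) := U.ι ∣_ W
  have : IsLocallyNoetherian (U : Scheme.{u}) := LocallyOfFiniteType.isLocallyNoetherian U.ι
  have : CompactSpace (U : Scheme.{u}) := isCompact_iff_compactSpace.1 (NoetherianSpace.isCompact _)
  have : AlgebraicGeometry.IsNoetherian (U : Scheme.{u}) := ⟨⟩
  obtain ⟨Z, ⟨j⟩⟩ := Groth.Pi1Purity.exists_extension W' ((FEt.restrict σ).obj V') fun x hx => Or.inl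
    (Groth.Pi1Formal.purityHolds_of_ringEquiv (U.stalkIso x).symm.commRingCatIsoToRingEquiv
      (purityHolds_outside hm hp hW x.1 x.2 hx))
  have : IsOpenImmersion U.ι := inferInstance
  let v : pullback U.ι (quotMap (Ideal.span {t})) ⟶ (W' : Scheme.{u}) :=
    IsOpenImmersion.lift W'.ι (pullback.fst _ _) (by
      rintro _ ⟨z, rfl⟩
      rw [Scheme.Opens.range_ι]
      show U.ι (pullback.fst U.ι (quotMap (Ideal.span {t})) z) ∈ W
      rw [← Scheme.Hom.comp_apply, ← hu', Scheme.Hom.comp_apply]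
      exact (u' z).2)
  have hv : v ≫ W'.ι = pullback.fst U.ι (quotMap (Ideal.span {t})) := IsOpenImmersion.lift_fac _ _ _
  have hvσ : v ≫ σ = u' := by
    rw [← cancel_mono W.ι, Category.assoc, morphismRestrict_ι, reassoc_of% hv, hu']
  exact ⟨Z, ⟨(restrictCongr hv).symm.app Z ≪≫ (restrictCompIso v W'.ι).app Z ≪≫ (FEt.restrict v).mapIso j ≪≫
    (restrictCompIso v σ).symm.app V' ≪≫ (restrictCongr hvσ).app V' ≪≫ i⟩⟩

/-- Covers of the punctured hypersurface extend to the punctured spectrum given purity at maximal ideals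
away from the hypersurface. -/
theorem exists_punctured_lift (hm : t ∈ maximalIdeal B) (ht : IsSMulRegular B t)
    (h₁ : Module.Finite B (LocCoh.H (maximalIdeal B) 1 (B ⧸ Ideal.span {t})))
    (h₂ : Module.Finite B (LocCoh.H (maximalIdeal B) 2 (B ⧸ Ideal.span {t})))
    (hp : ∀ P : Ideal (Localization.Away t), ∀ _ : P.IsMaximal, FEt.PurityHolds (Localization.AtPrime P)) :
    (FEt.restrict (pullback.fst (FEt.puncturedSpec B).ι (quotMap (Ideal.span {t})))).EssSurj :=
  exists_punctured_lift_of_nhd hm (exists_nhd_lift ht h₁ h₂) hp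

theorem isSMulRegular_of_nzd {A : Type u} [CommRing A] {a : A} (h : a ∈ nonZeroDivisors A) : IsSMulRegular A a :=
  fun x y e => sub_eq_zero.1 (mem_nonZeroDivisors_iff_right.1 h _ (by
    rw [sub_mul, sub_eq_zero, mul_comm x, mul_comm y]; exact e))

/-- Purity descends to the hypersurface when covers extend to opens. -/
theorem purityHolds_quotient_of_nhd (hm : t ∈ maximalIdeal B)
    (hlift : ∀ V₀ : FEt.Cat (pullback (FEt.puncturedSpec B).ι (quotMap (Ideal.span {t}))),
      ∃ (U' : (SpB B).Opens) (_ : U' ≤ FEt.puncturedSpec B)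
      (u' : pullback (FEt.puncturedSpec B).ι (quotMap (Ideal.span {t})) ⟶ (U' : Scheme.{u}))
      (_ : u' ≫ U'.ι = pullback.fst (FEt.puncturedSpec B).ι (quotMap (Ideal.span {t})) ≫ (FEt.puncturedSpec B).ι)
      (V' : FEt.Cat (U' : Scheme.{u})), Nonempty ((FEt.restrict u').obj V' ≅ V₀))
    (hp : ∀ P : Ideal (Localization.Away t), ∀ _ : P.IsMaximal, FEt.PurityHolds (Localization.AtPrime P))
    (hB : FEt.PurityHolds B) [IsLocalRing (B ⧸ Ideal.span {t})] : FEt.PurityHolds (B ⧸ Ideal.span {t}) := by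
  have hne : Ideal.span {t} ≠ ⊤ := fun e => (maximalIdeal.isMaximal B).ne_top
    (top_le_iff.1 (e ▸ (Ideal.span_singleton_le_iff_mem _).2 hm))
  let U := FEt.puncturedSpec B
  let q := quotMap (Ideal.span {t})
  have := exists_punctured_lift_of_nhd hm hlift hp
  have : (FEt.restrict U.ι).EssSurj := hB
  unfold FEt.PurityHolds
  rw [← quotMap_preimage_punctured hne]
  let α : pullback U.ι q ≅ ((q ⁻¹ᵁ U : (SpB (B ⧸ Ideal.span {t})).Opens) : Scheme.{u}) :=
    pullbackSymmetry _ _ ≪≫ pullbackRestrictIsoRestrict q U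
  have hα : α.hom ≫ (q ⁻¹ᵁ U).ι = pullback.snd U.ι q := by
    show (_ ≫ _) ≫ _ = _
    rw [Category.assoc, pullbackRestrictIsoRestrict_hom_ι, pullbackSymmetry_hom_comp_fst]
  refine ⟨fun V₀ => ?_⟩
  let Z := (FEt.restrict (pullback.fst U.ι q)).objPreimage ((FEt.restrict α.hom).obj V₀)
  let i := (FEt.restrict (pullback.fst U.ι q)).objObjPreimageIso ((FEt.restrict α.hom).obj V₀)
  let Z' := (FEt.restrict U.ι).objPreimage Z
  let i' := (FEt.restrict U.ι).objObjPreimageIso Z
  have h : (q ⁻¹ᵁ U).ι ≫ q = α.inv ≫ pullback.fst U.ι q ≫ U.ι := by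
    rw [Iso.eq_inv_comp, reassoc_of% hα, pullback.condition]
  exact ⟨(FEt.restrict q).obj Z', ⟨(restrictCompIso _ q).symm.app Z' ≪≫ (restrictCongr h).app Z' ≪≫
    (restrictCompIso α.inv (pullback.fst U.ι q ≫ U.ι)).app Z' ≪≫
    (FEt.restrict α.inv).mapIso ((restrictCompIso (pullback.fst U.ι q) U.ι).app Z' ≪≫
      (FEt.restrict (pullback.fst U.ι q)).mapIso i' ≪≫ i) ≪≫
    (restrictCompIso α.inv α.hom).symm.app V₀ ≪≫ (restrictCongr α.inv_hom_id).app V₀ ≪≫ (restrictIdIso _).app V₀⟩⟩

/-- Purity descends to the hypersurface when `H^1` and `H^2` of it are finite. -/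
theorem purityHolds_quotient_of_finite (hm : t ∈ maximalIdeal B) (ht : IsSMulRegular B t)
    (h₁ : Module.Finite B (LocCoh.H (maximalIdeal B) 1 (B ⧸ Ideal.span {t})))
    (h₂ : Module.Finite B (LocCoh.H (maximalIdeal B) 2 (B ⧸ Ideal.span {t})))
    (hp : ∀ P : Ideal (Localization.Away t), ∀ _ : P.IsMaximal, FEt.PurityHolds (Localization.AtPrime P))
    (hB : FEt.PurityHolds B) [IsLocalRing (B ⧸ Ideal.span {t})] : FEt.PurityHolds (B ⧸ Ideal.span {t}) :=
  purityHolds_quotient_of_nhd hm (exists_nhd_lift ht h₁ h₂) hp hB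

end Groth.ParaLift82
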