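import Groth.Agent.ParaLift82.TfEmbed
import Groth.Agent.ParaLift82.CoverLim
import Groth.Agent.CohDev.AlgzPrincipal.Syzygy

/-!
# Stabilization when the first two local cohomology modules are finite

If `H^1` and `H^2` of `B/I` on the ideal of the cover are finite, coordinate maps exist, the bottom level is
finite with finite `H^2`, and the obstructions lie in a finite module.
-/

set_option autoImplicit false
universe u

open CategoryTheory AlgebraicGeometry TopologicalSpace Groth.PicAux Groth.ParaFormal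

namespace Groth.ParaLift82

open Groth.LocCohBase (HH')

variable {B : Type u} [CommRing B] [IsNoetherianRing B] {ι : Type u} [Finite ι] {g : ι → B} {I : Ideal B}

theorem exists_extend_pow (h₁ : Module.Finite B (HH' (Ig g) 1 (ModuleCat.of B (B ⧸ I)))) (a : ι)
    {M : Type u} [AddCommGroup M] [Module B M] (M' : Submodule B M) (φ' : M' →ₗ[B] B ⧸ I)
    (hM' : ∀ z b, ∃ k : ℕ, g b ^ k • z ∈ M') :
    ∃ (K : ℕ) (φ : M →ₗ[B] B ⧸ I), ∀ z : M', φ z = g a ^ K • φ' z := by
  let T := DRing.torsionSub (Ig g) (B ⧸ I)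
  let Q := (B ⧸ I) ⧸ T
  have hQ : Module.Finite B (HH' (Ig g) 1 (ModuleCat.of B Q)) :=
    Module.Finite.of_surjective ((localCohomology (Ig g) 1).map (ModuleCat.ofHom T.mkQ)).hom
      (LocCohBase.map_mkQ_torsion_bijective (Ig g) 0 (B ⧸ I)).2
  obtain ⟨E, _, _, e, he, hE, hsep⟩ := exists_tf_embedding g Q
    (LocCohBase.torsionSub_quotient_eq_bot (Submodule.fg_span (Set.finite_range g)) (B ⧸ I))
  let N := DRing.torsionSub (Ig g) (E ⧸ LinearMap.range e)
  have : Module.Finite B N := finite_torsion_quotient e he hsep hQ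
  obtain ⟨K₁, hK₁⟩ := exists_pow_kill (r := g a) (M := N) fun x => by
    obtain ⟨k, hk⟩ := mem_torsion_iff.1 x.2 a
    exact ⟨k, Subtype.ext hk⟩
  obtain ⟨K₂, hK₂⟩ := exists_pow_kill (r := g a) (M := T) fun x => by
    obtain ⟨k, hk⟩ := mem_torsion_iff.1 x.2 a
    exact ⟨k, Subtype.ext hk⟩
  obtain ⟨ψ, hψ⟩ := (sat_of_injective hE hsep).exists_extend M' hM' ((e ∘ₗ T.mkQ) ∘ₗ φ')
  have hmem : ∀ z, (g a ^ K₁ • ψ) z ∈ LinearMap.range e := fun z => by
    have h0 : (LinearMap.range e).mkQ (ψ z) ∈ N := mem_torsion_iff.2 fun b => by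
      obtain ⟨k, hk⟩ := hM' z b
      refine ⟨k, ?_⟩
      rw [← map_smul, ← map_smul]
      exact (Submodule.Quotient.mk_eq_zero _).2 ⟨T.mkQ (φ' ⟨_, hk⟩), (hψ ⟨_, hk⟩).symm⟩
    refine (Submodule.Quotient.mk_eq_zero _).1 ?_
    exact congrArg Subtype.val (hK₁ ⟨_, h0⟩)
  let L : Q →ₗ[B] B ⧸ I := T.liftQ (LinearMap.lsmul B _ (g a ^ K₂)) fun x hx =>
    congrArg Subtype.val (hK₂ ⟨x, hx⟩)
  refine ⟨K₂ + K₁, L ∘ₗ (LinearEquiv.ofInjective e he).symm.toLinearMap ∘ₗ
    (g a ^ K₁ • ψ).codRestrict (LinearMap.range e) hmem, fun z => ?_⟩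
  have h1 : (LinearEquiv.ofInjective e he).symm ((g a ^ K₁ • ψ).codRestrict _ hmem (z : M)) =
      T.mkQ (g a ^ K₁ • φ' z) := by
    rw [LinearEquiv.symm_apply_eq]
    refine Subtype.ext ?_
    rw [LinearEquiv.ofInjective_apply, map_smul, map_smul]
    exact congrArg (g a ^ K₁ • ·) (hψ z)
  rw [LinearMap.comp_apply, LinearMap.comp_apply, LinearEquiv.coe_coe, h1, pow_add, mul_smul]
  rfl

/-- A saturated module with coordinate maps into powers of `B/I` is finite with finite second local cohomology. -/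
theorem finite_of_locDual {M : Type u} [AddCommGroup M] [Module B M] (hM : Sat g M)
    (hI : ∀ i ∈ I, ∀ z : M, i • z = 0) (hloc : LocDual g I M)
    (h₁ : Module.Finite B (HH' (Ig g) 1 (ModuleCat.of B (B ⧸ I))))
    (h₂ : Module.Finite B (HH' (Ig g) 2 (ModuleCat.of B (B ⧸ I)))) :
    Module.Finite B M ∧ Module.Finite B (HH' (Ig g) 2 (ModuleCat.of B M)) := by
  classical
  cases nonempty_fintype ι
  choose l p φ N hN using hloc
  let e : M →ₗ[B] ((Σ a : ι, ULift.{u} (Fin (l a))) → B ⧸ I) := LinearMap.pi fun j => φ j.1 j.2.down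
  have hinj : Function.Injective e := (injective_iff_map_eq_zero e).2 fun z hz => hM.sep z fun a => by
    obtain ⟨K, hK⟩ := hN a z (fun _ => 0) fun i => by
      rw [map_zero]; exact (congrFun hz ⟨a, ⟨i⟩⟩).symm
    exact ⟨K + N a, by simpa [pow_add, mul_smul] using hK⟩
  have hfin : Module.Finite B M := Module.Finite.of_injective e hinj
  refine ⟨hfin, ?_⟩
  let v : ∀ a, (Fin (l a) → B ⧸ I) →ₗ[B] M := fun a =>
    ∑ i, (I.liftQ (LinearMap.toSpanSingleton B M (p a i))
      (fun c hc => LinearMap.mem_ker.2 (hI c hc (p a i)))).comp (LinearMap.proj i)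
  have hv : ∀ a (b : Fin (l a) → B), v a (fun i => Submodule.Quotient.mk (b i)) = ∑ i, b i • p a i :=
    fun a b => by
      simp only [v, LinearMap.coe_sum, Finset.sum_apply, LinearMap.comp_apply, LinearMap.proj_apply,
        Submodule.liftQ_apply, LinearMap.toSpanSingleton_apply]
  have hkill : ∀ a, ∃ K, ∀ z, g a ^ K • (g a ^ N a • z - v a (LinearMap.pi (φ a) z)) = 0 := fun a => by
    let D : M →ₗ[B] M := g a ^ N a • LinearMap.id - v a ∘ₗ LinearMap.pi (φ a)
    obtain ⟨K, hK⟩ := exists_pow_kill (r := g a) (M := LinearMap.range D) fun x => by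
      obtain ⟨_, z, rfl⟩ := x
      choose b hb using fun i => Ideal.Quotient.mk_surjective (φ a i z)
      obtain ⟨K, hK⟩ := hN a z b hb
      refine ⟨K, Subtype.ext ?_⟩
      show g a ^ K • (g a ^ N a • z - v a (fun i => φ a i z)) = 0
      rw [show (fun i => φ a i z) = fun i => (Submodule.Quotient.mk (b i) : B ⧸ I) from funext fun i => (hb i).symm,
        hv]
      exact hK
    exact ⟨K, fun z => congrArg Subtype.val (hK ⟨D z, z, rfl⟩)⟩
  choose K hK using hkill
  let eι := Fintype.equivFin ι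
  obtain ⟨P, Q, ψ, w, hwk, hwc⟩ := CohDev.AlgzPrincipal.exists_syzygy (Ig g) (Submodule.fg_span (Set.finite_range g))
    (N := M) (M₀ := B ⧸ I) (g ∘ eι.symm) (fun j => Ideal.subset_span ⟨_, rfl⟩)
    (by rw [eι.symm.surjective.range_comp]; exact Ideal.le_radical) (fun j => l (eι.symm j))
    (fun j => K (eι.symm j) + N (eι.symm j)) (fun j => g (eι.symm j) ^ K (eι.symm j) • LinearMap.pi (φ (eι.symm j)))
    (fun j => v (eι.symm j)) fun j z => by
      have h := hK (eι.symm j) z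
      rw [smul_sub, sub_eq_zero] at h
      rw [LinearMap.smul_apply, map_smul, ← h, ← mul_smul, ← pow_add]
      rfl
  have hw : Function.Injective w := LinearMap.ker_eq_bot.1 <| le_bot_iff.1 fun z hz => hM.sep z fun a => by
    obtain ⟨n, hn⟩ := hwk ⟨z, hz⟩
    exact ⟨n, congrArg Subtype.val (hn _ (Ideal.pow_mem_pow ((Ideal.subset_span ⟨a, rfl⟩ : g a ∈ Ig g)) n))⟩
  have hS := LocCohBase.subSeq_shortExact (LinearMap.range w)
  have h3 : Subsingleton (HH' (Ig g) 1 (LocCohBase.subSeq (LinearMap.range w)).X₃) :=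
    LocCohBase.subsingleton_succ_of_isPowerTorsion (Ig g) 0 _ hwc
  have := CohDev.AlgzPrincipal.finite_HH'_left (Ig g) hS 1 inferInstance
    (CohDev.AlgzPrincipal.finite_HH'_ker (Ig g) h₁ h₂ ψ).2
  let ew : M ≃ₗ[B] ↥(LinearMap.range w) := LinearEquiv.ofInjective w hw
  let iw : ModuleCat.of B M ≅ ModuleCat.of B (LinearMap.range w) := ew.toModuleIso
  exact Module.Finite.equiv (((localCohomology (Ig g) 2).mapIso iw).toLinearEquiv).symm

namespace FormalSys

variable {t : B} {M : ℕ → Type u} [∀ n, AddCommGroup (M n)] [∀ n, Module B (M n)] (S : FormalSys g t M)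
variable {W : Type u} [AddCommGroup W] [Module B W] {Z : Type u} [AddCommGroup Z] [Module B Z]
  {e : M 0 →ₗ[B] W} {R : W →ₗ[B] Z}

omit [IsNoetherianRing B] in
theorem Wit.of_add_range (H : ∀ x, R (e x) = 0) {n : ℕ} {x : M n} {z : Z} (w₀ : W)
    (h : S.Wit e R n x (z + R w₀)) : S.Wit e R n x z := by
  obtain ⟨N, y, c, w, h1, h2, h3, h4⟩ := h
  refine ⟨N, y, c, fun a => w a - g a ^ N • w₀, h1, h2, fun a b => ?_, fun a => ?_⟩
  · rw [h3, smul_sub, smul_sub, smul_comm (g b ^ N) (g a ^ N)]; abel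
  · rw [map_sub, map_smul, h4, smul_add, add_sub_cancel_right]

omit [IsNoetherianRing B] in
/-- Stabilization when the obstructions modulo the image of `R` lie in a Noetherian module. -/
theorem exists_stable_of_quotient (H : Tame g e R) (T : Submodule B (Z ⧸ LinearMap.range R)) [IsNoetherian B T]
    (hT : ∀ n, ∀ z ∈ S.obstr e R n, (LinearMap.range R).mkQ z ∈ T) :
    ∃ n₀, ∀ n ≥ n₀, ∀ x : M (n + 1), ∃ (y : M (n + 1 + 1)) (x₀ : M n), x = S.ρ (n + 1) y + S.T n x₀ := by
  let P : ℕ → Submodule B T := fun n => ((S.obstr e R n).map (LinearMap.range R).mkQ).comap T.subtype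
  have hmono : Monotone P := monotone_nat_of_le_succ fun n =>
    Submodule.comap_mono (Submodule.map_mono fun z ⟨x, hx⟩ => ⟨_, Wit.T S hx⟩)
  obtain ⟨n₀, hn₀⟩ := monotone_stabilizes_iff_noetherian.2 inferInstance ⟨_, hmono⟩
  refine ⟨n₀, fun n hn x => ?_⟩
  obtain ⟨z, hz⟩ := S.exists_wit H (n + 1) x
  have hzT := hT (n + 1) z ⟨x, hz⟩
  have h1 : (⟨_, hzT⟩ : T) ∈ P n := by
    have h2 : P (n + 1) = P n := (hn₀ (n + 1) (by omega)).symm.trans (hn₀ n hn)
    exact h2 ▸ ⟨z, ⟨x, hz⟩, rfl⟩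
  obtain ⟨z₀, ⟨x₀, hx₀⟩, he⟩ := h1
  obtain ⟨w₀, hw₀⟩ := (Submodule.Quotient.eq _).1 he.symm
  have h0 := Wit.add S hz (Wit.smul S (-1) (Wit.T S hx₀))
  simp only [neg_smul, one_smul] at h0
  rw [← sub_eq_add_neg z, ← hw₀, ← zero_add (R w₀)] at h0
  obtain ⟨y, hy⟩ := S.mem_range_of_wit_zero H (Wit.of_add_range S H.comp w₀ h0)
  refine ⟨y, x₀, ?_⟩
  rw [hy]
  abel_nf

/-- Stabilization from a finite second local cohomology at the bottom level. -/
theorem exists_stable_of_finite (h₂ : Module.Finite B (HH' (Ig g) 2 (ModuleCat.of B (M 0)))) :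
    ∃ n₀, ∀ n ≥ n₀, ∀ x : M (n + 1), ∃ (y : M (n + 1 + 1)) (x₀ : M n), x = S.ρ (n + 1) y + S.T n x₀ := by
  obtain ⟨W, _, _, e, he, hW, hWsep⟩ := exists_tf_embedding g (M 0) (torsion_eq_bot (S.sat 0).sep)
  let Z' := W ⧸ LinearMap.range e
  let T' := DRing.torsionSub (Ig g) Z'
  obtain ⟨Z, _, _, e₂, he₂, hZ, hZsep⟩ := exists_tf_embedding g (Z' ⧸ T')
    (LocCohBase.torsionSub_quotient_eq_bot (Submodule.fg_span (Set.finite_range g)) Z')
  let R : W →ₗ[B] Z := e₂ ∘ₗ T'.mkQ ∘ₗ (LinearMap.range e).mkQ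
  have hR : LinearMap.range R = LinearMap.range e₂ := LinearMap.range_comp_of_range_eq_top _
    (LinearMap.range_eq_top.2 ((Submodule.mkQ_surjective _).comp (Submodule.mkQ_surjective _)))
  have H : Tame g e R := {
    inj := he
    comp := fun x => by
      show e₂ (T'.mkQ ((LinearMap.range e).mkQ (e x))) = 0
      rw [show (LinearMap.range e).mkQ (e x) = 0 from (Submodule.Quotient.mk_eq_zero _).2 ⟨x, rfl⟩, map_zero,
        map_zero]
    exact := fun a w hw => by
      have h1 : (LinearMap.range e).mkQ w ∈ T' := (Submodule.Quotient.mk_eq_zero _).1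
        ((injective_iff_map_eq_zero e₂).1 he₂ _ hw)
      obtain ⟨k, hk⟩ := mem_torsion_iff.1 h1 a
      rw [← map_smul] at hk
      obtain ⟨x, hx⟩ := (Submodule.Quotient.mk_eq_zero _).1 hk
      exact ⟨k, x, hx⟩
    satZ := sat_of_injective hZ hZsep
    prim := fun N c hc => by
      obtain ⟨w, hw⟩ := prim_of_injective hW hWsep N c hc
      exact ⟨0, w, fun a b => by simpa using hw a b⟩ }
  have hZ' : Module.Finite B (HH' (Ig g) 1 (ModuleCat.of B Z')) := by
    have : Injective (ModuleCat.of B W) := Module.injective_object_of_injective_module B W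
    have hS := LocCohBase.subSeq_shortExact (LinearMap.range e)
    have h0 : Subsingleton (HH' (Ig g) 1 (LocCohBase.subSeq (LinearMap.range e)).X₂) :=
      LocCohBase.subsingleton_succ_of_injective 0 (ModuleCat.of B W)
    have hδ : Function.Injective (LocCohBase.δ (I := Ig g) hS 1) :=
      (injective_iff_map_eq_zero _).2 fun x hx => by
        obtain ⟨y, rfl⟩ := (LocCohBase.exact₃ hS 1 x).1 hx
        rw [Subsingleton.elim y 0, map_zero]
    have : Module.Finite B (HH' (Ig g) (1 + 1) (LocCohBase.subSeq (LinearMap.range e)).X₁) :=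
      Module.Finite.equiv (((localCohomology (Ig g) 2).mapIso
        (LinearEquiv.ofInjective e he).toModuleIso).toLinearEquiv)
    exact Module.Finite.of_injective _ hδ
  have hQ : Module.Finite B (HH' (Ig g) 1 (ModuleCat.of B (Z' ⧸ T'))) :=
    Module.Finite.of_surjective ((localCohomology (Ig g) 1).map (ModuleCat.ofHom T'.mkQ)).hom
      (LocCohBase.map_mkQ_torsion_bijective (Ig g) 0 Z').2
  have : Module.Finite B (DRing.torsionSub (Ig g) (Z ⧸ LinearMap.range R)) := by
    rw [hR]; exact finite_torsion_quotient e₂ he₂ hZsep hQ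
  refine S.exists_stable_of_quotient H (DRing.torsionSub (Ig g) (Z ⧸ LinearMap.range R))
    fun n z ⟨x, N, y, c, w, h1, h2, h3, h4⟩ => mem_torsion_iff.2 fun a => ?_
  exact ⟨N, by rw [← map_smul]; exact (Submodule.Quotient.mk_eq_zero _).2 ⟨w a, h4 a⟩⟩

end FormalSys

namespace CoverSys

variable {t : B} (S : CoverSys g t) [IsAdicComplete (Ideal.span {t}) B]

/-- The algebra of formal functions when `H^1` and `H^2` of the hypersurface are finite. -/
theorem exists_algebra_of_finite (ht : IsSMulRegular B t)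
    (h₁ : Module.Finite B (HH' (Ig g) 1 (ModuleCat.of B (B ⧸ Ideal.span {t}))))
    (h₂ : Module.Finite B (HH' (Ig g) 2 (ModuleCat.of B (B ⧸ Ideal.span {t})))) :
    ∃ (L : Type u) (_ : CommRing L) (_ : Algebra B L) (_ : Module.Finite B L)
      (π : ∀ n, L →ₐ[B] Sec (S.F n)),
      (∀ n l, secMap (S.u_F n) (π (n + 1) l) = π n l) ∧
      (∀ n l, π n l = 0 → ∃ z : L, l = t ^ (n + 1) • z) ∧
      (∀ n a (z : Sec (S.F n)), ∃ (k : ℕ) (l : L), π n l = g a ^ k • z) := by
  have hI : Ideal.span {t ^ (0 + 1)} = Ideal.span {t} := by rw [zero_add, pow_one]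
  rw [← hI] at h₁ h₂
  have hloc := locDual_sec_of_extend (I := Ideal.span {t ^ (0 + 1)}) (S.F 0) (S.G 0) rfl
    (fun a M' φ' hM' => exists_extend_pow h₁ a M' φ' hM') (S.finiteApp 0) (S.flatApp 0)
  obtain ⟨hfin, hH⟩ := finite_of_locDual ((S.formalSys ht).sat 0) (fun i hi z => by
    obtain ⟨c, rfl⟩ := Ideal.mem_span_singleton'.1 hi
    rw [mul_smul, S.kill, smul_zero]) hloc h₁ h₂
  exact S.exists_algebra_of_stable ht ((S.formalSys ht).exists_stable_of_finite hH) hfin

end CoverSys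

end Groth.ParaLift82
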