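import Groth.Agent.ParaLift82.PurityLift
import Groth.Agent.ParaLift82.Depth
import Groth.Agent.LocCohBase.DepthTower
import Groth.Agent.Smt.GlueLocal
import Groth.Agent.Ega4Algebra2.SchemeFibre
import Mathlib.RingTheory.Flat.Equalizer

/-!
# Purity and depth along flat local homomorphisms
-/

set_option autoImplicit false
set_option backward.isDefEq.respectTransparency false
universe u

open IsLocalRing

namespace Groth.ParaLift82

/-- The maximal ideal has free graded pieces. -/
theorem freeGr_maximalIdeal (B : Type u) [CommRing B] [IsLocalRing B] [IsNoetherianRing B] :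
    FreeGr (maximalIdeal B) :=
  freeGr_of_free (maximalIdeal_le_jacobson _) fun n => by
    letI := Ideal.Quotient.field (maximalIdeal B)
    infer_instance

variable {B C : Type u} [CommRing B] [CommRing C] [IsLocalRing B] [IsLocalRing C]
  [IsNoetherianRing B] [IsNoetherianRing C] [Algebra B C] [IsLocalHom (algebraMap B C)] [Module.Flat B C]

/-- Purity of the closed fibre lifts along a flat local homomorphism. -/
theorem purityHolds_of_flat_fibre [IsLocalRing (C ⧸ (maximalIdeal B).map (algebraMap B C))]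
    (hd : (3 : ℕ∞) ≤ LocCoh.depth (C ⧸ (maximalIdeal B).map (algebraMap B C))
      (C ⧸ (maximalIdeal B).map (algebraMap B C)))
    (h0 : FEt.PurityHolds (C ⧸ (maximalIdeal B).map (algebraMap B C))) : FEt.PurityHolds C :=
  (purityHolds_of_freeGr (Ideal.Quotient.nontrivial_iff.1 inferInstance) ((freeGr_maximalIdeal B).map (B := C))
    hd h0).2

omit [IsNoetherianRing B] [IsNoetherianRing C] [Module.Flat B C] in
/-- A divisor flat over the base is regular on the fibre. -/
theorem isSMulRegular_fibre {t : C} (ht : t ∈ nonZeroDivisors C) [Module.Flat B (C ⧸ Ideal.span {t})]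
    (J : Ideal B) : IsSMulRegular (C ⧸ J.map (algebraMap B C)) t := by
  let g : C →ₗ[B] C := (LinearMap.lsmul C C t).restrictScalars B
  let f : C →ₗ[B] C ⧸ Ideal.span {t} := (Ideal.Quotient.mkₐ B (Ideal.span {t})).toLinearMap
  have hg : Function.Injective g := fun a b h => by
    simp only [g, LinearMap.coe_restrictScalars, LinearMap.lsmul_apply, smul_eq_mul] at h
    exact sub_eq_zero.1 ((mem_nonZeroDivisors_iff.1 ht).1 _ (by rw [mul_sub, h, sub_self]))
  have hex : Function.Exact g f := fun z => by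
    simp only [f, AlgHom.toLinearMap_apply, Ideal.Quotient.mkₐ_eq_mk, Ideal.Quotient.eq_zero_iff_mem,
      Ideal.mem_span_singleton']
    exact ⟨fun ⟨a, ha⟩ => ⟨a, by simp [g, ← ha, mul_comm]⟩, fun ⟨a, ha⟩ => ⟨a, by simp [g, ← ha, mul_comm]⟩⟩
  have hinj := LinearMap.lTensor_injective_of_exact_of_flat f Ideal.Quotient.mk_surjective g hg hex (B ⧸ J)
  let e : TensorProduct B (B ⧸ J) C ≃ₗ[B] C ⧸ (J • ⊤ : Submodule B C) := TensorProduct.quotTensorEquivQuotSMul C J
  have hJ : ∀ z : C, z ∈ (J • ⊤ : Submodule B C) ↔ z ∈ J.map (algebraMap B C) := fun z => by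
    rw [Ideal.smul_top_eq_map]; rfl
  rintro ⟨a⟩ ⟨b⟩ hab
  change Ideal.Quotient.mk _ a = Ideal.Quotient.mk _ b
  have hab' : Ideal.Quotient.mk (J.map (algebraMap B C)) (t * a) = Ideal.Quotient.mk _ (t * b) := hab
  rw [Ideal.Quotient.eq] at hab' ⊢
  have h0 : (1 : B ⧸ J) ⊗ₜ[B] (t * (a - b)) = (0 : TensorProduct B (B ⧸ J) C) := by
    apply e.injective
    rw [map_zero]
    refine ((TensorProduct.quotTensorEquivQuotSMul_mk_tmul J 1 _).trans ?_)
    rw [one_smul, Submodule.Quotient.mk_eq_zero, hJ, mul_sub]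
    exact hab'
  have h1 : (1 : B ⧸ J) ⊗ₜ[B] (a - b) = (0 : TensorProduct B (B ⧸ J) C) := hinj (by simpa [g] using h0)
  have h2 := congrArg e h1
  rw [map_zero] at h2
  rw [← hJ, ← Submodule.Quotient.mk_eq_zero]
  refine Eq.trans ?_ h2
  refine Eq.trans ?_ (TensorProduct.quotTensorEquivQuotSMul_mk_tmul J 1 _).symm
  rw [one_smul]

omit [IsLocalRing B] [IsNoetherianRing B] [IsLocalHom (algebraMap B C)] [Module.Flat B C] in
/-- Cutting by a regular element drops depth by one. -/
theorem depth_quotient_add_one {t : C} (htm : t ∈ maximalIdeal C) (ht : IsSMulRegular C t)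
    [IsLocalRing (C ⧸ Ideal.span {t})] :
    LocCoh.depth C C = LocCoh.depth (C ⧸ Ideal.span {t}) (C ⧸ Ideal.span {t}) + 1 := by
  have hIM : maximalIdeal C • (⊤ : Submodule C C) ≠ ⊤ := by
    rw [smul_eq_mul, Ideal.mul_top]; exact (maximalIdeal.isMaximal C).ne_top
  have e : (C ⧸ Ideal.span {t}) ≃ₗ[C] QuotSMulTop t C := Submodule.quotEquivOfEq _ _
    (by rw [← Submodule.ideal_span_singleton_smul]; simp)
  rw [← Groth.Smt.depth_eq_of_surjective C (C ⧸ Ideal.span {t}) Ideal.Quotient.mk_surjective,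
    LocCoh.depth, LocCoh.depth, Groth.LocCohBase.idealDepth_congr e]
  exact (Groth.LocCohBase.idealDepth_quotSMulTop_add_one _ C hIM htm ht).symm

/-- The fibre of a divisor flat over the base: depth drops by one. -/
theorem depth_fibre_divisor {B C D : Type u} [CommRing B] [CommRing C] [CommRing D] [IsLocalRing B] [IsLocalRing C]
    [IsNoetherianRing B] [IsNoetherianRing C] (φ : B →+* C) [IsLocalHom φ] (σ : C →+* D) (hσ : Function.Surjective σ)
    {t : C} (hker : RingHom.ker σ = Ideal.span {t}) (htm : t ∈ maximalIdeal C) (ht : t ∈ nonZeroDivisors C)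
    (hflat : (σ.comp φ).Flat) [IsLocalRing (C ⧸ (maximalIdeal B).map φ)]
    [IsLocalRing (D ⧸ (maximalIdeal B).map (σ.comp φ))] :
    LocCoh.depth (C ⧸ (maximalIdeal B).map φ) (C ⧸ (maximalIdeal B).map φ) =
      LocCoh.depth (D ⧸ (maximalIdeal B).map (σ.comp φ)) (D ⧸ (maximalIdeal B).map (σ.comp φ)) + 1 := by
  letI := φ.toAlgebra
  let e₀ := (Ideal.quotEquivOfEq hker.symm).trans (RingHom.quotientKerEquivOfSurjective hσ)
  have hq : ((Ideal.Quotient.mk (Ideal.span {t})).comp φ).Flat := by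
    refine (RingHom.Flat.comp_iff_of_bijective_left (g := e₀.toRingHom)
      (f := (Ideal.Quotient.mk (Ideal.span {t})).comp φ) e₀.bijective).1 ?_
    exact hflat
  have : Module.Flat B (C ⧸ Ideal.span {t}) := RingHom.flat_algebraMap_iff.1 hq
  let C₀ := C ⧸ (maximalIdeal B).map φ
  let mk₀ := Ideal.Quotient.mk ((maximalIdeal B).map φ)
  have hreg0 : IsSMulRegular C₀ t := isSMulRegular_fibre ht (maximalIdeal B)
  have hreg : IsSMulRegular C₀ (mk₀ t) := fun a b h => hreg0 h
  have : IsLocalHom mk₀ := IsLocalHom.of_surjective mk₀ Ideal.Quotient.mk_surjective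
  have htm0 : mk₀ t ∈ maximalIdeal C₀ := map_nonunit mk₀ t htm
  let θ : C →+* D ⧸ (maximalIdeal B).map (σ.comp φ) :=
    (Ideal.Quotient.mk ((maximalIdeal B).map (σ.comp φ))).comp σ
  have hkθ : RingHom.ker θ = (maximalIdeal B).map φ ⊔ Ideal.span {t} := by
    rw [← RingHom.comap_ker, Ideal.mk_ker, ← Ideal.map_map, Ideal.comap_map_of_surjective' σ hσ, hker]
  have heq : Ideal.span {mk₀ t} = (Ideal.span {t}).map mk₀ := by rw [Ideal.map_span, Set.image_singleton]
  let e : C₀ ⧸ Ideal.span {mk₀ t} ≃+* D ⧸ (maximalIdeal B).map (σ.comp φ) :=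
    ((Ideal.quotEquivOfEq heq).trans (DoubleQuot.quotQuotEquivQuotSup _ _)).trans
      ((Ideal.quotEquivOfEq hkθ.symm).trans
        (RingHom.quotientKerEquivOfSurjective (f := θ) (Ideal.Quotient.mk_surjective.comp hσ)))
  have : IsLocalRing (C₀ ⧸ Ideal.span {mk₀ t}) := e.symm.isLocalRing
  rw [depth_quotient_add_one htm0 hreg, Groth.Ega4b.depth_eq_of_ringEquiv e]

end Groth.ParaLift82
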