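import Groth.Agent.ParaLift82.Lift

/-!
# Formal cocycles along a regular element
-/

set_option autoImplicit false
universe u

open CategoryTheory AlgebraicGeometry TopologicalSpace Groth.PicAux

namespace Groth.ParaLift82

variable {B : Type u} [CommRing B]

/-- Restriction of a function on `O`. -/
noncomputable abbrev rs {O O' : (SpB B).Opens} (h : O' ≤ O) : Γ(SpB B, O) →+* Γ(SpB B, O') :=
  resX (SpB B) h

/-- A regular quadruple, as used for vanishing of second cohomology. -/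
structure RegQuad (I : Ideal B) (x y z w : B) : Prop where
  first : RegTriple I x y z
  fourth : ∀ a, w * a ∈ I ⊔ Ideal.span {x} ⊔ Ideal.span {y} ⊔ Ideal.span {z} →
    a ∈ I ⊔ Ideal.span {x} ⊔ Ideal.span {y} ⊔ Ideal.span {z}

theorem RegQuad.regTriple_sup {I : Ideal B} {x y z w : B} (h : RegQuad I x y z w) (n : ℕ) :
    RegTriple (I ⊔ Ideal.span {x ^ n}) y z w := by
  refine ⟨h.first.regPair_sup n, ?_⟩
  have h' : RegTriple (I ⊔ Ideal.span {y}) x z w := by
    refine ⟨⟨h.first.pair.left_right, fun a ha => ?_⟩, fun a ha => ?_⟩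
    · rw [sup_right_comm] at ha ⊢; exact h.first.third a ha
    · rw [sup_right_comm I] at ha ⊢; exact h.fourth a ha
  have := (h'.regPair_sup n).right
  intro a ha
  rw [sup_right_comm I] at ha ⊢
  exact this a ha

variable {ι : Type u} [Finite ι] {g : ι → B} {J : Ideal B} {x y z w : B}

/-- Two-cocycles modulo `J` are coboundaries. -/
theorem exists_primitive₂ (h : RegQuad J x y z w) (hx : InRad g x) (hy : InRad g y)
    (hz : InRad g z) (hw : InRad g w)
    (θ : ∀ a b c, Γ(SpB B, Dg g a ⊓ Dg g b ⊓ Dg g c))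
    (hθ : ∀ a b c d (T : (SpB B).Opens) (ha : T ≤ Dg g a) (hb : T ≤ Dg g b) (hc : T ≤ Dg g c)
      (hd : T ≤ Dg g d), T = D (g a * g b * g c * g d) →
      rs (le_inf (le_inf hb hc) hd) (θ b c d) - rs (le_inf (le_inf ha hc) hd) (θ a c d) +
        rs (le_inf (le_inf ha hb) hd) (θ a b d) - rs (le_inf (le_inf ha hb) hc) (θ a b c) ∈ idl J T) :
    ∃ v : ∀ a b, Γ(SpB B, Dg g a ⊓ Dg g b), ∀ a b c,
      θ a b c - (rs (inf_le_inf_right _ inf_le_right) (v b c) -
        rs (inf_le_inf_right _ inf_le_left) (v a c) + rs inf_le_left (v a b)) ∈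
          idl J (Dg g a ⊓ Dg g b ⊓ Dg g c) := by
  classical
  cases nonempty_fintype ι
  have hT3 : ∀ a b c, Dg g a ⊓ Dg g b ⊓ Dg g c = D (g a * g b * g c) := fun a b c => by
    rw [D_mul, D_mul]
  obtain ⟨N, r, hr⟩ := exists_num_family (fun i : ι × ι × ι => Dg g i.1 ⊓ Dg g i.2.1 ⊓ Dg g i.2.2)
    (fun i => g i.1 * g i.2.1 * g i.2.2) (fun i => hT3 _ _ _) (fun i => θ i.1 i.2.1 i.2.2)
  choose Q hQ using fun a b k => exists_div (g := g a * g b) (O := Dg g a ⊓ Dg g b) (D_mul _ _).ge N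
    (cst (Dg g a ⊓ Dg g b) (r (a, b, k)))
  have hQres : ∀ a b k, rs (inf_le_left : Dg g a ⊓ Dg g b ⊓ Dg g k ≤ _) (Q a b k) =
      cst _ (g k ^ N) * θ a b k := fun a b k => by
    refine (isUnit_cst_pow (g := g a * g b) (O := Dg g a ⊓ Dg g b ⊓ Dg g k)
      (inf_le_left.trans (D_mul _ _).ge) N).mul_left_cancel ?_
    have h1 := congrArg (rs (inf_le_left : Dg g a ⊓ Dg g b ⊓ Dg g k ≤ _)) (hQ a b k)
    rw [map_mul, resX_cst, resX_cst] at h1
    rw [h1, ← hr (a, b, k), ← mul_assoc, ← map_mul, ← mul_pow]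
  let e : ∀ a b c k, Γ(SpB B, Dg g a ⊓ Dg g b ⊓ Dg g c) := fun a b c k =>
    rs (inf_le_inf_right _ inf_le_right) (Q b c k) - rs (inf_le_inf_right _ inf_le_left) (Q a c k) +
      rs inf_le_left (Q a b k) - cst _ (g k ^ N) * θ a b c
  have he : ∀ i : ι × ι × ι × ι, ∃ p : ℕ,
      cst _ (g i.2.2.2 ^ p) * e i.1 i.2.1 i.2.2.1 i.2.2.2 ∈ idl J _ := by
    rintro ⟨a, b, c, k⟩
    let T := Dg g a ⊓ Dg g b ⊓ Dg g c ⊓ Dg g k
    have hT : T = D (g a * g b * g c * g k) := by rw [D_mul, D_mul, D_mul]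
    refine exists_pow_of_res (hT3 a b c) (O' := T) hT inf_le_left ?_
    have ha : T ≤ Dg g a := inf_le_left.trans (inf_le_left.trans inf_le_left)
    have hb : T ≤ Dg g b := inf_le_left.trans (inf_le_left.trans inf_le_right)
    have hc : T ≤ Dg g c := inf_le_left.trans inf_le_right
    have hk : T ≤ Dg g k := inf_le_right
    have h1 := congrArg (rs (le_inf (le_inf hb hc) hk)) (hQres b c k)
    have h2 := congrArg (rs (le_inf (le_inf ha hc) hk)) (hQres a c k)
    have h3 := congrArg (rs (le_inf (le_inf ha hb) hk)) (hQres a b k)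
    simp only [rs, resX_resX, map_mul, resX_cst] at h1 h2 h3
    simp only [e, rs, map_add, map_sub, map_mul, resX_cst, resX_resX, h1, h2, h3]
    rw [← mul_sub, ← mul_add, ← mul_sub]
    exact Ideal.mul_mem_left _ _ (hθ a b c k T ha hb hc hk hT)
  choose p hp using he
  let P := Finset.univ.sup p
  obtain ⟨M, l, hl⟩ := exists_comb hx (N + P)
  let W' : ∀ a b, Γ(SpB B, Dg g a ⊓ Dg g b) := fun a b =>
    ∑ k, cst _ (l k) * (cst _ (g k ^ P) * Q a b k)
  have hW' : ∀ a b c, rs (inf_le_inf_right _ inf_le_right) (W' b c) -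
      rs (inf_le_inf_right _ inf_le_left) (W' a c) + rs inf_le_left (W' a b) -
        cst _ (x ^ M) * θ a b c ∈ idl J (Dg g a ⊓ Dg g b ⊓ Dg g c) := fun a b c => by
    simp only [W', rs, hl, map_sum, map_mul, resX_cst, Finset.sum_mul, ← Finset.sum_sub_distrib,
      ← Finset.sum_add_distrib]
    refine Ideal.sum_mem _ fun k _ => ?_
    obtain ⟨m, hm⟩ := Nat.exists_eq_add_of_le (Finset.le_sup (f := p) (Finset.mem_univ (a, b, c, k)))
    rw [show P = p (a, b, c, k) + m from hm, pow_add, pow_add, pow_add, map_mul, map_mul, map_mul]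
    convert Ideal.mul_mem_left _ (cst _ (l k) * cst _ (g k ^ m)) (hp (a, b, c, k)) using 1
    simp only [e, rs]
    ring
  let K := J ⊔ Ideal.span {x ^ M}
  obtain ⟨W, hW⟩ := exists_primitive (h.regTriple_sup M) hy hz hw W' fun a b d T ha hb hd hT => by
    have h1 := res_mem (le_inf (le_inf ha hb) hd : T ≤ _) (hW' a b d)
    simp only [rs, map_sub, map_add, map_mul, resX_cst, resX_resX] at h1
    rw [show rs (le_inf ha hd) (W' a d) - (rs (le_inf ha hb) (W' a b) + rs (le_inf hb hd) (W' b d)) =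
      -(rs (le_inf hb hd) (W' b d) - rs (le_inf ha hd) (W' a d) + rs (le_inf ha hb) (W' a b) -
        cst _ (x ^ M) * rs (le_inf (le_inf ha hb) hd) (θ a b d)) -
        cst _ (x ^ M) * rs (le_inf (le_inf ha hb) hd) (θ a b d) by ring]
    exact Ideal.sub_mem _ (Ideal.neg_mem_iff _ |>.2 (idl_mono le_sup_left h1)) (Ideal.mul_mem_right _ _
      (Ideal.mem_map_of_mem _ (Submodule.mem_sup_right (Ideal.mem_span_singleton_self _))))
  choose v hv using fun a b => mem_idl_sup_span (hW a b)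
  refine ⟨v, fun a b c => mem_of_cst_mul (hT3 a b c) (h.first.pair.left_pow M) ?_⟩
  have h1 := res_mem (inf_le_inf_right _ inf_le_right : Dg g a ⊓ Dg g b ⊓ Dg g c ≤ _) (hv b c)
  have h2 := res_mem (inf_le_inf_right _ inf_le_left : Dg g a ⊓ Dg g b ⊓ Dg g c ≤ _) (hv a c)
  have h3 := res_mem (inf_le_left : Dg g a ⊓ Dg g b ⊓ Dg g c ≤ _) (hv a b)
  simp only [map_sub, map_mul, resX_cst, resX_resX] at h1 h2 h3
  convert Ideal.sub_mem _ (Ideal.add_mem _ (Ideal.sub_mem _ h1 h2) h3) (hW' a b c) using 1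
  simp only [rs]
  ring

/-- A cocycle modulo `I`. -/
def CocMod (g : ι → B) (I : Ideal B) (e : ∀ a b, Γ(SpB B, Dg g a ⊓ Dg g b)) : Prop :=
  ∀ a b c (T : (SpB B).Opens) (ha : T ≤ Dg g a) (hb : T ≤ Dg g b) (hc : T ≤ Dg g c),
    rs (le_inf ha hb) (e a b) * rs (le_inf hb hc) (e b c) - rs (le_inf ha hc) (e a c) ∈ idl I T

/-- The reversed family. -/
noncomputable def rev (e : ∀ a b, Γ(SpB B, Dg g a ⊓ Dg g b)) :
    ∀ a b, Γ(SpB B, Dg g a ⊓ Dg g b) :=
  fun a b => rs (le_inf inf_le_right inf_le_left) (e b a)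

/-- Unit property modulo `J`. -/
def RevUnit (g : ι → B) (J : Ideal B) (e : ∀ a b, Γ(SpB B, Dg g a ⊓ Dg g b)) : Prop :=
  ∀ a b, e a b * rev e a b - 1 ∈ idl J _

omit [Finite ι] in
theorem cocMod_rev {I : Ideal B} {e : ∀ a b, Γ(SpB B, Dg g a ⊓ Dg g b)} (h : CocMod g I e) :
    CocMod g I (rev e) := fun a b c T ha hb hc => by
  have := h c b a T hc hb ha
  simp only [rev, rs, resX_resX] at this ⊢
  rwa [mul_comm]

omit [Finite ι] in
theorem revUnit_rev {e : ∀ a b, Γ(SpB B, Dg g a ⊓ Dg g b)} (h : RevUnit g J e) :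
    RevUnit g J (rev e) := fun a b => by
  have e' : rev (rev e) a b = e a b := by simp [rev]
  rw [e', mul_comm]
  exact h a b

omit [Finite ι] in
theorem RevUnit.at_open {e : ∀ a b, Γ(SpB B, Dg g a ⊓ Dg g b)} (h : RevUnit g J e) (a b : ι)
    {T : (SpB B).Opens} (ha : T ≤ Dg g a) (hb : T ≤ Dg g b) :
    rs (le_inf ha hb) (e a b) * rs (le_inf hb ha) (e b a) - 1 ∈ idl J T := by
  have := res_mem (le_inf ha hb : T ≤ _) (h a b)
  simpa only [rev, rs, map_sub, map_mul, map_one, resX_resX] using this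

omit [Finite ι] in
theorem diag_mem {I : Ideal B} {e : ∀ a b, Γ(SpB B, Dg g a ⊓ Dg g b)} (h : CocMod g I e)
    (hu : RevUnit g J e) (hIJ : I ≤ J) {n : ℕ} (hn : J ^ n ≤ I) (a : ι) {T : (SpB B).Opens}
    (ha : T ≤ Dg g a) : rs (le_inf ha ha) (e a a) - 1 ∈ idl I T := by
  set d := rs (le_inf ha ha) (e a a) with hd
  have h1 : d * (d - 1) ∈ idl I T := by
    rw [mul_sub, mul_one]; exact h a a a T ha ha ha
  have h2 : d - 1 ∈ idl J T := by
    rw [show d - 1 = (1 - d) * (d * d - 1) + d * (d * (d - 1)) by ring]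
    exact Ideal.add_mem _ (Ideal.mul_mem_left _ _ (hu.at_open a a ha ha))
      (Ideal.mul_mem_left _ _ (idl_mono hIJ h1))
  have h3 : ∀ k, (d - 1) ^ k ∈ idl I T → d - 1 ∈ idl I T := fun k => by
    induction k with
    | zero => intro hk; rw [pow_zero] at hk; simpa using Ideal.mul_mem_left _ (d - 1) hk
    | succ k ih =>
      intro hk
      rcases k with _ | k
      · simpa using hk
      refine ih ?_
      rw [show (d - 1) ^ (k + 1) = d * (d - 1) * (d - 1) ^ k - (d - 1) ^ (k + 1 + 1) by ring]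
      exact Ideal.sub_mem _ (Ideal.mul_mem_right _ _ h1) hk
  refine h3 n (idl_mono hn ?_)
  rw [idl, Ideal.map_pow]
  exact Ideal.pow_mem_pow h2 n

variable {t : B}

/-- Coordinates along `t ^ n`. -/
theorem exists_coord {O : (SpB B).Opens} {n : ℕ} {v : Γ(SpB B, O)}
    (hv : v ∈ idl (Ideal.span {t} ^ n) O) : ∃ c, v = cst O (t ^ n) * c := by
  rw [idl, Ideal.span_singleton_pow, Ideal.map_span, Set.image_singleton, Ideal.mem_span_singleton] at hv
  exact hv

theorem coord_mem (ht : ∀ a, t * a = 0 → a = 0) {O : (SpB B).Opens} {f : B} (hO : O = D f) {n : ℕ}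
    {c : Γ(SpB B, O)} (hc : cst O (t ^ n) * c ∈ idl (Ideal.span {t} ^ (n + 1)) O) :
    c ∈ idl (Ideal.span {t}) O := by
  obtain ⟨c', hc'⟩ := exists_coord hc
  have htn : ∀ m a, t ^ m * a = 0 → a = 0 := fun m => by
    induction m with
    | zero => simp
    | succ m ih => exact fun a ha => ht a (ih _ (by rwa [← mul_assoc, ← pow_succ]))
  have h0 : c - cst O t * c' ∈ idl (⊥ : Ideal B) O := mem_of_cst_mul hO (s := t ^ n)
    (fun a ha => by simpa using htn n a (by simpa using ha))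
    (by rw [mul_sub, hc', pow_succ, map_mul, mul_assoc, sub_self]; exact zero_mem _)
  rw [idl, Ideal.map_bot, Ideal.mem_bot, sub_eq_zero] at h0
  rw [h0]
  exact Ideal.mul_mem_right _ _ (Ideal.mem_map_of_mem _ (Ideal.mem_span_singleton_self t))

/-- Lifting a cocycle one step. -/
theorem cocMod_step (ht : ∀ a, t * a = 0 → a = 0) (h : RegQuad (Ideal.span {t}) x y z w)
    (hx : InRad g x) (hy : InRad g y) (hz : InRad g z) (hw : InRad g w)
    (e : ∀ a b, Γ(SpB B, Dg g a ⊓ Dg g b)) (hu : RevUnit g (Ideal.span {t}) e) {n : ℕ}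
    (he : CocMod g (Ideal.span {t} ^ (n + 1)) e) :
    ∃ e' : ∀ a b, Γ(SpB B, Dg g a ⊓ Dg g b), CocMod g (Ideal.span {t} ^ (n + 2)) e' ∧
      ∀ a b, e' a b - e a b ∈ idl (Ideal.span {t} ^ (n + 1)) _ := by
  let J := Ideal.span {t}
  have heJ : CocMod g J e := fun a b c T ha hb hc =>
    idl_mono (Ideal.pow_le_self (Nat.succ_ne_zero n)) (he a b c T ha hb hc)
  choose θ hθ using fun a b c => exists_coord (he a b c (Dg g a ⊓ Dg g b ⊓ Dg g c)
    (inf_le_left.trans inf_le_left) (inf_le_left.trans inf_le_right) inf_le_right)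
  let ρ : ∀ a b c, Γ(SpB B, Dg g a ⊓ Dg g b ⊓ Dg g c) := fun a b c =>
    θ a b c * rs (le_inf inf_le_right (inf_le_left.trans inf_le_left)) (e c a)
  obtain ⟨v, hv⟩ := exists_primitive₂ h hx hy hz hw ρ fun a b c d T ha hb hc hd hT => by
    have h1 := congrArg (rs (le_inf (le_inf hb hc) hd)) (hθ b c d)
    have h2 := congrArg (rs (le_inf (le_inf ha hc) hd)) (hθ a c d)
    have h3 := congrArg (rs (le_inf (le_inf ha hb) hd)) (hθ a b d)
    have h4 := congrArg (rs (le_inf (le_inf ha hb) hc)) (hθ a b c)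
    simp only [rs, map_mul, map_sub, resX_cst, resX_resX] at h1 h2 h3 h4
    have h5 := coord_mem ht hT (c := rs (le_inf ha hb) (e a b) * rs (le_inf (le_inf hb hc) hd) (θ b c d) -
        rs (le_inf (le_inf ha hc) hd) (θ a c d) + rs (le_inf (le_inf ha hb) hd) (θ a b d) -
        rs (le_inf (le_inf ha hb) hc) (θ a b c) * rs (le_inf hc hd) (e c d)) (n := n + 1) (by
      simp only [rs, mul_sub, mul_add, ← mul_assoc, mul_comm (cst T (t ^ (n + 1))) (resX _ _ (e a b))]
      simp only [mul_assoc, ← h1, ← h2, ← h3]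
      rw [← mul_assoc, ← h4]
      ring_nf
      exact zero_mem _)
    have r1 := heJ d a b T hd ha hb
    have r2 := heJ c d a T hc hd ha
    simp only [ρ, rs, map_mul, resX_resX] at r1 r2 h5 ⊢
    set θbcd := resX _ (le_inf (le_inf hb hc) hd) (θ b c d)
    set θacd := resX _ (le_inf (le_inf ha hc) hd) (θ a c d)
    set θabd := resX _ (le_inf (le_inf ha hb) hd) (θ a b d)
    set θabc := resX _ (le_inf (le_inf ha hb) hc) (θ a b c)
    set eab := resX _ (le_inf ha hb) (e a b)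
    set eda := resX _ (le_inf hd ha) (e d a)
    set edb := resX _ (le_inf hd hb) (e d b)
    set ecd := resX _ (le_inf hc hd) (e c d)
    set eca := resX _ (le_inf hc ha) (e c a)
    rw [show θbcd * edb - θacd * eda + θabd * eda - θabc * eca =
      eda * (eab * θbcd - θacd + θabd - θabc * ecd) - θbcd * (eda * eab - edb) +
        θabc * (ecd * eda - eca) by ring]
    exact Ideal.add_mem _ (Ideal.sub_mem _ (Ideal.mul_mem_left _ _ h5) (Ideal.mul_mem_left _ _ r1))
      (Ideal.mul_mem_left _ _ r2)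
  refine ⟨fun a b => e a b * (1 - cst _ (t ^ (n + 1)) * v a b), fun a b c T ha hb hc => ?_, fun a b => ?_⟩
  · let T₀ := Dg g a ⊓ Dg g b ⊓ Dg g c
    have hTT : T ≤ T₀ := le_inf (le_inf ha hb) hc
    have h1 := congrArg (rs hTT) (hθ a b c)
    have h2 := res_mem hTT (hv a b c)
    have h3 := heJ a b c T ha hb hc
    have h4 := hu.at_open a c ha hc
    simp only [ρ, rs, map_mul, map_sub, map_add, map_one, resX_cst, resX_resX] at h1 h2 h3 h4 ⊢
    set θ' := resX _ hTT (θ a b c)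
    set vbc := resX _ (le_inf hb hc) (v b c)
    set vac := resX _ (le_inf ha hc) (v a c)
    set vab := resX _ (le_inf ha hb) (v a b)
    set eab := resX _ (le_inf ha hb) (e a b)
    set ebc := resX _ (le_inf hb hc) (e b c)
    set eac := resX _ (le_inf ha hc) (e a c)
    set eca := resX _ (le_inf hc ha) (e c a)
    rw [show eab * (1 - cst T (t ^ (n + 1)) * vab) * (ebc * (1 - cst T (t ^ (n + 1)) * vbc)) -
        eac * (1 - cst T (t ^ (n + 1)) * vac) =
      cst T (t ^ (n + 1)) * (eac * (θ' * eca - (vbc - vac + vab)) - θ' * (eac * eca - 1) -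
          (eab * ebc - eac) * (vab + vbc)) +
        cst T (t ^ (n + 1)) * cst T (t ^ (n + 1)) * (eab * ebc * vab * vbc) by
      linear_combination h1 + θ' * (resX_cst hTT (t ^ (n + 1))).symm * (-1)]
    rw [idl, pow_succ (Ideal.span {t}), Ideal.map_mul]
    refine Ideal.add_mem _ (Ideal.mul_mem_mul ?_ (Ideal.sub_mem _ (Ideal.sub_mem _
      (Ideal.mul_mem_left _ _ h2) (Ideal.mul_mem_left _ _ h4)) (Ideal.mul_mem_right _ _ h3)))
      (Ideal.mul_mem_right _ _ (Ideal.mul_mem_mul ?_ ?_))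
    · exact Ideal.mem_map_of_mem _ (Ideal.pow_mem_pow (Ideal.mem_span_singleton_self t) _)
    · exact Ideal.mem_map_of_mem _ (Ideal.pow_mem_pow (Ideal.mem_span_singleton_self t) _)
    · exact Ideal.mem_map_of_mem _ (Ideal.pow_le_self (Nat.succ_ne_zero n)
        (Ideal.pow_mem_pow (Ideal.mem_span_singleton_self t) _))
  · rw [show e a b * (1 - cst _ (t ^ (n + 1)) * v a b) - e a b =
      cst _ (t ^ (n + 1)) * (-(e a b * v a b)) by ring]
    exact Ideal.mul_mem_right _ _
      (Ideal.mem_map_of_mem _ (Ideal.pow_mem_pow (Ideal.mem_span_singleton_self t) _))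

/-- A coherent sequence of cocycles modulo the powers of `J`. -/
structure FormalCoc (g : ι → B) (J : Ideal B) (E : ℕ → ∀ a b, Γ(SpB B, Dg g a ⊓ Dg g b)) : Prop where
  coc : ∀ n, CocMod g (J ^ (n + 1)) (E n)
  succ : ∀ n a b, E (n + 1) a b - E n a b ∈ idl (J ^ (n + 1)) _
  unit : RevUnit g J (E 0)

/-- A cocycle modulo `t` extends to a formal cocycle. -/
theorem exists_formalCoc (ht : ∀ a, t * a = 0 → a = 0) (h : RegQuad (Ideal.span {t}) x y z w)
    (hx : InRad g x) (hy : InRad g y) (hz : InRad g z) (hw : InRad g w)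
    (e : ∀ a b, Γ(SpB B, Dg g a ⊓ Dg g b)) (hu : RevUnit g (Ideal.span {t}) e)
    (he : CocMod g (Ideal.span {t}) e) :
    ∃ E, FormalCoc g (Ideal.span {t}) E ∧ E 0 = e := by
  classical
  let J := Ideal.span {t}
  let Good : ℕ → (∀ a b, Γ(SpB B, Dg g a ⊓ Dg g b)) → Prop := fun n f =>
    CocMod g (J ^ (n + 1)) f ∧ RevUnit g J f
  have step : ∀ n f, ∃ f' : ∀ a b, Γ(SpB B, Dg g a ⊓ Dg g b), Good n f →
      Good (n + 1) f' ∧ ∀ a b, f' a b - f a b ∈ idl (J ^ (n + 1)) _ := fun n f => by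
    by_cases hf : Good n f
    · obtain ⟨f', h1, h2⟩ := cocMod_step ht h hx hy hz hw f hf.2 hf.1
      refine ⟨f', fun _ => ⟨⟨h1, fun a b => ?_⟩, h2⟩⟩
      have ha := idl_mono (Ideal.pow_le_self (Nat.succ_ne_zero n)) (h2 a b)
      have hb := res_mem (le_inf inf_le_right inf_le_left : Dg g a ⊓ Dg g b ≤ _)
        (idl_mono (Ideal.pow_le_self (Nat.succ_ne_zero n)) (h2 b a))
      rw [map_sub] at hb
      rw [show f' a b * rev f' a b - 1 = (f' a b - f a b) * rev f' a b +
        f a b * (rev f' a b - rev f a b) + (f a b * rev f a b - 1) by ring]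
      exact Ideal.add_mem _ (Ideal.add_mem _ (Ideal.mul_mem_right _ _ ha)
        (Ideal.mul_mem_left _ _ hb)) (hf.2 a b)
    · exact ⟨f, fun h' => absurd h' hf⟩
  choose next hnext using step
  let E : ℕ → ∀ a b, Γ(SpB B, Dg g a ⊓ Dg g b) := fun n => Nat.rec e next n
  have hE : ∀ n, Good n (E n) := fun n => by
    induction n with
    | zero => exact ⟨by rw [zero_add, pow_one]; exact he, hu⟩
    | succ n ih => exact (hnext n _ ih).1
  exact ⟨E, ⟨fun n => (hE n).1, fun n => (hnext n _ (hE n)).2, hu⟩, rfl⟩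

variable {E : ℕ → ∀ a b, Γ(SpB B, Dg g a ⊓ Dg g b)}

omit [Finite ι] in
theorem FormalCoc.reverse (hE : FormalCoc g J E) : FormalCoc g J (fun n => rev (E n)) :=
  ⟨fun n => cocMod_rev (hE.coc n),
    fun n a b => by
      have := res_mem (le_inf inf_le_right inf_le_left : Dg g a ⊓ Dg g b ≤ _) (hE.succ n b a)
      rwa [map_sub] at this,
    revUnit_rev hE.unit⟩

omit [Finite ι] in
theorem FormalCoc.congr (hE : FormalCoc g J E) {n m : ℕ} (h : n ≤ m) (a b : ι) :
    E m a b - E n a b ∈ idl (J ^ (n + 1)) _ := by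
  induction m, h using Nat.le_induction with
  | base => simp
  | succ m hm ih =>
    rw [← sub_add_sub_cancel (E (m + 1) a b) (E m a b) (E n a b)]
    exact Ideal.add_mem _ (idl_mono (Ideal.pow_le_pow_right (by omega)) (hE.succ m a b)) ih

omit [Finite ι] in
theorem FormalCoc.unit_at (hE : FormalCoc g J E) (n : ℕ) : RevUnit g J (E n) := fun a b => by
  have ha := idl_mono (Ideal.pow_le_self one_ne_zero) (hE.congr (Nat.zero_le n) a b)
  have hb := res_mem (le_inf inf_le_right inf_le_left : Dg g a ⊓ Dg g b ≤ _)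
    (idl_mono (Ideal.pow_le_self one_ne_zero) (hE.congr (Nat.zero_le n) b a))
  rw [map_sub] at hb
  rw [show E n a b * rev (E n) a b - 1 = (E n a b - E 0 a b) * rev (E n) a b +
    E 0 a b * (rev (E n) a b - rev (E 0) a b) + (E 0 a b * rev (E 0) a b - 1) by ring]
  exact Ideal.add_mem _ (Ideal.add_mem _ (Ideal.mul_mem_right _ _ ha) (Ideal.mul_mem_left _ _ hb))
    (hE.unit a b)

end Groth.ParaLift82
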