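import Groth.Agent.ParaLift82.FormalCocycle

/-!
# Sections of formal line bundles on punctured hypersurfaces
-/

set_option autoImplicit false
universe u

open CategoryTheory AlgebraicGeometry TopologicalSpace Groth.PicAux

namespace Groth.ParaLift82

variable {B : Type u} [CommRing B] {ι : Type u} [Finite ι] {g : ι → B} {J : Ideal B} {x y z w t : B}

/-- `c` is a coboundary for the cocycle `e` modulo `I`. -/
def TwBound (g : ι → B) (e : ∀ a b, Γ(SpB B, Dg g a ⊓ Dg g b)) (I : Ideal B)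
    (c : ∀ a b, Γ(SpB B, Dg g a ⊓ Dg g b)) (v : ∀ a, Γ(SpB B, Dg g a)) : Prop :=
  ∀ a b, c a b - (rs inf_le_right (v b) - rs inf_le_left (v a) * e a b) ∈ idl I _

/-- Sections of a line bundle modulo `J` and of its dual, restricting to powers of `g`. -/
structure Gauge (g : ι → B) (J : Ideal B) (e : ∀ a b, Γ(SpB B, Dg g a ⊓ Dg g b)) where
  N : ℕ
  q : ι → ∀ a, Γ(SpB B, Dg g a)
  m : ι → ∀ a, Γ(SpB B, Dg g a)
  q_rel : ∀ d a b, rs inf_le_left (q d a) - e a b * rs inf_le_right (q d b) ∈ idl J (Dg g a ⊓ Dg g b)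
  m_rel : ∀ d a b, rs inf_le_right (m d b) - rs inf_le_left (m d a) * e a b ∈ idl J (Dg g a ⊓ Dg g b)
  prod : ∀ d a, q d a * m d a - cst _ (g d ^ (2 * N)) ∈ idl J (Dg g a)
  q_self : ∀ a, q a a - cst _ (g a ^ N) ∈ idl J (Dg g a)
  m_self : ∀ a, m a a - cst _ (g a ^ N) ∈ idl J (Dg g a)

set_option maxHeartbeats 1000000 in
theorem exists_gauge {e : ∀ a b, Γ(SpB B, Dg g a ⊓ Dg g b)} (he : CocMod g J e) (hu : RevUnit g J e) :
    Nonempty (Gauge g J e) := by
  classical
  cases nonempty_fintype ι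
  obtain ⟨N₀, r₀, hr₀⟩ := exists_num_family (fun i : ι × ι => Dg g i.1 ⊓ Dg g i.2)
    (fun i => g i.1 * g i.2) (fun i => (D_mul _ _).symm) (fun i => e i.1 i.2)
  have hz : ∀ i : ι × ι × ι, ∃ p : ℕ, (g i.1 * g i.2.1 * g i.2.2) ^ p *
      (r₀ (i.2.2, i.1) * r₀ (i.1, i.2.1) - r₀ (i.2.2, i.2.1) * g i.1 ^ (2 * N₀)) ∈ J := by
    rintro ⟨a, b, c⟩
    let T := Dg g a ⊓ Dg g b ⊓ Dg g c
    have ha : T ≤ Dg g a := inf_le_left.trans inf_le_left
    have hb : T ≤ Dg g b := inf_le_left.trans inf_le_right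
    have hc : T ≤ Dg g c := inf_le_right
    refine (cst_mem_iff (O := T) (by rw [D_mul, D_mul]) J _).1 ?_
    have h1 := congrArg (rs (le_inf hc ha : T ≤ _)) (hr₀ (c, a))
    have h2 := congrArg (rs (le_inf ha hb : T ≤ _)) (hr₀ (a, b))
    have h3 := congrArg (rs (le_inf hc hb : T ≤ _)) (hr₀ (c, b))
    simp only [rs, map_mul, resX_cst, mul_pow] at h1 h2 h3
    rw [map_sub, map_mul, map_mul, ← h1, ← h2, ← h3, two_mul, pow_add, map_mul]
    have := he c a b T hc ha hb
    rw [show cst T (g c ^ N₀) * cst T (g a ^ N₀) * rs (le_inf hc ha) (e c a) *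
        (cst T (g a ^ N₀) * cst T (g b ^ N₀) * rs (le_inf ha hb) (e a b)) -
        cst T (g c ^ N₀) * cst T (g b ^ N₀) * rs (le_inf hc hb) (e c b) * (cst T (g a ^ N₀) * cst T (g a ^ N₀)) =
      cst T (g c ^ N₀) * cst T (g a ^ N₀) * cst T (g a ^ N₀) * cst T (g b ^ N₀) *
        (rs (le_inf hc ha) (e c a) * rs (le_inf ha hb) (e a b) - rs (le_inf hc hb) (e c b)) by ring]
    exact Ideal.mul_mem_left _ _ this
  choose p hp using hz
  let P := Finset.univ.sup p
  let N₁ := N₀ + P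
  let r₁ : ι → ι → B := fun a b => (g a * g b) ^ P * r₀ (a, b)
  have hr₁ : ∀ a b, cst (Dg g a ⊓ Dg g b) (r₁ a b) = cst _ ((g a * g b) ^ N₁) * e a b := fun a b => by
    simp only [r₁, N₁]
    rw [map_mul, ← hr₀ (a, b), pow_add, map_mul]; ring
  have hrel₁ : ∀ a b c, r₁ c a * r₁ a b - r₁ c b * g a ^ (2 * N₁) ∈ J := fun a b c => by
    obtain ⟨m, hm⟩ := Nat.exists_eq_add_of_le (Finset.le_sup (f := p) (Finset.mem_univ (a, b, c)))
    rw [show r₁ c a * r₁ a b - r₁ c b * g a ^ (2 * N₁) =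
        (g c ^ m * g a ^ m * g a ^ m * g b ^ m * g a ^ p (a, b, c)) *
          ((g a * g b * g c) ^ p (a, b, c) *
            (r₀ (c, a) * r₀ (a, b) - r₀ (c, b) * g a ^ (2 * N₀))) by
      simp only [r₁, N₁, show P = p (a, b, c) + m from hm]; ring]
    exact J.mul_mem_left _ (hp (a, b, c))
  obtain ⟨N, r, hr, hrel⟩ : ∃ (N : ℕ) (r : ι → ι → B),
      (∀ a b, cst (Dg g a ⊓ Dg g b) (r a b) = cst _ ((g a * g b) ^ N) * e a b) ∧
      ∀ a b c, r c a * r a b - r c b * g a ^ (2 * N) ∈ J := ⟨N₁, r₁, hr₁, hrel₁⟩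
  choose q hq using fun d a => exists_div (le_refl (Dg g a)) N (cst (Dg g a) (r a d))
  choose m hm using fun d a => exists_div (le_refl (Dg g a)) N (cst (Dg g a) (r d a))
  have hraa : ∀ a, cst (Dg g a) (r a a) - cst _ (g a ^ N) * cst _ (g a ^ N) ∈ idl J _ := fun a => by
    have h1 := congrArg (rs (le_inf le_rfl le_rfl : Dg g a ≤ _)) (hr a a)
    simp only [rs, map_mul, resX_cst, mul_pow] at h1
    rw [h1, ← mul_sub_one]
    exact Ideal.mul_mem_left _ _ (diag_mem he hu le_rfl (n := 1) (by rw [pow_one]) a le_rfl)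
  refine ⟨⟨N, q, m, fun d a c => ?_, fun d a c => ?_, fun d a => ?_, fun a => ?_, fun a => ?_⟩⟩
  · let T := Dg g a ⊓ Dg g c
    refine ((Ideal.unit_mul_mem_iff_mem _ ((isUnit_cst_pow (inf_le_left : T ≤ Dg g a) N).mul
      ((isUnit_cst_pow (inf_le_right : T ≤ Dg g c) N).mul
        (isUnit_cst_pow (inf_le_right : T ≤ Dg g c) N)))).1 ?_)
    have h1 := congrArg (rs (inf_le_left : T ≤ _)) (hq d a)
    have h2 := congrArg (rs (inf_le_right : T ≤ _)) (hq d c)
    simp only [rs, map_mul, resX_cst] at h1 h2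
    have h3 := Ideal.mem_map_of_mem (cst T) (hrel c d a)
    rw [map_sub, map_mul, map_mul, hr a c, mul_pow, map_mul, two_mul, pow_add, map_mul] at h3
    rw [show cst T (g a ^ N) * (cst T (g c ^ N) * cst T (g c ^ N)) *
      (rs inf_le_left (q d a) - e a c * rs inf_le_right (q d c)) =
      -(cst T (g a ^ N) * cst T (g c ^ N) * e a c * cst T (r c d) -
        cst T (r a d) * (cst T (g c ^ N) * cst T (g c ^ N))) by rw [← h1, ← h2]; simp only [rs]; ring]
    exact Ideal.neg_mem_iff _ |>.2 h3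
  · let T := Dg g a ⊓ Dg g c
    refine ((Ideal.unit_mul_mem_iff_mem _ ((isUnit_cst_pow (inf_le_right : T ≤ Dg g c) N).mul
      ((isUnit_cst_pow (inf_le_left : T ≤ Dg g a) N).mul
        (isUnit_cst_pow (inf_le_left : T ≤ Dg g a) N)))).1 ?_)
    have h1 := congrArg (rs (inf_le_left : T ≤ _)) (hm d a)
    have h2 := congrArg (rs (inf_le_right : T ≤ _)) (hm d c)
    simp only [rs, map_mul, resX_cst] at h1 h2
    have h3 := Ideal.mem_map_of_mem (cst T) (hrel a c d)
    rw [map_sub, map_mul, map_mul, hr a c, mul_pow, map_mul, two_mul, pow_add, map_mul] at h3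
    rw [show cst T (g c ^ N) * (cst T (g a ^ N) * cst T (g a ^ N)) *
      (rs inf_le_right (m d c) - rs inf_le_left (m d a) * e a c) =
      -(cst T (r d a) * (cst T (g a ^ N) * cst T (g c ^ N) * e a c) -
        cst T (r d c) * (cst T (g a ^ N) * cst T (g a ^ N))) by rw [← h1, ← h2]; simp only [rs]; ring]
    exact Ideal.neg_mem_iff _ |>.2 h3
  · refine (Ideal.unit_mul_mem_iff_mem _ ((isUnit_cst_pow (le_refl (Dg g a)) N).mul
      (isUnit_cst_pow (le_refl (Dg g a)) N))).1 ?_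
    have h3 := Ideal.mem_map_of_mem (cst (Dg g a)) (hrel d a a)
    rw [map_sub, map_mul, map_mul] at h3
    rw [show cst (Dg g a) (g a ^ N) * cst _ (g a ^ N) * (q d a * m d a - cst _ (g d ^ (2 * N))) =
      (cst _ (g a ^ N) * q d a * (cst _ (g a ^ N) * m d a) - cst _ (r a a) * cst _ (g d ^ (2 * N))) +
        (cst _ (r a a) - cst _ (g a ^ N) * cst _ (g a ^ N)) * cst _ (g d ^ (2 * N)) by ring, hq, hm]
    exact Ideal.add_mem _ h3 (Ideal.mul_mem_right _ _ (hraa a))
  · refine (mul_cst_mem_iff le_rfl N).1 ?_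
    rw [mul_sub, hq]; exact hraa a
  · refine (mul_cst_mem_iff le_rfl N).1 ?_
    rw [mul_sub, hm]; exact hraa a

/-- The gauge of the reversed family. -/
noncomputable def Gauge.rev' {e : ∀ a b, Γ(SpB B, Dg g a ⊓ Dg g b)} (G : Gauge g J e)
    (hu : RevUnit g J e) : Gauge g J (rev e) where
  N := G.N
  q := G.m
  m := G.q
  q_rel d a b := by
    rw [show rs inf_le_left (G.m d a) - rev e a b * rs inf_le_right (G.m d b) =
      -(rev e a b) * (rs inf_le_right (G.m d b) - rs inf_le_left (G.m d a) * e a b) -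
        rs inf_le_left (G.m d a) * (e a b * rev e a b - 1) by ring]
    exact Ideal.sub_mem _ (Ideal.mul_mem_left _ _ (G.m_rel d a b)) (Ideal.mul_mem_left _ _ (hu a b))
  m_rel d a b := by
    rw [show rs inf_le_right (G.q d b) - rs inf_le_left (G.q d a) * rev e a b =
      -(rev e a b) * (rs inf_le_left (G.q d a) - e a b * rs inf_le_right (G.q d b)) -
        rs inf_le_right (G.q d b) * (e a b * rev e a b - 1) by ring]
    exact Ideal.sub_mem _ (Ideal.mul_mem_left _ _ (G.q_rel d a b)) (Ideal.mul_mem_left _ _ (hu a b))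
  prod d a := by rw [mul_comm]; exact G.prod d a
  q_self := G.m_self
  m_self := G.q_self

/-- A twisted cocycle modulo `J` is killed by the gauge. -/
theorem exists_twBound {e : ∀ a b, Γ(SpB B, Dg g a ⊓ Dg g b)} (G : Gauge g J e)
    (h : RegTriple J x y z) (hx : InRad g x) (hy : InRad g y) (hz : InRad g z)
    (c : ∀ a b, Γ(SpB B, Dg g a ⊓ Dg g b))
    (hc : ∀ a b d (T : (SpB B).Opens) (ha : T ≤ Dg g a) (hb : T ≤ Dg g b) (hd : T ≤ Dg g d),
      T = D (g a * g b * g d) →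
      rs (le_inf ha hd) (c a d) -
        (rs (le_inf hb hd) (c b d) + rs (le_inf hb hd) (e b d) * rs (le_inf ha hb) (c a b)) ∈ idl J T)
    (d : ι) :
    ∃ v, TwBound g e J (fun a b => cst _ (g d ^ (2 * G.N)) * c a b) v := by
  obtain ⟨W, hW⟩ := exists_primitive h hx hy hz (fun a b => c a b * rs inf_le_right (G.q d b))
    fun a b f T ha hb hf hT => by
      have h1 := hc a b f T ha hb hf hT
      have h2 := res_mem (le_inf hb hf : T ≤ _) (G.q_rel d b f)
      simp only [rs, map_mul, map_sub, resX_resX] at h1 h2 ⊢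
      set cab := resX _ (le_inf ha hb) (c a b)
      set caf := resX _ (le_inf ha hf) (c a f)
      set cbf := resX _ (le_inf hb hf) (c b f)
      set ebf := resX _ (le_inf hb hf) (e b f)
      set qf := resX _ hf (G.q d f)
      set qb := resX _ hb (G.q d b)
      rw [show caf * qf - (cab * qb + cbf * qf) = (caf - (cbf + ebf * cab)) * qf - cab * (qb - ebf * qf) by ring]
      exact Ideal.sub_mem _ (Ideal.mul_mem_right _ _ h1) (Ideal.mul_mem_left _ _ h2)
  refine ⟨fun a => -(W a * G.m d a), fun a b => ?_⟩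
  have h1 := hW a b
  have h2 := res_mem (inf_le_right : Dg g a ⊓ Dg g b ≤ _) (G.prod d b)
  have h3 := G.m_rel d a b
  simp only [rs, map_mul, map_sub, map_neg, resX_cst] at h1 h2 h3 ⊢
  set qb := resX _ inf_le_right (G.q d b)
  set mb := resX _ inf_le_right (G.m d b)
  set ma := resX _ inf_le_left (G.m d a)
  set Wa := resX _ inf_le_left (W a)
  set Wb := resX _ inf_le_right (W b)
  rw [show cst _ (g d ^ (2 * G.N)) * c a b - (-(Wb * mb) - -(Wa * ma) * e a b) =
    (c a b * qb - (Wa - Wb)) * mb - c a b * (qb * mb - cst _ (g d ^ (2 * G.N))) + Wa * (mb - ma * e a b) by ring]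
  exact Ideal.add_mem _ (Ideal.sub_mem _ (Ideal.mul_mem_right _ _ h1) (Ideal.mul_mem_left _ _ h2))
    (Ideal.mul_mem_left _ _ h3)

variable {E : ℕ → ∀ a b, Γ(SpB B, Dg g a ⊓ Dg g b)}

/-- `c` is the obstruction to lifting `s` one level. -/
def Obs (g : ι → B) (t : B) (E : ℕ → ∀ a b, Γ(SpB B, Dg g a ⊓ Dg g b)) (n : ℕ)
    (s : ∀ a, Γ(SpB B, Dg g a)) (c : ∀ a b, Γ(SpB B, Dg g a ⊓ Dg g b)) : Prop :=
  ∀ a b, rs inf_le_right (s b) - rs inf_le_left (s a) * E (n + 1) a b - cst _ (t ^ (n + 1)) * c a b ∈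
    idl (Ideal.span {t} ^ (n + 2)) _

omit [Finite ι] in
theorem exists_obs (hE : FormalCoc g (Ideal.span {t}) E) {n : ℕ} {s : ∀ a, Γ(SpB B, Dg g a)}
    (hs : Approx (E n) (Ideal.span {t} ^ (n + 1)) s) : ∃ c, Obs g t E n s c := by
  choose c hc using fun a b => exists_coord (n := n + 1)
    (show rs inf_le_right (s b) - rs inf_le_left (s a) * E (n + 1) a b ∈
        idl (Ideal.span {t} ^ (n + 1)) (Dg g a ⊓ Dg g b) by
      rw [show rs inf_le_right (s b) - rs inf_le_left (s a) * E (n + 1) a b =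
        (rs inf_le_right (s b) - rs inf_le_left (s a) * E n a b) -
          rs inf_le_left (s a) * (E (n + 1) a b - E n a b) by ring]
      exact Ideal.sub_mem _ (hs a b) (Ideal.mul_mem_left _ _ (hE.succ n a b)))
  exact ⟨c, fun a b => by rw [hc]; simp⟩

omit [Finite ι] in
theorem Obs.law (ht : ∀ a, t * a = 0 → a = 0) (hE : FormalCoc g (Ideal.span {t}) E) {n : ℕ}
    {s : ∀ a, Γ(SpB B, Dg g a)} {c : ∀ a b, Γ(SpB B, Dg g a ⊓ Dg g b)} (hc : Obs g t E n s c)
    (a b d : ι) (T : (SpB B).Opens) (ha : T ≤ Dg g a) (hb : T ≤ Dg g b) (hd : T ≤ Dg g d)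
    (hT : T = D (g a * g b * g d)) :
    rs (le_inf ha hd) (c a d) -
        (rs (le_inf hb hd) (c b d) + rs (le_inf hb hd) (E 0 b d) * rs (le_inf ha hb) (c a b)) ∈
      idl (Ideal.span {t}) T := by
  have h1 := res_mem (le_inf ha hd : T ≤ _) (hc a d)
  have h2 := res_mem (le_inf hb hd : T ≤ _) (hc b d)
  have h3 := res_mem (le_inf ha hb : T ≤ _) (hc a b)
  have h4 := hE.coc (n + 1) a b d T ha hb hd
  have h5 := res_mem (le_inf hb hd : T ≤ _) (hE.congr (Nat.zero_le (n + 1)) b d)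
  simp only [rs, map_sub, map_mul, resX_cst, resX_resX, zero_add, pow_one] at h1 h2 h3 h4 h5 ⊢
  set cad := resX _ (le_inf ha hd) (c a d)
  set cbd := resX _ (le_inf hb hd) (c b d)
  set cab := resX _ (le_inf ha hb) (c a b)
  set sa := resX _ ha (s a)
  set sb := resX _ hb (s b)
  set sd := resX _ hd (s d)
  set fad := resX _ (le_inf ha hd) (E (n + 1) a d)
  set fbd := resX _ (le_inf hb hd) (E (n + 1) b d)
  set fab := resX _ (le_inf ha hb) (E (n + 1) a b)
  set ebd := resX _ (le_inf hb hd) (E 0 b d)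
  set τ := cst T (t ^ (n + 1))
  have h6 : τ * (cad - (cbd + fbd * cab)) ∈ idl (Ideal.span {t} ^ (n + 2)) T := by
    rw [show τ * (cad - (cbd + fbd * cab)) = -(sd - sa * fad - τ * cad) + (sd - sb * fbd - τ * cbd) +
      fbd * (sb - sa * fab - τ * cab) + sa * (fab * fbd - fad) by ring]
    exact Ideal.add_mem _ (Ideal.add_mem _ (Ideal.add_mem _ (Ideal.neg_mem_iff _ |>.2 h1) h2)
      (Ideal.mul_mem_left _ _ h3)) (Ideal.mul_mem_left _ _ h4)
  rw [show cad - (cbd + ebd * cab) = (cad - (cbd + fbd * cab)) + (fbd - ebd) * cab by ring]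
  exact Ideal.add_mem _ (coord_mem ht hT h6) (Ideal.mul_mem_right _ _ h5)

omit [Finite ι] in
theorem Obs.lift (hE : FormalCoc g (Ideal.span {t}) E) {n : ℕ}
    {s : ∀ a, Γ(SpB B, Dg g a)} {c : ∀ a b, Γ(SpB B, Dg g a ⊓ Dg g b)} (hc : Obs g t E n s c)
    {v : ∀ a, Γ(SpB B, Dg g a)} (hv : TwBound g (E 0) (Ideal.span {t}) c v) :
    Approx (E (n + 1)) (Ideal.span {t} ^ (n + 2)) (fun a => s a - cst _ (t ^ (n + 1)) * v a) := by
  intro a b
  have h1 := hc a b
  have h2 := hv a b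
  have h3 := hE.congr (Nat.zero_le (n + 1)) a b
  simp only [rs, zero_add, pow_one, map_sub, map_mul, resX_cst] at h1 h2 h3 ⊢
  set va := resX _ inf_le_left (v a)
  set vb := resX _ inf_le_right (v b)
  set sa := resX _ inf_le_left (s a)
  set sb := resX _ inf_le_right (s b)
  set τ := cst (Dg g a ⊓ Dg g b) (t ^ (n + 1)) with hτ
  have hmul : ∀ u ∈ idl (Ideal.span {t}) (Dg g a ⊓ Dg g b), τ * u ∈ idl (Ideal.span {t} ^ (n + 2)) _ := by
    intro u hu
    rw [idl, pow_succ, Ideal.map_mul]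
    exact Ideal.mul_mem_mul (Ideal.mem_map_of_mem _ (Ideal.pow_mem_pow (Ideal.mem_span_singleton_self t) _)) hu
  rw [show sb - τ * vb - (sa - τ * va) * E (n + 1) a b = (sb - sa * E (n + 1) a b - τ * c a b) +
    τ * ((c a b - (vb - va * E 0 a b)) + va * (E (n + 1) a b - E 0 a b)) by ring]
  exact Ideal.add_mem _ h1 (hmul _ (Ideal.add_mem _ h2 (Ideal.mul_mem_left _ _ h3)))

omit [Finite ι] in
theorem Obs.sub {n : ℕ} {s s' : ∀ a, Γ(SpB B, Dg g a)} {c c' : ∀ a b, Γ(SpB B, Dg g a ⊓ Dg g b)}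
    (hc : Obs g t E n s c) (hc' : Obs g t E n s' c') :
    Obs g t E n (fun a => s a - s' a) (fun a b => c a b - c' a b) := fun a b => by
  have := Ideal.sub_mem _ (hc a b) (hc' a b)
  simp only [rs, map_sub] at this ⊢
  convert this using 1
  ring

omit [Finite ι] in
theorem Obs.mul_cst {n : ℕ} {s : ∀ a, Γ(SpB B, Dg g a)} {c : ∀ a b, Γ(SpB B, Dg g a ⊓ Dg g b)}
    (hc : Obs g t E n s c) (k : B) :
    Obs g t E n (fun a => cst _ k * s a) (fun a b => cst _ k * c a b) := fun a b => by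
  have := Ideal.mul_mem_left _ (cst (Dg g a ⊓ Dg g b) k) (hc a b)
  simp only [rs, map_mul, resX_cst] at this ⊢
  convert this using 1
  ring

/-- Every section modulo `J` times a power of `g d` lifts to each level. -/
theorem exists_level (ht : ∀ a, t * a = 0 → a = 0) (hE : FormalCoc g (Ideal.span {t}) E)
    (G : Gauge g (Ideal.span {t}) (E 0)) (h : RegTriple (Ideal.span {t}) x y z)
    (hx : InRad g x) (hy : InRad g y) (hz : InRad g z) (d : ι) (n : ℕ) :
    ∃ s : ∀ a, Γ(SpB B, Dg g a), Approx (E n) (Ideal.span {t} ^ (n + 1)) s ∧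
      ∀ a, s a - cst _ (g d ^ (2 * G.N * n)) * G.m d a ∈ idl (Ideal.span {t}) _ := by
  induction n with
  | zero => exact ⟨G.m d, by rw [zero_add, pow_one]; exact fun a b => G.m_rel d a b, fun a => by simp⟩
  | succ n ih =>
    obtain ⟨s, hs, hs'⟩ := ih
    obtain ⟨c, hc⟩ := exists_obs hE hs
    obtain ⟨v, hv⟩ := exists_twBound G h hx hy hz c (hc.law ht hE) d
    refine ⟨_, (hc.mul_cst (g d ^ (2 * G.N))).lift hE hv, fun a => ?_⟩
    rw [show cst (Dg g a) (g d ^ (2 * G.N)) * s a - cst _ (t ^ (n + 1)) * v a -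
        cst _ (g d ^ (2 * G.N * (n + 1))) * G.m d a =
      cst (Dg g a) (g d ^ (2 * G.N)) * (s a - cst _ (g d ^ (2 * G.N * n)) * G.m d a) -
        cst _ (t ^ (n + 1)) * v a by
      rw [show g d ^ (2 * G.N * (n + 1)) = g d ^ (2 * G.N) * g d ^ (2 * G.N * n) by rw [← pow_add]; congr 1; ring,
        map_mul]
      ring]
    exact Ideal.sub_mem _ (Ideal.mul_mem_left _ _ (hs' a)) (Ideal.mul_mem_right _ _
      (Ideal.mem_map_of_mem _ (Ideal.pow_le_self (Nat.succ_ne_zero n)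
        (Ideal.pow_mem_pow (Ideal.mem_span_singleton_self t) _))))

/-- A section with its obstruction and the image of the obstruction in a fixed module. -/
def Wit (g : ι → B) (t x : B) (E : ℕ → ∀ a b, Γ(SpB B, Dg g a ⊓ Dg g b))
    (G : Gauge g (Ideal.span {t}) (E 0)) (M n : ℕ) (v : ι → B) (s : ∀ a, Γ(SpB B, Dg g a))
    (c : ∀ a b, Γ(SpB B, Dg g a ⊓ Dg g b)) (f : ∀ a, Γ(SpB B, Dg g a)) : Prop :=
  Approx (E n) (Ideal.span {t} ^ (n + 1)) s ∧ Obs g t E n s c ∧
    TwBound g (E 0) (Ideal.span {t}) (fun a b => cst _ (x ^ M) * c a b) f ∧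
      ∀ a b, cst (Dg g a) (v b) - f a * G.q b a ∈ idl (Ideal.span {t} ⊔ Ideal.span {x ^ M}) _

omit [Finite ι] in
theorem Wit.mul_t (hE : FormalCoc g (Ideal.span {t}) E) {G : Gauge g (Ideal.span {t}) (E 0)}
    {M n : ℕ} {v : ι → B} {s f : ∀ a, Γ(SpB B, Dg g a)} {c : ∀ a b, Γ(SpB B, Dg g a ⊓ Dg g b)}
    (h : Wit g t x E G M n v s c f) : Wit g t x E G M (n + 1) v (fun a => cst _ t * s a) c f := by
  obtain ⟨h1, h2, h3, h4⟩ := h
  have hmul : ∀ (O : (SpB B).Opens) (k : ℕ) u, u ∈ idl (Ideal.span {t} ^ k) O →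
      cst O t * u ∈ idl (Ideal.span {t} ^ (k + 1)) O := fun O k u hu => by
    rw [idl, pow_succ', Ideal.map_mul]
    exact Ideal.mul_mem_mul (Ideal.mem_map_of_mem _ (Ideal.mem_span_singleton_self t)) hu
  refine ⟨fun a b => ?_, fun a b => ?_, h3, h4⟩
  · have e1 := hmul _ _ _ (h1 a b)
    have e2 := hmul _ _ _ (hE.succ n a b)
    simp only [rs, map_mul, resX_cst] at e1 e2 ⊢
    rw [show cst (Dg g a ⊓ Dg g b) t * resX _ inf_le_right (s b) -
        cst _ t * resX _ inf_le_left (s a) * E (n + 1) a b =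
      cst (Dg g a ⊓ Dg g b) t * (resX _ inf_le_right (s b) - resX _ inf_le_left (s a) * E n a b) -
        resX _ inf_le_left (s a) * (cst _ t * (E (n + 1) a b - E n a b)) by ring]
    exact Ideal.sub_mem _ e1 (Ideal.mul_mem_left _ _ e2)
  · have e1 := hmul _ _ _ (h2 a b)
    have e2 := hmul _ _ _ (hE.succ (n + 1) a b)
    simp only [rs, map_mul, resX_cst] at e1 e2 ⊢
    rw [show cst (Dg g a ⊓ Dg g b) t * resX _ inf_le_right (s b) -
        cst _ t * resX _ inf_le_left (s a) * E (n + 1 + 1) a b - cst _ (t ^ (n + 1 + 1)) * c a b =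
      cst (Dg g a ⊓ Dg g b) t * (resX _ inf_le_right (s b) - resX _ inf_le_left (s a) * E (n + 1) a b -
          cst _ (t ^ (n + 1)) * c a b) -
        resX _ inf_le_left (s a) * (cst _ t * (E (n + 1 + 1) a b - E (n + 1) a b)) by
      rw [pow_succ' t (n + 1), map_mul]; ring]
    exact Ideal.sub_mem _ e1 (Ideal.mul_mem_left _ _ e2)

omit [Finite ι] in
theorem Wit.mul_t_pow (hE : FormalCoc g (Ideal.span {t}) E) {G : Gauge g (Ideal.span {t}) (E 0)}
    {M n : ℕ} {v : ι → B} {s f : ∀ a, Γ(SpB B, Dg g a)} {c : ∀ a b, Γ(SpB B, Dg g a ⊓ Dg g b)}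
    (h : Wit g t x E G M n v s c f) :
    ∀ m, Wit g t x E G M (n + m) v (fun a => cst _ (t ^ m) * s a) c f := by
  intro m
  induction m with
  | zero => simpa using h
  | succ m ih =>
    have := ih.mul_t hE
    simpa [pow_succ', map_mul, mul_assoc, Nat.add_assoc] using this

omit [Finite ι] in
theorem Wit.add {G : Gauge g (Ideal.span {t}) (E 0)} {M n : ℕ} {v v' : ι → B}
    {s f s' f' : ∀ a, Γ(SpB B, Dg g a)} {c c' : ∀ a b, Γ(SpB B, Dg g a ⊓ Dg g b)}
    (h : Wit g t x E G M n v s c f) (h' : Wit g t x E G M n v' s' c' f') :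
    Wit g t x E G M n (v + v') (fun a => s a + s' a) (fun a b => c a b + c' a b) (fun a => f a + f' a) := by
  refine ⟨fun a b => ?_, fun a b => ?_, fun a b => ?_, fun a b => ?_⟩
  · have := Ideal.add_mem _ (h.1 a b) (h'.1 a b)
    simp only [map_add] at this ⊢
    convert this using 1
    ring
  · have := Ideal.add_mem _ (h.2.1 a b) (h'.2.1 a b)
    simp only [rs, map_add] at this ⊢
    convert this using 1
    ring
  · have := Ideal.add_mem _ (h.2.2.1 a b) (h'.2.2.1 a b)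
    simp only [rs, map_add] at this ⊢
    convert this using 1
    ring
  · have := Ideal.add_mem _ (h.2.2.2 a b) (h'.2.2.2 a b)
    simp only [Pi.add_apply, map_add] at this ⊢
    convert this using 1
    ring

omit [Finite ι] in
theorem Wit.smul {G : Gauge g (Ideal.span {t}) (E 0)} {M n : ℕ} {v : ι → B}
    {s f : ∀ a, Γ(SpB B, Dg g a)} {c : ∀ a b, Γ(SpB B, Dg g a ⊓ Dg g b)}
    (h : Wit g t x E G M n v s c f) (k : B) :
    Wit g t x E G M n (k • v) (fun a => cst _ k * s a) (fun a b => cst _ k * c a b)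
      (fun a => cst _ k * f a) := by
  refine ⟨fun a b => ?_, fun a b => ?_, fun a b => ?_, fun a b => ?_⟩
  · have := Ideal.mul_mem_left _ (cst (Dg g a ⊓ Dg g b) k) (h.1 a b)
    simp only [map_mul, resX_cst] at this ⊢
    convert this using 1
    ring
  · exact h.2.1.mul_cst k a b
  · have := Ideal.mul_mem_left _ (cst (Dg g a ⊓ Dg g b) k) (h.2.2.1 a b)
    simp only [rs, map_mul, resX_cst] at this ⊢
    convert this using 1
    ring
  · have := Ideal.mul_mem_left _ (cst (Dg g a) k) (h.2.2.2 a b)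
    simp only [Pi.smul_apply, smul_eq_mul, map_mul] at this ⊢
    convert this using 1
    ring

theorem exists_wit (hE : FormalCoc g (Ideal.span {t}) E) (ht : ∀ a, t * a = 0 → a = 0)
    (G : Gauge g (Ideal.span {t}) (E 0)) (h : RegQuad (Ideal.span {t}) x y z w)
    (hx : InRad g x) (hy : InRad g y) (hz : InRad g z) [Fintype ι] {M : ℕ} {l : ι → B}
    (hl : x ^ M = ∑ d, l d * g d ^ (2 * G.N)) {n : ℕ} {s : ∀ a, Γ(SpB B, Dg g a)}
    (hs : Approx (E n) (Ideal.span {t} ^ (n + 1)) s) :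
    ∃ v c f, Wit g t x E G M n v s c f := by
  obtain ⟨c, hc⟩ := exists_obs hE hs
  choose u hu using exists_twBound G h.first hx hy hz c (hc.law ht hE)
  let f : ∀ a, Γ(SpB B, Dg g a) := fun a => ∑ d, cst _ (l d) * u d a
  have hf : TwBound g (E 0) (Ideal.span {t}) (fun a b => cst _ (x ^ M) * c a b) f := fun a b => by
    simp only [f, rs, hl, map_sum, map_mul, resX_cst, Finset.sum_mul, ← Finset.sum_sub_distrib]
    refine Ideal.sum_mem _ fun d _ => ?_
    convert Ideal.mul_mem_left _ (cst (Dg g a ⊓ Dg g b) (l d)) (hu d a b) using 1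
    simp only [rs, map_mul]
    ring
  have hv : ∀ b, ∃ v : B, ∀ a, cst (Dg g a) v - f a * G.q b a ∈
      idl (Ideal.span {t} ⊔ Ideal.span {x ^ M}) _ := fun b =>
    sat_glue (h.first.regPair_sup M) hy hz (fun a => f a * G.q b a) fun a a' => by
      have h1 := idl_mono (le_sup_left (b := Ideal.span {x ^ M})) (hf a a')
      have h2 := idl_mono (le_sup_left (b := Ideal.span {x ^ M})) (G.q_rel b a a')
      have h3 : cst (Dg g a ⊓ Dg g a') (x ^ M) ∈ idl (Ideal.span {t} ⊔ Ideal.span {x ^ M}) _ :=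
        Ideal.mem_map_of_mem _ (Submodule.mem_sup_right (Ideal.mem_span_singleton_self _))
      simp only [rs, map_mul] at h1 h2 ⊢
      set fa := resX _ inf_le_left (f a)
      set fb := resX _ inf_le_right (f a')
      set qa := resX _ inf_le_left (G.q b a)
      set qb := resX _ inf_le_right (G.q b a')
      rw [show fa * qa - fb * qb = fa * (qa - E 0 a a' * qb) +
        (cst _ (x ^ M) * c a a' - (fb - fa * E 0 a a')) * qb - cst _ (x ^ M) * (c a a' * qb) by ring]
      exact Ideal.sub_mem _ (Ideal.add_mem _ (Ideal.mul_mem_left _ _ h2) (Ideal.mul_mem_right _ _ h1))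
        (Ideal.mul_mem_right _ _ h3)
  choose v hv using hv
  exact ⟨v, c, f, hs, hc, hf, fun a b => hv b a⟩

/-- The module of images of the obstructions at level `n`. -/
def obsImage (g : ι → B) (t x : B) (E : ℕ → ∀ a b, Γ(SpB B, Dg g a ⊓ Dg g b))
    (G : Gauge g (Ideal.span {t}) (E 0)) (M n : ℕ) : Submodule B (ι → B) :=
  Submodule.span B {v | ∃ s c f, Wit g t x E G M n v s c f}

/-- There is a level from which on obstructions repeat. -/
theorem exists_stable [IsNoetherianRing B] (hE : FormalCoc g (Ideal.span {t}) E)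
    (ht : ∀ a, t * a = 0 → a = 0) (G : Gauge g (Ideal.span {t}) (E 0))
    (h : RegQuad (Ideal.span {t}) x y z w) (hx : InRad g x) (hy : InRad g y) (hz : InRad g z) :
    ∃ n₀, ∀ m (s : ∀ a, Γ(SpB B, Dg g a)), Approx (E (n₀ + m)) (Ideal.span {t} ^ (n₀ + m + 1)) s →
      ∃ s', Approx (E (n₀ + m + 1)) (Ideal.span {t} ^ (n₀ + m + 2)) s' ∧
        ∀ a, s' a - s a ∈ idl (Ideal.span {t} ^ m) _ := by
  classical
  cases nonempty_fintype ι
  obtain ⟨M, l, hl⟩ := exists_comb hx (2 * G.N)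
  let F : ℕ →o Submodule B (ι → B) := ⟨obsImage g t x E G M, monotone_nat_of_le_succ fun n =>
    Submodule.span_mono fun v ⟨s, c, f, hw'⟩ => ⟨_, c, f, hw'.mul_t hE⟩⟩
  obtain ⟨n₀, hn₀⟩ := monotone_stabilizes_iff_noetherian.2 inferInstance F
  refine ⟨n₀, fun m s hs => ?_⟩
  obtain ⟨v, c, f, hw₁⟩ := exists_wit hE ht G h hx hy hz hl hs
  have hmem : v ∈ obsImage g t x E G M n₀ := by
    rw [show obsImage g t x E G M n₀ = obsImage g t x E G M (n₀ + m) from hn₀ _ (Nat.le_add_right _ _)]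
    exact Submodule.subset_span ⟨s, c, f, hw₁⟩
  have hex : ∀ v ∈ obsImage g t x E G M n₀, ∃ s c f, Wit g t x E G M n₀ v s c f := by
    intro v hv
    induction hv using Submodule.span_induction with
    | mem v hv => exact hv
    | zero =>
      refine ⟨fun _ => 0, fun _ _ => 0, fun _ => 0, fun a b => ?_, fun a b => ?_, fun a b => ?_, fun a b => ?_⟩
        <;> simp
    | add v v' _ _ hv hv' =>
      obtain ⟨s, c, f, h1⟩ := hv
      obtain ⟨s', c', f', h2⟩ := hv'
      exact ⟨_, _, _, h1.add h2⟩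
    | smul k v _ hv =>
      obtain ⟨s, c, f, h1⟩ := hv
      exact ⟨_, _, _, h1.smul k⟩
  obtain ⟨s₀, c₀, f₀, hw₀⟩ := hex v hmem
  have hw₂ := hw₀.mul_t_pow hE m
  let f' : ∀ a, Γ(SpB B, Dg g a) := fun a => f a - f₀ a
  have hf' : ∀ a, f' a ∈ idl (Ideal.span {t} ⊔ Ideal.span {x ^ M}) _ := fun a => by
    refine (mul_cst_mem_iff le_rfl G.N).1 ?_
    have h1 := hw₁.2.2.2 a a
    have h2 := hw₀.2.2.2 a a
    rw [show cst (Dg g a) (g a ^ G.N) * f' a = (cst _ (v a) - f₀ a * G.q a a) -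
      (cst _ (v a) - f a * G.q a a) - f' a * (G.q a a - cst _ (g a ^ G.N)) by simp only [f']; ring]
    exact Ideal.sub_mem _ (Ideal.sub_mem _ h2 h1)
      (Ideal.mul_mem_left _ _ (idl_mono le_sup_left (G.q_self a)))
  choose u hu using fun a => mem_idl_sup_span (hf' a)
  have hu' : TwBound g (E 0) (Ideal.span {t}) (fun a b => c a b - c₀ a b) u := fun a b => by
    refine mem_of_cst_mul (D_mul _ _).symm (h.first.pair.left_pow M) ?_
    have h1 := hw₁.2.2.1 a b
    have h2 := hw₀.2.2.1 a b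
    have h3 := res_mem (inf_le_left : Dg g a ⊓ Dg g b ≤ _) (hu a)
    have h4 := res_mem (inf_le_right : Dg g a ⊓ Dg g b ≤ _) (hu b)
    simp only [f', rs, map_sub, map_mul, resX_cst] at h1 h2 h3 h4 ⊢
    convert Ideal.add_mem _ (Ideal.sub_mem _ h1 h2) (Ideal.sub_mem _ h4 (Ideal.mul_mem_right (E 0 a b) _ h3))
      using 1
    ring
  refine ⟨_, (hw₁.2.1.sub hw₂.2.1).lift hE hu', fun a => ?_⟩
  rw [show s a - cst (Dg g a) (t ^ m) * s₀ a - cst _ (t ^ (n₀ + m + 1)) * u a - s a =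
    cst (Dg g a) (t ^ m) * (-s₀ a) - cst _ (t ^ (n₀ + m + 1)) * u a by ring]
  refine Ideal.sub_mem _ (Ideal.mul_mem_right _ _ (Ideal.mem_map_of_mem _
    (Ideal.pow_mem_pow (Ideal.mem_span_singleton_self t) _))) (Ideal.mul_mem_right _ _
    (Ideal.mem_map_of_mem _ (Ideal.pow_le_pow_right (by omega) (Ideal.pow_mem_pow (Ideal.mem_span_singleton_self t) _))))

/-- Compatible sections of every level. -/
theorem exists_formal_sections [IsNoetherianRing B] (hE : FormalCoc g (Ideal.span {t}) E)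
    (ht : ∀ a, t * a = 0 → a = 0) (G : Gauge g (Ideal.span {t}) (E 0))
    (h : RegQuad (Ideal.span {t}) x y z w) (hx : InRad g x) (hy : InRad g y) (hz : InRad g z) :
    ∃ (K : ι → ℕ) (S : ι → ℕ → ∀ a, Γ(SpB B, Dg g a)), ∀ d j,
      Approx (E j) (Ideal.span {t} ^ (j + 1)) (S d j) ∧
      (∀ a, S d (j + 1) a - S d j a ∈ idl (Ideal.span {t} ^ (j + 1)) _) ∧
      ∀ a, S d j a - cst _ (g d ^ K d) * G.m d a ∈ idl (Ideal.span {t}) _ := by
  classical
  let J := Ideal.span {t}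
  obtain ⟨n₀, hn₀⟩ := exists_stable hE ht G h hx hy hz
  have step : ∀ j (s : ∀ a, Γ(SpB B, Dg g a)), ∃ s' : ∀ a, Γ(SpB B, Dg g a),
      Approx (E (n₀ + (j + 1))) (J ^ (n₀ + (j + 1) + 1)) s →
      Approx (E (n₀ + (j + 2))) (J ^ (n₀ + (j + 2) + 1)) s' ∧
        ∀ a, s' a - s a ∈ idl (J ^ (j + 1)) _ := fun j s => by
    by_cases hs : Approx (E (n₀ + (j + 1))) (J ^ (n₀ + (j + 1) + 1)) s
    · obtain ⟨s', h1, h2⟩ := hn₀ (j + 1) s hs
      exact ⟨s', fun _ => ⟨h1, h2⟩⟩
    · exact ⟨s, fun h' => absurd h' hs⟩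
  choose next hnext using step
  choose s₀ hs₀ hs₀' using fun d => exists_level ht hE G h.first hx hy hz d (n₀ + 1)
  let S : ι → ℕ → ∀ a, Γ(SpB B, Dg g a) := fun d j => Nat.rec (s₀ d) next j
  have hS : ∀ d j, Approx (E (n₀ + (j + 1))) (J ^ (n₀ + (j + 1) + 1)) (S d j) := fun d j => by
    induction j with
    | zero => exact hs₀ d
    | succ j ih => exact (hnext j _ ih).1
  refine ⟨fun d => 2 * G.N * (n₀ + 1), S, fun d j => ⟨fun a b => ?_, (hnext j _ (hS d j)).2, ?_⟩⟩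
  · have h1 := idl_mono (Ideal.pow_le_pow_right (I := J) (show j + 1 ≤ n₀ + (j + 1) + 1 by omega)) (hS d j a b)
    have h2 := hE.congr (show j ≤ n₀ + (j + 1) by omega) a b
    rw [show resX _ inf_le_right (S d j b) - resX _ inf_le_left (S d j a) * E j a b =
      (resX _ inf_le_right (S d j b) - resX _ inf_le_left (S d j a) * E (n₀ + (j + 1)) a b) +
        resX _ inf_le_left (S d j a) * (E (n₀ + (j + 1)) a b - E j a b) by ring]
    exact Ideal.add_mem _ h1 (Ideal.mul_mem_left _ _ h2)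
  · induction j with
    | zero => exact hs₀' d
    | succ j ih =>
      intro a
      rw [← sub_add_sub_cancel (S d (j + 1) a) (S d j a)]
      exact Ideal.add_mem _ (idl_mono (Ideal.pow_le_self (Nat.succ_ne_zero j))
        ((hnext j _ (hS d j)).2 a)) (ih a)

end Groth.ParaLift82
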