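import Groth.Agent.Calg1.Completion
import Mathlib.RingTheory.Noetherian.Basic

/-!
# Algebraization of systems of modules given locally on a finite cover

An inverse system of modules killed by powers of `t`, saturated for the cover by the `g a`, whose bottom level
is locally a direct summand of a module without first cohomology, comes from a finite module.
-/

set_option autoImplicit false
universe u v w w'

namespace Groth.ParaLift82

variable {B : Type u} [CommRing B] {ι : Type v} [Finite ι] (g : ι → B)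

/-- A module equal to its module of sections on the union of the basic opens. -/
structure Sat (M : Type w) [AddCommGroup M] [Module B M] : Prop where
  sep : ∀ x : M, (∀ a, ∃ k : ℕ, g a ^ k • x = 0) → x = 0
  glue : ∀ (N : ℕ) (y : ι → M), (∀ a b, g b ^ N • y a = g a ^ N • y b) →
    ∃ (x : M) (K : ℕ), ∀ a, g a ^ (K + N) • x = g a ^ K • y a

variable {g}

theorem exists_uniform {M : Type w} [AddCommGroup M] [Module B M] {P : ι → M → Prop}
    (hP : ∀ a (k : ℕ) x, P a x → P a (g a ^ k • x)) {x : M} (h : ∀ a, ∃ k : ℕ, P a (g a ^ k • x)) :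
    ∃ N : ℕ, ∀ a, P a (g a ^ N • x) := by
  cases nonempty_fintype ι
  choose k hk using h
  refine ⟨Finset.univ.sup k, fun a => ?_⟩
  obtain ⟨m, hm⟩ := Nat.exists_eq_add_of_le (Finset.le_sup (f := k) (Finset.mem_univ a))
  rw [hm, add_comm, pow_add, mul_smul]
  exact hP a m _ (hk a)

theorem Sat.mem_range {M : Type w} {M' : Type w'} [AddCommGroup M] [Module B M] [AddCommGroup M'] [Module B M']
    (hM : Sat g M) (hM' : Sat g M') (f : M →ₗ[B] M') (hf : Function.Injective f) {y : M'}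
    (h : ∀ a, ∃ (k : ℕ) (x : M), f x = g a ^ k • y) : ∃ x, f x = y := by
  obtain ⟨N, hN⟩ := exists_uniform (P := fun _ v => ∃ x, f x = v)
    (fun a k v ⟨x, hx⟩ => ⟨g a ^ k • x, by rw [map_smul, hx]⟩)
    (x := y) (fun a => by obtain ⟨k, x, hx⟩ := h a; exact ⟨k, x, hx⟩)
  choose x hx using hN
  obtain ⟨z, K, hz⟩ := hM.glue N x fun a b => hf (by rw [map_smul, map_smul, hx, hx, smul_comm])
  refine ⟨z, sub_eq_zero.1 (hM'.sep _ fun a => ⟨K + N, ?_⟩)⟩
  rw [smul_sub, ← map_smul, hz, map_smul, hx, pow_add, mul_smul, sub_self]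

variable {t : B}

/-- An inverse system of saturated modules, flat level by level over the powers of `t` locally on the cover. -/
structure FormalSys (g : ι → B) (t : B) (M : ℕ → Type w) [∀ n, AddCommGroup (M n)] [∀ n, Module B (M n)] where
  ρ : ∀ n, M (n + 1) →ₗ[B] M n
  kill : ∀ n (x : M n), t ^ (n + 1) • x = 0
  sat : ∀ n, Sat g (M n)
  surj : ∀ n (a : ι) (x : M n), ∃ (k : ℕ) (y : M (n + 1)), ρ n y = g a ^ k • x
  ker : ∀ n (a : ι) (y : M (n + 1)), ρ n y = 0 → ∃ (k : ℕ) (z : M (n + 1)), g a ^ k • y = t ^ (n + 1) • z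
  flat : ∀ n (a : ι) (y : M n), t • y = 0 → ∃ (k : ℕ) (z : M n), g a ^ k • y = t ^ n • z

namespace FormalSys

variable {M : ℕ → Type w} [∀ n, AddCommGroup (M n)] [∀ n, Module B (M n)] (S : FormalSys g t M)

omit [Finite ι] in
theorem t_smul_eq_zero_of_ρ {n : ℕ} {z : M (n + 1)} (hz : S.ρ n z = 0) : t • z = 0 := by
  refine (S.sat (n + 1)).sep _ fun a => ?_
  obtain ⟨k, z', hk⟩ := S.ker n a z hz
  exact ⟨k, by rw [smul_comm, hk, ← mul_smul, ← pow_succ', S.kill]⟩

theorem exists_T (n : ℕ) (x : M n) :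
    ∃ y : M (n + 1), ∀ a (k : ℕ) (z : M (n + 1)), S.ρ n z = g a ^ k • x → g a ^ k • y = t • z := by
  cases nonempty_fintype ι
  obtain ⟨N, hN⟩ := exists_uniform (P := fun _ v => ∃ z, S.ρ n z = v)
    (fun a k v ⟨z, hz⟩ => ⟨g a ^ k • z, by rw [map_smul, hz]⟩)
    (x := x) (fun a => by obtain ⟨k, z, hz⟩ := S.surj n a x; exact ⟨k, z, hz⟩)
  choose z hz using hN
  have hwd : ∀ {z z' : M (n + 1)}, S.ρ n z = S.ρ n z' → t • z = t • z' := fun {z z'} h =>
    sub_eq_zero.1 (by rw [← smul_sub]; exact S.t_smul_eq_zero_of_ρ (by rw [map_sub, h, sub_self]))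
  obtain ⟨y, K, hy⟩ := (S.sat (n + 1)).glue N (fun a => t • z a) fun a b => by
    rw [smul_comm, smul_comm (g a ^ N)]
    exact hwd (by rw [map_smul, map_smul, hz, hz, smul_comm])
  refine ⟨y, fun a k z' hz' => sub_eq_zero.1 ((S.sat (n + 1)).sep _ fun b => ⟨K + N, ?_⟩)⟩
  rw [smul_sub, smul_comm, hy b, smul_comm (g a ^ k), smul_comm (g a ^ k) t, smul_comm (g b ^ (K + N)) t,
    smul_comm (g b ^ K) t, sub_eq_zero]
  refine hwd ?_
  simp only [map_smul, hz, hz', smul_smul]
  ring_nf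

/-- Multiplication by `t` from one level to the next. -/
noncomputable def T (n : ℕ) : M n →ₗ[B] M (n + 1) where
  toFun x := (S.exists_T n x).choose
  map_add' x x' := by
    refine sub_eq_zero.1 ((S.sat (n + 1)).sep _ fun a => ?_)
    obtain ⟨k, z, hz⟩ := S.surj n a x
    obtain ⟨k', z', hz'⟩ := S.surj n a x'
    have h1 := (S.exists_T n x).choose_spec a k z hz
    have h2 := (S.exists_T n x').choose_spec a k' z' hz'
    have h3 := (S.exists_T n (x + x')).choose_spec a (k + k') (g a ^ k' • z + g a ^ k • z') (by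
      rw [map_add, map_smul, map_smul, hz, hz', smul_add, smul_smul, smul_smul, ← pow_add, ← pow_add,
        add_comm k'])
    refine ⟨k + k', ?_⟩
    rw [smul_sub, h3, smul_add (g a ^ (k + k'))]
    simp only [pow_add, mul_smul]
    rw [h2, smul_comm (g a ^ k) (g a ^ k'), h1, smul_add, smul_comm t, smul_comm t, sub_self]
  map_smul' c x := by
    refine sub_eq_zero.1 ((S.sat (n + 1)).sep _ fun a => ?_)
    obtain ⟨k, z, hz⟩ := S.surj n a x
    have h1 := (S.exists_T n x).choose_spec a k z hz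
    have h3 := (S.exists_T n (c • x)).choose_spec a k (c • z) (by rw [map_smul, hz, smul_comm])
    exact ⟨k, by rw [smul_sub, h3, RingHom.id_apply, smul_comm (g a ^ k) c, h1, smul_comm, sub_self]⟩

theorem T_spec {n : ℕ} {a : ι} {k : ℕ} {x : M n} {z : M (n + 1)} (h : S.ρ n z = g a ^ k • x) :
    g a ^ k • S.T n x = t • z :=
  (S.exists_T n x).choose_spec a k z h

theorem T_ρ {n : ℕ} (z : M (n + 1)) : S.T n (S.ρ n z) = t • z := by
  refine sub_eq_zero.1 ((S.sat (n + 1)).sep _ fun a => ⟨0, ?_⟩)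
  rw [smul_sub, S.T_spec (z := z) (by simp), pow_zero, one_smul, sub_self]

theorem ρ_T {n : ℕ} (x : M n) : S.ρ n (S.T n x) = t • x := by
  refine sub_eq_zero.1 ((S.sat n).sep _ fun a => ?_)
  obtain ⟨k, z, hz⟩ := S.surj n a x
  exact ⟨k, by rw [smul_sub, ← map_smul, S.T_spec hz, map_smul, hz, smul_comm, sub_self]⟩

theorem T_injective (n : ℕ) : Function.Injective (S.T n) := by
  refine (injective_iff_map_eq_zero _).2 fun x hx => (S.sat n).sep _ fun a => ?_
  obtain ⟨k, z, hz⟩ := S.surj n a x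
  have h := S.T_spec hz
  rw [hx, smul_zero] at h
  obtain ⟨l, w, hw⟩ := S.flat (n + 1) a z h.symm
  exact ⟨l + k, by rw [pow_add, mul_smul, ← hz, ← map_smul, hw, map_smul, S.kill]⟩

/-- Iterated multiplication by `t` from the bottom level. -/
noncomputable def Tpow : ∀ n, M 0 →ₗ[B] M n
  | 0 => LinearMap.id
  | n + 1 => S.T n ∘ₗ Tpow n

theorem Tpow_succ (n : ℕ) (x : M 0) : S.Tpow (n + 1) x = S.T n (S.Tpow n x) := rfl

theorem Tpow_injective : ∀ n, Function.Injective (S.Tpow n)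
  | 0 => Function.injective_id
  | n + 1 => (S.T_injective n).comp (Tpow_injective n)

/-- The projection to the bottom level. -/
noncomputable def proj0 : ∀ n, M n →ₗ[B] M 0
  | 0 => LinearMap.id
  | n + 1 => proj0 n ∘ₗ S.ρ n

theorem Tpow_proj0 : ∀ (n : ℕ) (z : M n), S.Tpow n (S.proj0 n z) = t ^ n • z
  | 0, z => by simp [Tpow, proj0]
  | n + 1, z => by
    show S.T n (S.Tpow n (S.proj0 n (S.ρ n z))) = _
    rw [Tpow_proj0 n, map_smul, S.T_ρ, smul_smul, pow_succ]

theorem ρ_Tpow (n : ℕ) (x : M 0) : S.ρ n (S.Tpow (n + 1) x) = 0 := by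
  induction n with
  | zero => rw [Tpow_succ, S.ρ_T]; simpa using S.kill 0 (S.Tpow 0 x)
  | succ n ih => rw [Tpow_succ, S.ρ_T, ← S.T_ρ, ih, map_zero]

theorem exists_Tpow_of_ρ {n : ℕ} {y : M (n + 1)} (h : S.ρ n y = 0) : ∃ c, S.Tpow (n + 1) c = y := by
  refine Sat.mem_range (S.sat 0) (S.sat (n + 1)) _ (S.Tpow_injective _) fun a => ?_
  obtain ⟨k, z, hz⟩ := S.ker n a y h
  exact ⟨k, S.proj0 (n + 1) z, by rw [S.Tpow_proj0, hz]⟩

theorem exists_T_of_proj0 : ∀ {n : ℕ} {y : M (n + 1)}, S.proj0 (n + 1) y = 0 → ∃ x, S.T n x = y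
  | 0, y, h => by
    obtain ⟨c, hc⟩ := S.exists_Tpow_of_ρ (n := 0) h
    exact ⟨_, hc⟩
  | n + 1, y, h => by
    obtain ⟨x, hx⟩ := exists_T_of_proj0 (n := n) (y := S.ρ (n + 1) y) h
    refine Sat.mem_range (S.sat (n + 1)) (S.sat (n + 1 + 1)) _ (S.T_injective _) fun a => ?_
    obtain ⟨k, z, hz⟩ := S.surj n a x
    have h1 : S.ρ (n + 1) (g a ^ k • y - S.T (n + 1) z) = 0 := by
      rw [map_sub, map_smul, ← hx, S.T_spec hz, S.ρ_T, sub_self]
    obtain ⟨c, hc⟩ := S.exists_Tpow_of_ρ h1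
    exact ⟨k, z + S.Tpow (n + 1) c, by rw [map_add, ← Tpow_succ, hc, add_sub_cancel]⟩

section Obstruction

variable {W : Type w'} [AddCommGroup W] [Module B W] {Z : Type w'} [AddCommGroup Z] [Module B Z]
  (e : M 0 →ₗ[B] W) (R : W →ₗ[B] Z)

/-- `z` is an obstruction to lifting `x` to the next level. -/
def Wit (n : ℕ) (x : M n) (z : Z) : Prop :=
  ∃ (N : ℕ) (y : ι → M (n + 1)) (c : ι → ι → M 0) (w : ι → W),
    (∀ a, S.ρ n (y a) = g a ^ N • x) ∧
    (∀ a b, g b ^ N • y a - g a ^ N • y b = S.Tpow (n + 1) (c a b)) ∧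
    (∀ a b, e (c a b) = g b ^ N • w a - g a ^ N • w b) ∧ ∀ a, R (w a) = g a ^ N • z

variable {e R}

theorem Wit.scale {n : ℕ} {x : M n} {z : Z} {N : ℕ} (K : ℕ) {y : ι → M (n + 1)} {c : ι → ι → M 0} {w : ι → W}
    (h1 : ∀ a, S.ρ n (y a) = g a ^ N • x)
    (h2 : ∀ a b, g b ^ N • y a - g a ^ N • y b = S.Tpow (n + 1) (c a b))
    (h3 : ∀ a b, e (c a b) = g b ^ N • w a - g a ^ N • w b) (h4 : ∀ a, R (w a) = g a ^ N • z) :
    (∀ a, S.ρ n (g a ^ K • y a) = g a ^ (N + K) • x) ∧
    (∀ a b, g b ^ (N + K) • g a ^ K • y a - g a ^ (N + K) • g b ^ K • y b =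
      S.Tpow (n + 1) ((g a * g b) ^ K • c a b)) ∧
    (∀ a b, e ((g a * g b) ^ K • c a b) = g b ^ (N + K) • g a ^ K • w a - g a ^ (N + K) • g b ^ K • w b) ∧
    ∀ a, R (g a ^ K • w a) = g a ^ (N + K) • z := by
  refine ⟨fun a => ?_, fun a b => ?_, fun a b => ?_, fun a => ?_⟩
  · rw [map_smul, h1, smul_smul, ← pow_add, add_comm]
  · rw [map_smul, ← h2, smul_sub, smul_smul, smul_smul, smul_smul, smul_smul]
    ring_nf
  · rw [map_smul, h3, smul_sub, smul_smul, smul_smul, smul_smul, smul_smul]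
    ring_nf
  · rw [map_smul, h4, smul_smul, ← pow_add, add_comm]

theorem Wit.add {n : ℕ} {x x' : M n} {z z' : Z} (h : S.Wit e R n x z) (h' : S.Wit e R n x' z') :
    S.Wit e R n (x + x') (z + z') := by
  obtain ⟨N, y, c, w, a1, a2, a3, a4⟩ := h
  obtain ⟨N', y', c', w', b1, b2, b3, b4⟩ := h'
  obtain ⟨p1, p2, p3, p4⟩ := Wit.scale S N' a1 a2 a3 a4
  obtain ⟨q1, q2, q3, q4⟩ := Wit.scale S N b1 b2 b3 b4
  rw [add_comm N' N] at q1 q2 q3 q4
  refine ⟨N + N', fun a => g a ^ N' • y a + g a ^ N • y' a,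
    fun a b => (g a * g b) ^ N' • c a b + (g a * g b) ^ N • c' a b,
    fun a => g a ^ N' • w a + g a ^ N • w' a, fun a => ?_, fun a b => ?_, fun a b => ?_, fun a => ?_⟩
  · rw [map_add, p1, q1, smul_add]
  · rw [smul_add, smul_add, map_add, ← p2, ← q2]; abel
  · rw [map_add, p3, q3, smul_add, smul_add]; abel
  · rw [map_add, p4, q4, smul_add]

theorem Wit.smul {n : ℕ} {x : M n} {z : Z} (r : B) (h : S.Wit e R n x z) :
    S.Wit e R n (r • x) (r • z) := by
  obtain ⟨N, y, c, w, h1, h2, h3, h4⟩ := h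
  refine ⟨N, fun a => r • y a, fun a b => r • c a b, fun a => r • w a, fun a => ?_, fun a b => ?_, fun a b => ?_,
    fun a => ?_⟩
  · rw [map_smul, h1, smul_comm]
  · rw [map_smul, ← h2, smul_sub, smul_comm, smul_comm (g a ^ N)]
  · rw [map_smul, h3, smul_sub, smul_comm, smul_comm (g a ^ N) r]
  · rw [map_smul, h4, smul_comm]

theorem Wit.T {n : ℕ} {x : M n} {z : Z} (h : S.Wit e R n x z) : S.Wit e R (n + 1) (S.T n x) z := by
  obtain ⟨N, y, c, w, h1, h2, h3, h4⟩ := h
  refine ⟨N, fun a => S.T (n + 1) (y a), c, w, fun a => ?_, fun a b => ?_, h3, h4⟩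
  · rw [S.ρ_T, ← S.T_ρ, h1, map_smul]
  · rw [← map_smul, ← map_smul, ← map_sub, h2]; rfl

variable (e R) in
/-- The obstructions at level `n`. -/
def obstr (n : ℕ) : Submodule B Z where
  carrier := {z | ∃ x, S.Wit e R n x z}
  zero_mem' := ⟨0, 0, 0, 0, 0, by simp, by simp, by simp, by simp⟩
  add_mem' := fun ⟨_, h⟩ ⟨_, h'⟩ => ⟨_, Wit.add S h h'⟩
  smul_mem' := fun r _ ⟨_, h⟩ => ⟨_, Wit.smul S r h⟩

variable (g e R) in
/-- The hypotheses under which obstructions are finitely many: `e` is locally a direct summand with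
cokernel detected by `R`, and `W` has no first cohomology. -/
structure Tame : Prop where
  inj : Function.Injective e
  comp : ∀ x, R (e x) = 0
  exact : ∀ (a : ι) (w : W), R w = 0 → ∃ (K : ℕ) (u : M 0), e u = g a ^ K • w
  satZ : Sat g Z
  prim : ∀ (N : ℕ) (c : ι → ι → W), (∀ a b d, g d ^ N • c a b + g a ^ N • c b d = g b ^ N • c a d) →
    ∃ (K : ℕ) (w : ι → W), ∀ a b, (g a * g b) ^ K • c a b = g b ^ (N + K) • w a - g a ^ (N + K) • w b

theorem exists_wit (H : Tame g e R) (n : ℕ) (x : M n) : ∃ z, S.Wit e R n x z := by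
  cases nonempty_fintype ι
  obtain ⟨N, hN⟩ := exists_uniform (P := fun _ v => ∃ z, S.ρ n z = v)
    (fun a k v ⟨z, hz⟩ => ⟨g a ^ k • z, by rw [map_smul, hz]⟩)
    (x := x) (fun a => by obtain ⟨k, z, hz⟩ := S.surj n a x; exact ⟨k, z, hz⟩)
  choose y hy using hN
  choose c hc using fun a b => S.exists_Tpow_of_ρ (n := n) (y := g b ^ N • y a - g a ^ N • y b)
    (by rw [map_sub, map_smul, map_smul, hy, hy, smul_comm, sub_self])
  have hcoc : ∀ a b d, g d ^ N • e (c a b) + g a ^ N • e (c b d) = g b ^ N • e (c a d) := fun a b d => by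
    simp only [← map_smul, ← map_add]
    refine congrArg e (S.Tpow_injective (n + 1) ?_)
    simp only [map_add, map_smul, hc, smul_sub, smul_smul]
    rw [mul_comm (g b ^ N) (g d ^ N), mul_comm (g a ^ N) (g d ^ N), mul_comm (g b ^ N) (g a ^ N)]
    abel
  obtain ⟨K, w, hw⟩ := H.prim N (fun a b => e (c a b)) hcoc
  have h1 : ∀ a, S.ρ n (g a ^ K • y a) = g a ^ (N + K) • x := fun a => by
    rw [map_smul, hy, smul_smul, ← pow_add, add_comm]
  have h2 : ∀ a b, g b ^ (N + K) • g a ^ K • y a - g a ^ (N + K) • g b ^ K • y b =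
      S.Tpow (n + 1) ((g a * g b) ^ K • c a b) := fun a b => by
    rw [map_smul, hc, smul_sub, smul_smul, smul_smul, smul_smul, smul_smul]
    ring_nf
  have h3 : ∀ a b, e ((g a * g b) ^ K • c a b) = g b ^ (N + K) • w a - g a ^ (N + K) • w b := fun a b => by
    rw [map_smul, hw]
  obtain ⟨z, K', hz⟩ := H.satZ.glue (N + K) (fun a => R (w a)) fun a b => by
    have := congrArg R (h3 a b)
    rw [H.comp, map_sub, map_smul, map_smul, eq_comm, sub_eq_zero] at this
    exact this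
  refine ⟨z, N + K + K', fun a => g a ^ K' • g a ^ K • y a, fun a b => (g a * g b) ^ K' • (g a * g b) ^ K • c a b,
    fun a => g a ^ K' • w a, fun a => ?_, fun a b => ?_, fun a b => ?_, fun a => ?_⟩
  · rw [map_smul, h1, smul_smul, ← pow_add, add_comm]
  · rw [map_smul, ← h2]
    simp only [smul_sub, smul_smul]
    ring_nf
  · rw [map_smul, h3, smul_sub, smul_smul, smul_smul, smul_smul, smul_smul]
    ring_nf
  · rw [map_smul, ← hz, add_comm K']

theorem mem_range_of_wit_zero (H : Tame g e R) {n : ℕ} {x : M n} (h : S.Wit e R n x 0) :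
    ∃ y, S.ρ n y = x := by
  cases nonempty_fintype ι
  obtain ⟨N, y, c, w, h1, h2, h3, h4⟩ := h
  choose k u hu using fun a => H.exact a (w a) (by rw [h4, smul_zero])
  let K := Finset.univ.sup k
  have hex : ∀ a, ∃ u', e u' = g a ^ K • w a := fun a => by
    obtain ⟨m, hm⟩ := Nat.exists_eq_add_of_le (Finset.le_sup (f := k) (Finset.mem_univ a))
    exact ⟨g a ^ m • u a, by rw [map_smul, hu, smul_smul, ← pow_add, add_comm m, ← hm]⟩
  choose u' hu' using hex
  obtain ⟨p1, p2, p3, -⟩ := Wit.scale S K h1 h2 h3 h4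
  have hc : ∀ a b, (g a * g b) ^ K • c a b = g b ^ (N + K) • u' a - g a ^ (N + K) • u' b := fun a b =>
    H.inj (by rw [p3, map_sub, map_smul, map_smul, hu', hu'])
  obtain ⟨Y, K', hY⟩ := (S.sat (n + 1)).glue (N + K) (fun a => g a ^ K • y a - S.Tpow (n + 1) (u' a))
    fun a b => by
      rw [smul_sub, smul_sub, ← map_smul (S.Tpow (n + 1)), ← map_smul (S.Tpow (n + 1))]
      have h5 := p2 a b
      rw [hc, map_sub, sub_eq_sub_iff_add_eq_add] at h5
      rw [sub_eq_sub_iff_add_eq_add]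
      exact h5.trans (add_comm _ _)
  refine ⟨Y, sub_eq_zero.1 ((S.sat n).sep _ fun a => ⟨K' + (N + K), ?_⟩)⟩
  rw [smul_sub, ← map_smul, hY, map_smul, map_sub, p1, S.ρ_Tpow, sub_zero, smul_smul, ← pow_add, sub_self]

/-- From some level on, every element is a lift plus a multiple of `t`. -/
theorem exists_stable [IsNoetherian B Z] (H : Tame g e R) :
    ∃ n₀, ∀ n ≥ n₀, ∀ x : M (n + 1), ∃ (y : M (n + 1 + 1)) (x₀ : M n), x = S.ρ (n + 1) y + S.T n x₀ := by
  have hmono : Monotone (S.obstr e R) := monotone_nat_of_le_succ fun n z ⟨x, hx⟩ => ⟨_, Wit.T S hx⟩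
  obtain ⟨n₀, hn₀⟩ := monotone_stabilizes_iff_noetherian.2 inferInstance ⟨_, hmono⟩
  refine ⟨n₀, fun n hn x => ?_⟩
  obtain ⟨z, hz⟩ := S.exists_wit H (n + 1) x
  have hmem : z ∈ S.obstr e R n := by
    have h1 : S.obstr e R (n + 1) = S.obstr e R n := (hn₀ (n + 1) (by omega)).symm.trans (hn₀ n hn)
    exact h1 ▸ ⟨x, hz⟩
  obtain ⟨x₀, hx₀⟩ := hmem
  have h0 := Wit.add S hz (Wit.smul S (-1) (Wit.T S hx₀))
  simp only [neg_smul, one_smul, add_neg_cancel] at h0
  obtain ⟨y, hy⟩ := S.mem_range_of_wit_zero H h0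
  exact ⟨y, x₀, by rw [hy]; abel⟩

end Obstruction

/-- The projection from level `N` down to level `m`. -/
noncomputable def proj {m N : ℕ} (h : m ≤ N) : M N →ₗ[B] M m :=
  Nat.leRec (motive := fun N _ => M N →ₗ[B] M m) LinearMap.id (fun k _ f => f ∘ₗ S.ρ k) h

omit [Finite ι] in
theorem proj_self {m : ℕ} (x : M m) : S.proj (le_refl m) x = x := by simp [proj, Nat.leRec_self]

omit [Finite ι] in
theorem proj_succ {m N : ℕ} (h : m ≤ N) (x : M (N + 1)) :
    S.proj (h.trans N.le_succ) x = S.proj h (S.ρ N x) := by simp [proj, Nat.leRec_succ _ _ h]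

omit [Finite ι] in
theorem proj_step {m N : ℕ} (h : m + 1 ≤ N) (x : M N) :
    S.proj (m.le_succ.trans h) x = S.ρ m (S.proj h x) := by
  induction N, h using Nat.le_induction with
  | base => rw [S.proj_self, S.proj_succ le_rfl, S.proj_self]
  | succ N hN ih =>
    rw [S.proj_succ (m.le_succ.trans hN), ih, S.proj_succ hN]

theorem proj_T {m N : ℕ} (h : m ≤ N) (x : M N) :
    S.proj (Nat.succ_le_succ h) (S.T N x) = S.T m (S.proj h x) := by
  induction N, h using Nat.le_induction with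
  | base => rw [S.proj_self, S.proj_self]
  | succ N hN ih =>
    rw [S.proj_succ (Nat.succ_le_succ hN), S.proj_succ hN, S.ρ_T, ← S.T_ρ, ih]

omit [Finite ι] in
theorem proj_proj {l m N : ℕ} (h : l ≤ m) (h' : m ≤ N) (x : M N) :
    S.proj h (S.proj h' x) = S.proj (h.trans h') x := by
  induction N, h' using Nat.le_induction with
  | base => rw [S.proj_self]
  | succ N hN ih => rw [S.proj_succ hN, ih, ← S.proj_succ (h.trans hN)]

omit [Finite ι] in
theorem proj_eq_proj0 : ∀ {N : ℕ} (x : M N), S.proj (Nat.zero_le N) x = S.proj0 N x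
  | 0, x => S.proj_self x
  | N + 1, x => by
    rw [S.proj_succ (Nat.zero_le N), proj_eq_proj0]; rfl

/-- The inverse limit. -/
def lim : Submodule B (∀ n, M n) where
  carrier := {x | ∀ n, S.ρ n (x (n + 1)) = x n}
  zero_mem' := fun n => map_zero _
  add_mem' := fun hx hy n => by simp [hx n, hy n]
  smul_mem' := fun c x hx n => by simp [hx n]

/-- The projection of the limit to a level. -/
def limProj (n : ℕ) : S.lim →ₗ[B] M n := LinearMap.proj n ∘ₗ S.lim.subtype

omit [Finite ι] in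
theorem ρ_limProj (n : ℕ) (x : S.lim) : S.ρ n (S.limProj (n + 1) x) = S.limProj n x := x.2 n

theorem exists_eq_t_smul {x : S.lim} (h : S.limProj 0 x = 0) : ∃ z : S.lim, x = t • z := by
  have h0 : ∀ n, S.proj0 n (S.limProj n x) = 0 := fun n => by
    induction n with
    | zero => exact h
    | succ n ih => show S.proj0 n (S.ρ n _) = 0; rw [S.ρ_limProj]; exact ih
  choose z hz using fun n => S.exists_T_of_proj0 (h0 (n + 1))
  have hc : ∀ n, S.ρ n (z (n + 1)) = z n := fun n => S.T_injective n <| by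
    rw [S.T_ρ, ← S.ρ_T, hz, hz, S.ρ_limProj]
  refine ⟨⟨z, hc⟩, Subtype.ext (funext fun n => ?_)⟩
  show S.limProj n x = t • z n
  rw [← S.ρ_limProj, ← hz, S.ρ_T]

theorem t_smul_injective : Function.Injective fun x : S.lim => t • x := fun x y h => by
  refine Subtype.ext (funext fun n => S.T_injective n ?_)
  show S.T n (S.limProj n x) = S.T n (S.limProj n y)
  rw [← S.ρ_limProj, ← S.ρ_limProj n y, S.T_ρ, S.T_ρ, ← map_smul, ← map_smul]
  exact congrArg _ h

theorem exists_eq_pow_smul : ∀ (n : ℕ) {x : S.lim}, S.limProj n x = 0 → ∃ z : S.lim, x = t ^ (n + 1) • z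
  | 0, x, h => by simpa using S.exists_eq_t_smul h
  | n + 1, x, h => by
    obtain ⟨z, hz⟩ := S.exists_eq_t_smul (x := x) (by
      have : ∀ m, m ≤ n + 1 → S.limProj m x = 0 := fun m hm => by
        induction hm using Nat.decreasingInduction with
        | self => exact h
        | of_succ k _ ih => rw [← S.ρ_limProj, ih, map_zero]
      exact this 0 (Nat.zero_le _))
    have h1 : S.limProj n z = 0 := S.T_injective n (by
      rw [map_zero, ← S.ρ_limProj, S.T_ρ, ← map_smul, ← hz, h])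
    obtain ⟨v, hv⟩ := exists_eq_pow_smul n h1
    exact ⟨v, by rw [hz, hv, smul_smul, ← pow_succ']⟩

theorem stable_proj {n₀ : ℕ} (hs : ∀ n ≥ n₀, ∀ x : M (n + 1), ∃ (y : M (n + 1 + 1)) (x₀ : M n),
      x = S.ρ (n + 1) y + S.T n x₀) :
    ∀ (m N : ℕ) (h : m + n₀ < N) (x : M N),
      ∃ y : M (N + 1), S.proj (show m ≤ N by omega) (S.ρ N y) = S.proj (show m ≤ N by omega) x := by
  intro m
  induction m with
  | zero =>
    intro N h x
    obtain ⟨N, rfl⟩ : ∃ N', N = N' + 1 := ⟨N - 1, by omega⟩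
    obtain ⟨y, x₀, rfl⟩ := hs N (by omega) x
    refine ⟨y, ?_⟩
    rw [map_add, show S.proj (show 0 ≤ N + 1 by omega) (S.T N x₀) = 0 from ?_, add_zero]
    rw [S.proj_succ (Nat.zero_le N), S.ρ_T, map_smul]
    simpa using S.kill 0 (S.proj (Nat.zero_le N) x₀)
  | succ m ih =>
    intro N h x
    obtain ⟨N, rfl⟩ : ∃ N', N = N' + 1 := ⟨N - 1, by omega⟩
    obtain ⟨y, x₀, rfl⟩ := hs N (by omega) x
    obtain ⟨y₂, hy₂⟩ := ih N (by omega) x₀
    refine ⟨y + S.T (N + 1) y₂, ?_⟩
    rw [map_add, map_add, map_add, S.ρ_T, ← S.T_ρ, S.proj_T (show m ≤ N by omega), hy₂,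
      ← S.proj_T (show m ≤ N by omega)]

theorem exists_lim {n₀ : ℕ} (hs : ∀ n ≥ n₀, ∀ x : M (n + 1), ∃ (y : M (n + 1 + 1)) (x₀ : M n),
      x = S.ρ (n + 1) y + S.T n x₀) (m N : ℕ) (h : m + n₀ < N) (x : M N) :
    ∃ l : S.lim, S.limProj m l = S.proj (show m ≤ N by omega) x := by
  let step : ∀ j, M (N + j) → M (N + j + 1) := fun j v => (S.stable_proj hs (m + j) (N + j) (by omega) v).choose
  let xs : ∀ j, M (N + j) := fun j => Nat.rec (motive := fun j => M (N + j)) x step j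
  have hxs : ∀ j l (hl : l ≤ m + j), S.proj (show l ≤ N + j + 1 by omega) (xs (j + 1)) =
      S.proj (show l ≤ N + j by omega) (xs j) := fun j l hl => by
    have h1 := (S.stable_proj hs (m + j) (N + j) (by omega) (xs j)).choose_spec
    rw [S.proj_succ (show l ≤ N + j by omega), ← S.proj_proj hl (show m + j ≤ N + j by omega),
      ← S.proj_proj hl (show m + j ≤ N + j by omega) (xs j)]
    exact congrArg _ h1
  refine ⟨⟨fun l => S.proj (show l ≤ N + l by omega) (xs l), fun l => ?_⟩, ?_⟩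
  · rw [← S.proj_step]
    exact hxs l l (by omega)
  · show S.proj (show m ≤ N + m by omega) (xs m) = _
    have key : ∀ j, S.proj (show m ≤ N + j by omega) (xs j) = S.proj (show m ≤ N by omega) x := fun j => by
      induction j with
      | zero => rfl
      | succ j ih => rw [← ih]; exact hxs j m (by omega)
    exact key m

theorem lim_surj {n₀ : ℕ} (hs : ∀ n ≥ n₀, ∀ x : M (n + 1), ∃ (y : M (n + 1 + 1)) (x₀ : M n),
      x = S.ρ (n + 1) y + S.T n x₀) (m : ℕ) (a : ι) (x : M m) :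
    ∃ (k : ℕ) (l : S.lim), S.limProj m l = g a ^ k • x := by
  have key : ∀ N (h : m ≤ N), ∃ (k : ℕ) (v : M N), S.proj h v = g a ^ k • x := by
    intro N h
    induction N, h using Nat.le_induction with
    | base => exact ⟨0, x, by simp [S.proj_self]⟩
    | succ N hN ih =>
      obtain ⟨k, v, hv⟩ := ih
      obtain ⟨k', w, hw⟩ := S.surj N a v
      exact ⟨k' + k, w, by rw [S.proj_succ hN, hw, map_smul, hv, smul_smul, pow_add]⟩
  obtain ⟨k, v, hv⟩ := key (m + n₀ + 1) (by omega)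
  obtain ⟨l, hl⟩ := S.exists_lim hs m (m + n₀ + 1) (by omega) v
  exact ⟨k, l, hl.trans hv⟩

theorem finite_lim [IsNoetherianRing B] [IsAdicComplete (Ideal.span {t}) B] (h0 : Module.Finite B (M 0)) :
    Module.Finite B S.lim := by
  have hhaus : IsHausdorff (Ideal.span {t}) S.lim := ⟨fun x hx => Subtype.ext (funext fun n => ?_)⟩
  swap
  · have h1 := SModEq.zero.1 (hx (n + 1))
    rw [Ideal.span_singleton_pow, Submodule.ideal_span_singleton_smul,
      Submodule.mem_smul_pointwise_iff_exists] at h1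
    obtain ⟨z, -, rfl⟩ := h1
    show t ^ (n + 1) • S.limProj n z = 0
    exact S.kill n _
  refine Groth.Calg1.module_finite_of_isHausdorff (Ideal.span {t}) S.lim ?_
  have hker : LinearMap.ker (S.limProj 0) ≤ (Ideal.span {t} • ⊤ : Submodule B S.lim) := fun x hx => by
    obtain ⟨z, rfl⟩ := S.exists_eq_t_smul (LinearMap.mem_ker.1 hx)
    exact Submodule.smul_mem_smul (Ideal.mem_span_singleton_self t) Submodule.mem_top
  have : Module.Finite B (S.lim ⧸ LinearMap.ker (S.limProj 0)) :=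
    Module.Finite.equiv (S.limProj 0).quotKerEquivRange.symm
  exact Module.Finite.of_surjective (Submodule.factor hker) (Submodule.factor_surjective hker)

end FormalSys

end Groth.ParaLift82
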