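import Groth.Agent.ParaLift82.Cech

/-!
# Ideals with free associated graded module
-/

set_option autoImplicit false
universe u

open CategoryTheory AlgebraicGeometry TopologicalSpace Groth.PicAux

namespace Groth.ParaLift82

variable {B : Type u} [CommRing B]

/-- The powers of `J` have generators which are free modulo `J`. -/
def FreeGr (J : Ideal B) : Prop :=
  ∀ n : ℕ, ∃ (r : ℕ) (e : Fin r → B), Ideal.span (Set.range e) = J ^ n ∧
    ∀ c : Fin r → B, ∑ i, c i * e i ∈ J ^ (n + 1) → ∀ i, c i ∈ J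

variable {J : Ideal B} {n r : ℕ} {e : Fin r → B}

theorem sum_mem_pow_succ (he : Ideal.span (Set.range e) = J ^ n) {c : Fin r → B} (hc : ∀ i, c i ∈ J) :
    ∑ i, c i * e i ∈ J ^ (n + 1) :=
  Ideal.sum_mem _ fun i _ => by
    rw [pow_succ']; exact Ideal.mul_mem_mul (hc i) (he ▸ Ideal.subset_span ⟨i, rfl⟩)

theorem exists_coords (he : Ideal.span (Set.range e) = J ^ n) {O : (SpB B).Opens} {t : Γ(SpB B, O)}
    (ht : t ∈ idl (J ^ n) O) : ∃ c : Fin r → Γ(SpB B, O), t = ∑ i, c i * cst O (e i) := by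
  rw [idl, ← he, Ideal.map_span, ← Set.range_comp] at ht
  obtain ⟨c, hc⟩ := Ideal.mem_span_range_iff_exists_fun.1 ht
  exact ⟨c, hc.symm⟩

theorem coords_mem (hu : ∀ c : Fin r → B, ∑ i, c i * e i ∈ J ^ (n + 1) → ∀ i, c i ∈ J)
    {O : (SpB B).Opens} {g : B} (hO : O = D g) {c : Fin r → Γ(SpB B, O)}
    (hc : ∑ i, c i * cst O (e i) ∈ idl (J ^ (n + 1)) O) (i : Fin r) : c i ∈ idl J O := by
  obtain ⟨K, a, ha⟩ := exists_num_family (fun _ : Fin r => O) (fun _ => g) (fun _ => hO) c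
  obtain ⟨p, hp⟩ := (cst_mem_iff hO (J ^ (n + 1)) (∑ i, a i * e i)).1 (by
    rw [map_sum]
    convert Ideal.mul_mem_left _ (cst O (g ^ K)) hc using 1
    rw [Finset.mul_sum]
    exact Finset.sum_congr rfl fun j _ => by rw [map_mul, ← ha, mul_assoc])
  refine (mul_cst_mem_iff hO.le (p + K)).1 ?_
  rw [pow_add, map_mul, mul_assoc, ha, ← map_mul]
  refine Ideal.mem_map_of_mem _ (hu (fun j => g ^ p * a j) ?_ i)
  simpa [Finset.mul_sum, mul_assoc] using hp

theorem regTriple_pow {x y w : B} (hJ : FreeGr J) (h : RegTriple J x y w) :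
    ∀ n, RegTriple (J ^ (n + 1)) x y w := by
  intro n
  induction n with
  | zero => rwa [zero_add, pow_one]
  | succ n ih =>
    obtain ⟨r, e, he, hu⟩ := hJ (n + 1)
    have hle : J ^ (n + 2) ≤ J ^ (n + 1) := Ideal.pow_le_pow_right (Nat.le_succ _)
    have hcoord : ∀ {z : B}, z ∈ J ^ (n + 1) → ∃ c : Fin r → B, z = ∑ i, c i * e i := fun {z} hz => by
      obtain ⟨c, hc⟩ := Ideal.mem_span_range_iff_exists_fun.1 (he.symm ▸ hz)
      exact ⟨c, hc.symm⟩
    have hy' : ∀ z, y * z ∈ J ^ (n + 2) ⊔ Ideal.span {x} → z ∈ J ^ (n + 2) ⊔ Ideal.span {x} := by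
      intro z hz
      obtain ⟨p, hp⟩ := mem_sup_span.1 hz
      obtain ⟨z', hz'⟩ := mem_sup_span.1 (ih.pair.right z (mem_sup_span.2 ⟨p, hle hp⟩))
      obtain ⟨c, hc⟩ := hcoord hz'
      obtain ⟨d, hd⟩ := hcoord (ih.pair.left (p - y * z') (by
        rw [show x * (p - y * z') = y * (z - x * z') - (y * z - x * p) by ring]
        exact Ideal.sub_mem _ (Ideal.mul_mem_left _ _ hz') (hle hp)))
      have hcd := hu (fun i => y * c i - x * d i) (by
        simp only [sub_mul, Finset.sum_sub_distrib, mul_assoc, ← Finset.mul_sum, ← hc, ← hd]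
        rwa [show y * (z - x * z') - x * (p - y * z') = y * z - x * p by ring])
      choose f hf using fun i => mem_sup_span.1 (h.pair.right (c i) (mem_sup_span.2 ⟨d i, hcd i⟩))
      refine mem_sup_span.2 ⟨z' + ∑ i, f i * e i, ?_⟩
      have : z - x * (z' + ∑ i, f i * e i) = ∑ i, (c i - x * f i) * e i := by
        simp only [sub_mul, Finset.sum_sub_distrib, mul_assoc, ← Finset.mul_sum, ← hc]
        ring
      rw [this]
      exact sum_mem_pow_succ he hf
    refine ⟨⟨fun z hz => ?_, hy'⟩, fun z hz => ?_⟩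
    · obtain ⟨c, rfl⟩ := hcoord (ih.pair.left z (hle hz))
      exact sum_mem_pow_succ he fun i => h.pair.left _ (hu (fun i => x * c i)
        (by simpa [Finset.mul_sum, mul_assoc] using hz) i)
    · obtain ⟨q, hq⟩ := mem_sup_span.1 hz
      obtain ⟨p, hp⟩ := mem_sup_span.1 hq
      obtain ⟨z₁, hz₁⟩ := mem_sup_span.1
        (ih.third z (mem_sup_span.2 ⟨q, mem_sup_span.2 ⟨p, hle hp⟩⟩))
      obtain ⟨z₂, hz₂⟩ := mem_sup_span.1 hz₁
      obtain ⟨c, hc⟩ := hcoord hz₂
      have hpq : x * (p - w * z₂) + y * (q - w * z₁) ∈ J ^ (n + 1) := by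
        rw [show x * (p - w * z₂) + y * (q - w * z₁) =
          w * (z - y * z₁ - x * z₂) - (w * z - y * q - x * p) by ring]
        exact Ideal.sub_mem _ (Ideal.mul_mem_left _ _ hz₂) (hle hp)
      obtain ⟨k, hk⟩ := mem_sup_span.1 (ih.pair.right (q - w * z₁) (mem_sup_span.2
        ⟨-(p - w * z₂), by
          rwa [show y * (q - w * z₁) - x * -(p - w * z₂) = x * (p - w * z₂) + y * (q - w * z₁) by ring]⟩))
      obtain ⟨dq, hdq⟩ := hcoord hk
      obtain ⟨dp, hdp⟩ := hcoord (ih.pair.left (p - w * z₂ + y * k) (by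
        rw [show x * (p - w * z₂ + y * k) =
          (x * (p - w * z₂) + y * (q - w * z₁)) - y * (q - w * z₁ - x * k) by ring]
        exact Ideal.sub_mem _ hpq (Ideal.mul_mem_left _ _ hk)))
      have hcd := hu (fun i => w * c i - y * dq i - x * dp i) (by
        simp only [sub_mul, Finset.sum_sub_distrib, mul_assoc, ← Finset.mul_sum, ← hc, ← hdq, ← hdp]
        rwa [show w * (z - y * z₁ - x * z₂) - y * (q - w * z₁ - x * k) - x * (p - w * z₂ + y * k) =
          w * z - y * q - x * p by ring])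
      choose fy hfy using fun i => mem_sup_span.1
        (h.third (c i) (mem_sup_span.2 ⟨dq i, mem_sup_span.2 ⟨dp i, hcd i⟩⟩))
      choose fx hfx using fun i => mem_sup_span.1 (hfy i)
      refine mem_sup_span.2 ⟨z₁ + ∑ i, fy i * e i, mem_sup_span.2 ⟨z₂ + ∑ i, fx i * e i, ?_⟩⟩
      have : z - y * (z₁ + ∑ i, fy i * e i) - x * (z₂ + ∑ i, fx i * e i) =
          ∑ i, (c i - y * fy i - x * fx i) * e i := by
        simp only [sub_mul, Finset.sum_sub_distrib, mul_assoc, ← Finset.mul_sum, ← hc]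
        ring
      rw [this]
      exact sum_mem_pow_succ he hfx

/-- A regular triple modulo `J` is regular on the ring. -/
theorem regTriple_bot [IsNoetherianRing B] [IsLocalRing B] {x y w : B} (hJ : FreeGr J) (hJt : J ≠ ⊤)
    (hxm : x ∈ IsLocalRing.maximalIdeal B) (hym : y ∈ IsLocalRing.maximalIdeal B)
    (h : RegTriple J x y w) : RegTriple (⊥ : Ideal B) x y w := by
  have key : ∀ (K : Ideal B), K ≠ ⊤ → ∀ z, (∀ n, z ∈ J ^ (n + 1) ⊔ K) → z ∈ K := fun K hK z hz => by
    have : Nontrivial (B ⧸ K) := Ideal.Quotient.nontrivial_iff.2 hK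
    have hmem : (Ideal.Quotient.mk K z) ∈ (⨅ i : ℕ, J ^ i • ⊤ : Submodule B (B ⧸ K)) := by
      refine (Submodule.mem_iInf _).2 fun i => ?_
      obtain ⟨a, ha, b, hb, e⟩ := Submodule.mem_sup.1 (hz i)
      rw [← e, map_add, Ideal.Quotient.eq_zero_iff_mem.2 hb, add_zero,
        show Ideal.Quotient.mk K a = a • (1 : B ⧸ K) by
          rw [Algebra.smul_def, mul_one, Ideal.Quotient.algebraMap_eq]]
      exact Submodule.smul_mem_smul (Ideal.pow_le_pow_right (Nat.le_succ i) ha) trivial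
    rw [Ideal.iInf_pow_smul_eq_bot_of_le_jacobson J
      ((IsLocalRing.le_maximalIdeal hJt).trans (IsLocalRing.maximalIdeal_le_jacobson _)),
      Submodule.mem_bot] at hmem
    exact Ideal.Quotient.eq_zero_iff_mem.1 hmem
  have hx1 : Ideal.span {x} ≠ ⊤ := fun e =>
    (IsLocalRing.maximalIdeal.isMaximal B).ne_top (top_le_iff.1
      (e ▸ (Ideal.span_singleton_le_iff_mem _).2 hxm))
  have hxy1 : Ideal.span {x} ⊔ Ideal.span {y} ≠ ⊤ := fun e =>
    (IsLocalRing.maximalIdeal.isMaximal B).ne_top (top_le_iff.1 (e ▸ sup_le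
      ((Ideal.span_singleton_le_iff_mem _).2 hxm) ((Ideal.span_singleton_le_iff_mem _).2 hym)))
  have h' := regTriple_pow hJ h
  refine ⟨⟨fun z hz => ?_, fun z hz => ?_⟩, fun z hz => ?_⟩
  · exact key ⊥ bot_ne_top z fun n => by
      rw [sup_bot_eq]
      exact (h' n).pair.left z (by rw [Ideal.mem_bot.1 hz]; exact zero_mem _)
  · rw [bot_sup_eq] at hz ⊢
    exact key _ hx1 z fun n => (h' n).pair.right z (Submodule.mem_sup_right hz)
  · rw [bot_sup_eq] at hz ⊢
    refine key _ hxy1 z fun n => ?_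
    rw [← sup_assoc]
    exact (h' n).third z (by rw [sup_assoc]; exact Submodule.mem_sup_right hz)

end Groth.ParaLift82
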