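import Groth.Agent.LocCohBase.Torsion

/-!
# Transition maps on local cohomology of `B/t^n`, up to annihilators

If `c t^N` kills `H^2` and `H^3` of `B` then `c^2 t^N` kills the map `H^2(B/t^(l+k+1)) → H^2(B/t^(l+1))` for
`k ≥ N`; with an annihilator `b` of `H^1(B)`, `c b` kills the same map in degree one.
-/

set_option autoImplicit false
universe u

open CategoryTheory

namespace Groth.ParaLift82

open Groth.LocCohBase (HH' δ)

variable {B : Type u} [CommRing B] {I : Ideal B}

theorem δ_natural {S S' : ShortComplex (ModuleCat.{u} B)} (hS : S.ShortExact) (hS' : S'.ShortExact)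
    (φ : S ⟶ S') (i : ℕ) (x : HH' I i S.X₃) :
    δ hS' i ((localCohomology I i).map φ.τ₃ x) = (localCohomology I (i + 1)).map φ.τ₁ (δ hS i x) := by
  obtain ⟨n, α, rfl⟩ := LocCohBase.exists_rep i S.X₃ x
  rw [LocCohBase.ι_naturality, LocCohBase.δ_ι, LocCohBase.δ_ι, LocCohBase.ι_naturality]
  refine congrArg _ ?_
  rw [Abelian.Ext.comp_assoc (a₁₂ := i) (a₂₃ := 1) _ _ _ (add_zero i) (zero_add 1) (by lia),
    ← ShortComplex.ShortExact.extClass_naturality hS hS' φ,
    Abelian.Ext.comp_assoc (a₁₂ := i + 1) (a₂₃ := 1) _ _ _ rfl (add_zero 1) (by lia)]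

theorem map_add_apply (i : ℕ) {M N : ModuleCat.{u} B} (f f' : M ⟶ N) (x : HH' I i M) :
    (localCohomology I i).map (f + f') x = (localCohomology I i).map f x + (localCohomology I i).map f' x := by
  obtain ⟨n, α, rfl⟩ := LocCohBase.exists_rep i M x
  rw [LocCohBase.ι_naturality, LocCohBase.ι_naturality, LocCohBase.ι_naturality, ← map_add,
    Abelian.Ext.mk₀_add, Abelian.Ext.comp_add]

theorem map_zero_apply (i : ℕ) {M N : ModuleCat.{u} B} (x : HH' I i M) :
    (localCohomology I i).map (0 : M ⟶ N) x = 0 := by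
  obtain ⟨n, α, rfl⟩ := LocCohBase.exists_rep i M x
  rw [LocCohBase.ι_naturality, Abelian.Ext.mk₀_zero, Abelian.Ext.comp_zero, map_zero]

theorem map_sum_apply {κ : Type*} (s : Finset κ) (i : ℕ) {M N : ModuleCat.{u} B} (f : κ → (M ⟶ N))
    (x : HH' I i M) :
    (localCohomology I i).map (∑ j ∈ s, f j) x = ∑ j ∈ s, (localCohomology I i).map (f j) x := by
  classical
  induction s using Finset.induction with
  | empty => simp only [Finset.sum_empty]; exact map_zero_apply i x
  | @insert a s ha ih => rw [Finset.sum_insert ha, Finset.sum_insert ha, map_add_apply, ih]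

theorem map_smul_id_apply (i : ℕ) (M : ModuleCat.{u} B) (r : B) (x : HH' I i M) :
    (localCohomology I i).map (r • 𝟙 M) x = r • x :=
  (LocCohBase.smul_eq_map i M r x).symm

/-- Composition of induced maps. -/
theorem map_map_apply (i : ℕ) {M N P : ModuleCat.{u} B} (f : M ⟶ N) (f' : N ⟶ P) (x : HH' I i M) :
    (localCohomology I i).map f' ((localCohomology I i).map f x) = (localCohomology I i).map (f ≫ f') x := by
  rw [Functor.map_comp]; rfl

variable (t : B)

/-- `0 → B → B → B/t^(m+1) → 0`. -/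
noncomputable abbrev powQuotSeq (m : ℕ) : ShortComplex (ModuleCat.{u} B) :=
  ShortComplex.mk (ModuleCat.ofHom (LinearMap.lsmul B B (t ^ (m + 1))))
    (ModuleCat.ofHom (Ideal.span {t ^ (m + 1)}).mkQ) (by
      ext
      exact (Submodule.Quotient.mk_eq_zero _).2 (Ideal.mul_mem_right _ _ (Ideal.mem_span_singleton_self _)))

variable {t}

theorem powQuotSeq_shortExact (ht : IsSMulRegular B t) (m : ℕ) : (powQuotSeq t m).ShortExact where
  exact := (ShortComplex.moduleCat_exact_iff _).2 fun x hx => by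
    obtain ⟨c, hc⟩ := Ideal.mem_span_singleton'.1 ((Submodule.Quotient.mk_eq_zero _).1 hx)
    exact ⟨c, (mul_comm _ _).trans hc⟩
  mono_f := (ModuleCat.mono_iff_injective _).2 (ht.pow (m + 1))
  epi_g := (ModuleCat.epi_iff_surjective _).2 (Submodule.mkQ_surjective _)

/-- The reduction of levels. -/
noncomputable abbrev levelRed (t : B) (l k : ℕ) :
    ModuleCat.of B (B ⧸ Ideal.span {t ^ (l + k + 1)}) ⟶ ModuleCat.of B (B ⧸ Ideal.span {t ^ (l + 1)}) :=
  ModuleCat.ofHom (Submodule.factor (Ideal.span_singleton_le_span_singleton.2 (pow_dvd_pow t (by omega))))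

/-- The morphism of sequences over `levelRed`. -/
noncomputable def powQuotHom (t : B) (l k : ℕ) : powQuotSeq t (l + k) ⟶ powQuotSeq t l where
  τ₁ := t ^ k • 𝟙 _
  τ₂ := 𝟙 _
  τ₃ := levelRed t l k
  comm₁₂ := by
    ext
    show t ^ (l + 1) • t ^ k • (1 : B) = t ^ (l + k + 1) • (1 : B)
    rw [smul_smul, ← pow_add]
    congr 2
    omega
  comm₂₃ := by ext; rfl

theorem map_levelRed_δ (ht : IsSMulRegular B t) (l k i : ℕ)
    (x : HH' I i (ModuleCat.of B (B ⧸ Ideal.span {t ^ (l + k + 1)}))) :
    δ (powQuotSeq_shortExact ht l) i ((localCohomology I i).map (levelRed t l k) x) =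
      t ^ k • δ (powQuotSeq_shortExact ht (l + k)) i x := by
  rw [← map_smul_id_apply]
  exact δ_natural (powQuotSeq_shortExact ht (l + k)) (powQuotSeq_shortExact ht l) (powQuotHom t l k) i x

/-- The reduction is killed, up to annihilators of the two neighbouring degrees of `B`. -/
theorem smul_map_levelRed_eq_zero (ht : IsSMulRegular B t) {N l k i : ℕ} (hk : N ≤ k) {c a : B}
    (hc : ∀ x : HH' I (i + 1) (ModuleCat.of B B), (c * t ^ N) • x = 0)
    (ha : ∀ x : HH' I i (ModuleCat.of B B), a • x = 0)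
    (x : HH' I i (ModuleCat.of B (B ⧸ Ideal.span {t ^ (l + k + 1)}))) :
    (c * a) • (localCohomology I i).map (levelRed t l k) x = 0 := by
  obtain ⟨y, hy⟩ : c • (localCohomology I i).map (levelRed t l k) x ∈
      Set.range ((localCohomology I i).map (powQuotSeq t l).g) := by
    refine (LocCohBase.exact₃ (powQuotSeq_shortExact ht l) i _).1 ?_
    have he : c * t ^ k = t ^ (k - N) * (c * t ^ N) := by
      rw [mul_left_comm, ← pow_add, Nat.sub_add_cancel hk]
    rw [map_smul, map_levelRed_δ ht, smul_smul, he, mul_smul]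
    exact (congrArg _ (hc _)).trans (smul_zero _)
  rw [mul_comm, mul_smul, ← hy, ← map_smul, ha, map_zero]

end Groth.ParaLift82
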