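import Groth.Agent.ParaLift82.TfEmbed
import Groth.Agent.ParaLift82.KilledTrans
import Groth.Agent.ParaLift82.FormalSys

/-!
# Saturated modules in local cohomology; obstructions to lifting

A saturated module has no `H^0` and no `H^1`.  For `K → M → N` exact with saturated `M`, `N` and locally
surjective second map, the obstruction to lifting an element of `N` is a linear map to `H^2(K)`.
-/

set_option autoImplicit false
universe u

open CategoryTheory

namespace Groth.ParaLift82

open Groth.LocCohBase (HH' δ h0Equiv h0Map subSeq)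

variable {B : Type u} [CommRing B] [IsNoetherianRing B] {ι : Type u} [Finite ι] {g : ι → B}

theorem subsingleton_H_zero_of_sat {M : Type u} [AddCommGroup M] [Module B M] (hM : Sat g M) :
    Subsingleton (HH' (Ig g) 0 (ModuleCat.of B M)) :=
  (LocCohBase.subsingleton_H_zero_iff (Ig g) M).2 (torsion_eq_bot hM.sep)

theorem subsingleton_H_one_of_sat {M : Type u} [AddCommGroup M] [Module B M] (hM : Sat g M) :
    Subsingleton (HH' (Ig g) 1 (ModuleCat.of B M)) := by
  obtain ⟨E, _, _, e, he, hE, hEsep⟩ := exists_tf_embedding g M (torsion_eq_bot hM.sep)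
  have : Injective (ModuleCat.of B E) := Module.injective_object_of_injective_module B E
  have hS := LocCohBase.subSeq_shortExact (LinearMap.range e)
  have h3 : Subsingleton (HH' (Ig g) 0 (subSeq (LinearMap.range e)).X₃) := by
    refine (LocCohBase.subsingleton_H_zero_iff (Ig g) (E ⧸ LinearMap.range e)).2 (torsion_eq_bot fun x hx => ?_)
    obtain ⟨x, rfl⟩ := Submodule.mkQ_surjective _ x
    refine (Submodule.Quotient.mk_eq_zero _).2 ?_
    refine Sat.mem_range hM (sat_of_injective hE hEsep) e he fun a => ?_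
    obtain ⟨k, hk⟩ := hx a
    rw [← map_smul] at hk
    obtain ⟨m, hm⟩ := (Submodule.Quotient.mk_eq_zero _).1 hk
    exact ⟨k, m, hm⟩
  have h2 : Subsingleton (HH' (Ig g) 1 (subSeq (LinearMap.range e)).X₂) :=
    LocCohBase.subsingleton_succ_of_injective 0 (ModuleCat.of B E)
  have := LocCohBase.subsingleton_X₁ hS 0 h3 h2
  let ew : ModuleCat.of B M ≅ ModuleCat.of B (LinearMap.range e) := (LinearEquiv.ofInjective e he).toModuleIso
  exact ((localCohomology (Ig g) 1).mapIso ew).toLinearEquiv.toEquiv.subsingleton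

/-- The class of a torsion element in `H^0`. -/
noncomputable def torClass {M : Type u} [AddCommGroup M] [Module B M] (g : ι → B)
    (h : ∀ x : M, ∀ a, ∃ k : ℕ, g a ^ k • x = 0) : M →ₗ[B] HH' (Ig g) 0 (ModuleCat.of B M) :=
  (h0Equiv (Ig g) M).symm.toLinearMap ∘ₗ LinearMap.id.codRestrict _ fun x => mem_torsion_iff.2 (h x)

theorem h0Map_torClass {M : Type u} [AddCommGroup M] [Module B M]
    (h : ∀ x : M, ∀ a, ∃ k : ℕ, g a ^ k • x = 0) (x : M) :
    h0Map (Ig g) (ModuleCat.of B M) (torClass g h x) = x :=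
  congrArg Subtype.val ((h0Equiv (Ig g) M).apply_symm_apply ⟨x, mem_torsion_iff.2 (h x)⟩)

theorem torClass_natural {M M' : Type u} [AddCommGroup M] [Module B M] [AddCommGroup M'] [Module B M']
    (h : ∀ x : M, ∀ a, ∃ k : ℕ, g a ^ k • x = 0) (h' : ∀ x : M', ∀ a, ∃ k : ℕ, g a ^ k • x = 0)
    (φ : M →ₗ[B] M') (x : M) :
    torClass g h' (φ x) = (localCohomology (Ig g) 0).map (ModuleCat.ofHom φ) (torClass g h x) := by
  refine LocCohBase.h0Map_injective (Ig g) _ ?_
  rw [LocCohBase.h0Map_natural, h0Map_torClass, h0Map_torClass]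
  rfl

section Obstruction

variable {K M N : Type u} [AddCommGroup K] [Module B K] [AddCommGroup M] [Module B M] [AddCommGroup N] [Module B N]
variable (g) in
/-- The data for an obstruction map. -/
structure LiftData (i : K →ₗ[B] M) (p : M →ₗ[B] N) : Prop where
  inj : Function.Injective i
  exact : Function.Exact i p
  locSurj : ∀ (x : N) (a : ι), ∃ k : ℕ, g a ^ k • x ∈ LinearMap.range p
  satM : Sat g M
  satN : Sat g N

variable {i : K →ₗ[B] M} {p : M →ₗ[B] N}

namespace LiftData

variable (D : LiftData g i p)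

/-- The sequence `K → M → range p`. -/
noncomputable abbrev kerSeq : ShortComplex (ModuleCat.{u} B) :=
  ShortComplex.mk (ModuleCat.ofHom i) (ModuleCat.ofHom p.rangeRestrict) (by
    ext x; exact D.exact.apply_apply_eq_zero x)

theorem kerSeq_shortExact : D.kerSeq.ShortExact where
  exact := (ShortComplex.moduleCat_exact_iff _).2 fun x hx => (D.exact x).1 (congrArg Subtype.val hx)
  mono_f := (ModuleCat.mono_iff_injective _).2 D.inj
  epi_g := (ModuleCat.epi_iff_surjective _).2 p.surjective_rangeRestrict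

include D in
theorem torsion_coker (x : N ⧸ LinearMap.range p) (a : ι) : ∃ k : ℕ, g a ^ k • x = 0 := by
  obtain ⟨x, rfl⟩ := Submodule.mkQ_surjective _ x
  obtain ⟨k, hk⟩ := D.locSurj x a
  exact ⟨k, by rw [← map_smul]; exact (Submodule.Quotient.mk_eq_zero _).2 hk⟩

/-- The obstruction to lifting. -/
noncomputable def obst : N →ₗ[B] HH' (Ig g) 2 (ModuleCat.of B K) :=
  δ D.kerSeq_shortExact 1 ∘ₗ δ (LocCohBase.subSeq_shortExact (LinearMap.range p)) 0 ∘ₗ
    torClass g D.torsion_coker ∘ₗ (LinearMap.range p).mkQ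

theorem obst_eq_zero_iff (x : N) : D.obst x = 0 ↔ x ∈ LinearMap.range p := by
  have hS := LocCohBase.subSeq_shortExact (LinearMap.range p)
  have hM : Subsingleton (HH' (Ig g) 1 D.kerSeq.X₂) := subsingleton_H_one_of_sat D.satM
  have hN : Subsingleton (HH' (Ig g) 0 (subSeq (LinearMap.range p)).X₂) := subsingleton_H_zero_of_sat D.satN
  have h1 : Function.Injective (δ (I := Ig g) D.kerSeq_shortExact 1) :=
    (injective_iff_map_eq_zero _).2 fun z hz => by
      obtain ⟨y, rfl⟩ := (LocCohBase.exact₃ D.kerSeq_shortExact 1 z).1 hz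
      rw [Subsingleton.elim y 0, map_zero]
  have h2 : Function.Injective (δ (I := Ig g) hS 0) := (injective_iff_map_eq_zero _).2 fun z hz => by
    obtain ⟨y, rfl⟩ := (LocCohBase.exact₃ hS 0 z).1 hz
    rw [Subsingleton.elim y 0, map_zero]
  have h3 : Function.Injective (torClass g D.torsion_coker) := fun y y' e => by
    rw [← h0Map_torClass D.torsion_coker y, e, h0Map_torClass]
  rw [show D.obst x = δ D.kerSeq_shortExact 1 (δ hS 0 (torClass g D.torsion_coker ((LinearMap.range p).mkQ x))) from rfl,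
    map_eq_zero_iff _ h1, map_eq_zero_iff _ h2, map_eq_zero_iff _ h3]
  exact Submodule.Quotient.mk_eq_zero _

variable {K' M' N' : Type u} [AddCommGroup K'] [Module B K'] [AddCommGroup M'] [Module B M'] [AddCommGroup N']
  [Module B N'] {i' : K' →ₗ[B] M'} {p' : M' →ₗ[B] N'}

theorem obst_natural (D' : LiftData g i' p') (φK : K →ₗ[B] K') (φM : M →ₗ[B] M') (φN : N →ₗ[B] N')
    (hi : ∀ z, φM (i z) = i' (φK z)) (hp : ∀ z, φN (p z) = p' (φM z)) (x : N) :
    D'.obst (φN x) = (localCohomology (Ig g) 2).map (ModuleCat.ofHom φK) (D.obst x) := by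
  have hle : ∀ y ∈ LinearMap.range p, φN y ∈ LinearMap.range p' := by
    rintro _ ⟨z, rfl⟩; exact ⟨φM z, (hp z).symm⟩
  let φR : LinearMap.range p →ₗ[B] LinearMap.range p' := φN.restrict hle
  let φQ : (N ⧸ LinearMap.range p) →ₗ[B] (N' ⧸ LinearMap.range p') := Submodule.mapQ _ _ φN hle
  let s₁ : D.kerSeq ⟶ D'.kerSeq :=
    { τ₁ := ModuleCat.ofHom φK, τ₂ := ModuleCat.ofHom φM, τ₃ := ModuleCat.ofHom φR
      comm₁₂ := by ext z; exact (hi z).symm
      comm₂₃ := by ext z; exact (hp z).symm }
  let s₂ : subSeq (LinearMap.range p) ⟶ subSeq (LinearMap.range p') :=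
    { τ₁ := ModuleCat.ofHom φR, τ₂ := ModuleCat.ofHom φN, τ₃ := ModuleCat.ofHom φQ
      comm₁₂ := by ext z; rfl
      comm₂₃ := by ext z; rfl }
  show δ D'.kerSeq_shortExact 1 (δ (LocCohBase.subSeq_shortExact (LinearMap.range p')) 0 (torClass g D'.torsion_coker (φQ ((LinearMap.range p).mkQ x)))) = _
  rw [torClass_natural D.torsion_coker D'.torsion_coker φQ]
  exact (congrArg _ (δ_natural _ _ s₂ 0 _)).trans (δ_natural _ _ s₁ 1 _)

end LiftData

end Obstruction

/-- A submodule with torsion quotient surjects on `H^(j+1)`. -/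
theorem surjective_map_subtype {M : Type u} [AddCommGroup M] [Module B M] (L : Submodule B M)
    (h : ∀ (x : M) (a : ι), ∃ k : ℕ, g a ^ k • x ∈ L) (j : ℕ) :
    Function.Surjective ((localCohomology (Ig g) (j + 1)).map (ModuleCat.ofHom L.subtype)) := by
  intro x
  have := LocCohBase.subsingleton_succ_of_isPowerTorsion (Ig g) j (M ⧸ L) fun y => mem_torsion_iff.2 fun a => by
    obtain ⟨y, rfl⟩ := Submodule.mkQ_surjective _ y
    obtain ⟨k, hk⟩ := h y a
    exact ⟨k, by rw [← map_smul]; exact (Submodule.Quotient.mk_eq_zero _).2 hk⟩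
  exact (LocCohBase.exact₂ (LocCohBase.subSeq_shortExact L) (j + 1) x).1 (Subsingleton.elim _ _)

end Groth.ParaLift82
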