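import Groth.Agent.ParaLift82.CoverLim
import Groth.Agent.ParaLift82.SatH
import Groth.Agent.CohDev.AlgzPrincipal.Syzygy

/-!
# Lattices in the levels of a cover which are locally summands of free modules
-/

set_option autoImplicit false
universe u

open CategoryTheory AlgebraicGeometry TopologicalSpace Groth.PicAux Groth.ParaFormal

namespace Groth.ParaLift82

open Groth.LocCohBase (HH' δ subSeq)

variable {B : Type u} [CommRing B] [IsNoetherianRing B] {ι : Type u} [Finite ι] {g : ι → B}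

variable (g) in
/-- A finite lattice which is, up to powers of each `g a`, a summand of a power of `B/I`. -/
def LatDual (I : Ideal B) (M : Type u) [AddCommGroup M] [Module B M] : Prop :=
  ∃ L : Submodule B M, L.FG ∧ (∀ (z : M) (a : ι), ∃ k : ℕ, g a ^ k • z ∈ L) ∧
    ∀ a, ∃ (l E : ℕ) (u : L →ₗ[B] (Fin l → B ⧸ I)) (v : (Fin l → B ⧸ I) →ₗ[B] L), ∀ z, v (u z) = g a ^ E • z

theorem latDual_sec {X : Scheme.{u}} [CompactSpace X] [QuasiSeparatedSpace X] {I : Ideal B}
    (F : X ⟶ SpB B) (G : X ⟶ SpB (B ⧸ I)) (hFG : F = G ≫ quotMap I)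
    (hfin : ∀ a, (G.app (D (Ideal.Quotient.mk I (g a)))).hom.Finite)
    (hflat : ∀ a, (G.app (D (Ideal.Quotient.mk I (g a)))).hom.Flat) : LatDual g I (Sec F) := by
  classical
  cases nonempty_fintype ι
  obtain ⟨l, q, ψ, K, p', hψadd, hψmul, hq, hp', hM'⟩ := exists_sec_coords F G hFG hfin hflat
  subst hFG
  let F := G ≫ quotMap I
  let gq : ι → B ⧸ I := fun a => Ideal.Quotient.mk I (g a)
  let W : ι → X.Opens := fun a => G ⁻¹ᵁ D (gq a)
  let χ : ∀ a, Γ(SpB (B ⧸ I), D (gq a)) →+* Γ(X, W a) := fun a => (G.app (D (gq a))).hom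
  have hWF : ∀ a, W a = F ⁻¹ᵁ D (g a) := fun a => rfl
  have hχ : ∀ a (c : B), χ a (cst _ (Ideal.Quotient.mk I c)) = bcst F (W a) c := fun a c => by
    refine Eq.trans ?_ (bcst_comp (Ideal.Quotient.mk I) G (W a) c).symm
    simp only [χ, cst, bcst, RingHom.comp_apply]
    exact app_resX G (le_top : D (gq a) ≤ ⊤) _
  have hkill : ∀ c ∈ I, ∀ z : Sec F, c • z = 0 := fun c hc z => by
    rw [Algebra.smul_def, algebraMap_sec, bcst_comp (Ideal.Quotient.mk I) G, Ideal.Quotient.eq_zero_iff_mem.2 hc,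
      map_zero]
    exact zero_mul _
  let L : Submodule B (Sec F) := Submodule.span B (Set.range p')
  have : Module.Finite B L := Module.Finite.iff_fg.2 (Submodule.fg_span (Set.finite_range p'))
  refine ⟨L, Submodule.fg_span (Set.finite_range p'), hM', fun a => ?_⟩
  letI : Algebra B Γ(SpB (B ⧸ I), D (gq a)) := ((cst (D (gq a))).comp (Ideal.Quotient.mk I)).toAlgebra
  let gm : (Fin (l a) → B ⧸ I) →ₗ[B] (Fin (l a) → Γ(SpB (B ⧸ I), D (gq a))) :=
    { toFun := fun x i => cst _ (x i)
      map_add' := fun x y => funext fun i => map_add _ _ _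
      map_smul' := fun c x => funext fun i => by
        show cst (D (gq a)) (c • x i) = c • cst (D (gq a)) (x i)
        rw [Algebra.smul_def, Ideal.Quotient.algebraMap_eq, map_mul, Algebra.smul_def]; rfl }
  let c : L →ₗ[B] (Fin (l a) → Γ(SpB (B ⧸ I), D (gq a))) :=
    { toFun := fun z i => ψ a i (secRes F (W a) z)
      map_add' := fun z z' => funext fun i => by rw [Submodule.coe_add, map_add, hψadd]; rfl
      map_smul' := fun c z => funext fun i => by
        rw [SetLike.val_smul, secRes_smul, ← hχ, hψmul, RingHom.id_apply]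
        exact (Algebra.smul_def c _).symm }
  obtain ⟨k, u, hu⟩ := CohDev.AlgzPrincipal.exists_lift_of_away (g a) gm (fun y => by
    choose m c' hc' using fun i => num (rfl : D (gq a) = D (gq a)) (y i)
    let m₀ := Finset.univ.sup m
    refine ⟨m₀, fun i => gq a ^ (m₀ - m i) * c' i, funext fun i => ?_⟩
    show cst _ (gq a ^ (m₀ - m i) * c' i) = g a ^ m₀ • y i
    rw [map_mul, ← hc' i, ← mul_assoc, ← map_mul, ← pow_add,
      Nat.sub_add_cancel (Finset.le_sup (f := m) (Finset.mem_univ i)), Algebra.smul_def, ← map_pow]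
    rfl) (fun x hx => by
    choose n hn using fun i => (cst_eq_zero_iff rfl (x i)).1 (congrFun hx i)
    refine ⟨Finset.univ.sup n, funext fun i => ?_⟩
    obtain ⟨d, hd⟩ := Nat.exists_eq_add_of_le (Finset.le_sup (f := n) (Finset.mem_univ i))
    show g a ^ Finset.univ.sup n • x i = 0
    rw [Algebra.smul_def, Ideal.Quotient.algebraMap_eq, map_pow, hd, add_comm, pow_add, mul_assoc, hn i, mul_zero]) c
  let v : (Fin (l a) → B ⧸ I) →ₗ[B] L :=
    ∑ i, (I.liftQ (LinearMap.toSpanSingleton B L ⟨p' ⟨a, i⟩, Submodule.subset_span ⟨_, rfl⟩⟩)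
      (fun b hb => LinearMap.mem_ker.2 (Subtype.ext (hkill b hb _)))).comp (LinearMap.proj i)
  have hloc : ∀ z : L, ∃ m : ℕ, g a ^ m • (v (u z) - g a ^ (k + K) • z) = 0 := fun z => by
    choose b hb using fun i => Ideal.Quotient.mk_surjective (u z i)
    have h1 : (v (u z) : Sec F) = ∑ i, b i • p' ⟨a, i⟩ := by
      rw [show u z = fun i => Submodule.Quotient.mk (b i) from funext fun i => (hb i).symm]
      simp only [v, LinearMap.coe_sum, Finset.sum_apply, LinearMap.comp_apply, LinearMap.proj_apply,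
        Submodule.liftQ_apply, LinearMap.toSpanSingleton_apply, Submodule.coe_sum, SetLike.val_smul]
    obtain ⟨m, hm⟩ := sec_zero F (O := W a) (hWF a) (x := (v (u z) : Sec F) - g a ^ (k + K) • (z : Sec F)) (by
      rw [map_sub, h1, map_sum, secRes_smul, sub_eq_zero]
      conv_rhs => rw [hq a (secRes F (W a) z), Finset.mul_sum]
      refine Finset.sum_congr rfl fun i _ => ?_
      have h2 : cst (D (gq a)) (u z i) = g a ^ k • ψ a i (secRes F (W a) z) := congrFun (hu z) i
      rw [secRes_smul, hp', ← hχ a (b i), show Ideal.Quotient.mk I (b i) = u z i from hb i, h2, Algebra.smul_def,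
        map_mul, show χ a (algebraMap B _ (g a ^ k)) = bcst F (W a) (g a ^ k) from hχ a _, pow_add, map_mul]
      show bcst F (W a) (g a ^ k) * χ a (ψ a i _) * (bcst F (W a) (g a ^ K) * q a i) =
        bcst F (W a) (g a ^ k) * bcst F (W a) (g a ^ K) * (χ a (ψ a i _) * q a i)
      ring)
    exact ⟨m, Subtype.ext hm⟩
  let Dl : L →ₗ[B] L := v ∘ₗ u - g a ^ (k + K) • LinearMap.id
  obtain ⟨m, hm⟩ := exists_pow_kill (r := g a) (M := LinearMap.range Dl) fun x => by
    obtain ⟨_, z, rfl⟩ := x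
    obtain ⟨m, hm⟩ := hloc z
    exact ⟨m, Subtype.ext hm⟩
  refine ⟨l a, m + (k + K), g a ^ m • u, v, fun z => ?_⟩
  have h := congrArg Subtype.val (hm ⟨Dl z, z, rfl⟩)
  change g a ^ m • (v (u z) - g a ^ (k + K) • z) = 0 at h
  rw [smul_sub, sub_eq_zero] at h
  rw [LinearMap.smul_apply, map_smul, h, smul_smul, ← pow_add]

/-- Maps out of a lattice are killed in `H^j` by what kills the reduction of `B/I`, times powers of the `g a`. -/
theorem exists_pow_mul_smul_eq_zero {I J : Ideal B} {M M' : Type u} [AddCommGroup M] [Module B M]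
    [AddCommGroup M'] [Module B M'] (L : Submodule B M) (hIJ : I ≤ J) (hJ : ∀ c ∈ J, ∀ z : M', c • z = 0)
    {a : ι} {l E : ℕ} (u : L →ₗ[B] (Fin l → B ⧸ I)) (v : (Fin l → B ⧸ I) →ₗ[B] L)
    (hvu : ∀ z, v (u z) = g a ^ E • z) (φ : L →ₗ[B] M') (j : ℕ) {c : B}
    (hc : ∀ y : HH' (Ig g) j (ModuleCat.of B (B ⧸ I)),
      c • (localCohomology (Ig g) j).map (ModuleCat.ofHom (Submodule.factor hIJ)) y = 0)
    (x : HH' (Ig g) j (ModuleCat.of B L)) :
    (g a ^ E * c) • (localCohomology (Ig g) j).map (ModuleCat.ofHom φ) x = 0 := by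
  classical
  let p : Fin l → M' := fun i => φ (v (Pi.single i (Submodule.Quotient.mk 1)))
  let ψ : Fin l → ((B ⧸ J) →ₗ[B] M') := fun i =>
    J.liftQ (LinearMap.toSpanSingleton B M' (p i)) fun b hb => LinearMap.mem_ker.2 (hJ b hb (p i))
  have hφ : g a ^ E • φ = ∑ i, ψ i ∘ₗ Submodule.factor hIJ ∘ₗ (LinearMap.proj i ∘ₗ u) := by
    refine LinearMap.ext fun z => ?_
    choose b hb using fun i => Submodule.mkQ_surjective I (u z i)
    have hz : u z = ∑ i, b i • (Pi.single i (Submodule.Quotient.mk 1) : Fin l → B ⧸ I) := by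
      conv_lhs => rw [show u z = fun i => Submodule.Quotient.mk (b i) from funext fun i => (hb i).symm]
      funext i
      rw [Finset.sum_apply, Finset.sum_eq_single i (fun j _ hj => by simp [Pi.single_eq_of_ne (Ne.symm hj)])
        (fun h => absurd (Finset.mem_univ i) h), Pi.smul_apply, Pi.single_eq_same, ← Submodule.Quotient.mk_smul]
      simp
    rw [LinearMap.smul_apply, ← map_smul, ← hvu, hz, map_sum, map_sum, LinearMap.coe_sum, Finset.sum_apply]
    refine Finset.sum_congr rfl fun i _ => ?_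
    rw [map_smul, map_smul]
    show b i • p i = ψ i (Submodule.factor hIJ (u z i))
    rw [← hb i]
    rfl
  have hhom : g a ^ E • ModuleCat.ofHom φ = ∑ i, ModuleCat.ofHom (LinearMap.proj i ∘ₗ u) ≫
      ModuleCat.ofHom (Submodule.factor hIJ) ≫ ModuleCat.ofHom (ψ i) := by
    refine ModuleCat.hom_ext ?_
    rw [ModuleCat.hom_smul, ModuleCat.hom_sum]
    exact hφ
  rw [mul_comm, mul_smul, ← map_smul_id_apply (r := g a ^ E), map_map_apply, Linear.comp_smul, Category.comp_id, hhom,
    map_sum_apply, Finset.smul_sum]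
  refine Finset.sum_eq_zero fun i _ => ?_
  rw [← map_map_apply, ← map_map_apply, ← map_smul, hc, map_zero]

end Groth.ParaLift82
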