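import Groth.Agent.ParaLift82.Updown
import Groth.Agent.ParaLift82.LevelDual
import Groth.Agent.LocCohBase.Nonvanishing
import Groth.Agent.LocCohTransform.ArtinianTorsion

/-!
# Stabilization of the images of far transitions

The images of `M (N + n) → M n` satisfy the stabilization of a formal system as soon as multiplication by `t^N`
followed by the second local cohomology of `M (N + N) → M N` has finite image.
-/

set_option autoImplicit false
universe u

open CategoryTheory IsLocalRing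

namespace Groth.ParaLift82

open Groth.LocCohBase (HH' δ subSeq)

variable {B : Type u} [CommRing B] [IsNoetherianRing B] {ι : Type u} [Finite ι] {g : ι → B} {t : B}

namespace FormalSys

variable {M : ℕ → Type u} [∀ n, AddCommGroup (M n)] [∀ n, Module B (M n)] (S : FormalSys g t M)

/-- The image of a transition over `N` steps. -/
noncomputable def img (N n : ℕ) : Submodule B (M n) := LinearMap.range (S.proj (Nat.le_add_left n N))

theorem liftData (m l : ℕ) : LiftData g (S.up (Nat.le_add_right m (l + 1)))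
    (S.proj (show l ≤ m + (l + 1) by omega)) where
  inj := S.up_injective _
  exact := fun y => S.mem_range_up_iff m l y
  locSurj := fun x a => by
    obtain ⟨k, z, hz⟩ := S.surj_proj (show l ≤ m + (l + 1) by omega) a x
    exact ⟨k, z, hz⟩
  satM := S.sat _
  satN := S.sat _

/-- The obstruction to lifting from level `l` to level `m + (l + 1)`. -/
noncomputable def obst (m l : ℕ) : M l →ₗ[B] HH' (Ig g) 2 (ModuleCat.of B (M m)) := (S.liftData m l).obst

theorem obst_T (m n : ℕ) (x : M n) : S.obst m (n + 1) (S.T n x) = S.obst m n x := by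
  refine ((S.liftData m n).obst_natural (S.liftData m (n + 1)) LinearMap.id (S.T (m + (n + 1))) (S.T n)
    (fun z => ?_) (fun z => ?_) x).trans ?_
  · exact (S.up_succ (Nat.le_add_right m (n + 1)) z).symm
  · exact (S.proj_T (show n ≤ m + (n + 1) by omega) z).symm
  · rw [ModuleCat.ofHom_id, CategoryTheory.Functor.map_id]; rfl

theorem obst_proj_left {m m' : ℕ} (h : m ≤ m') (l : ℕ) (x : M l) :
    S.obst m l x = (localCohomology (Ig g) 2).map (ModuleCat.ofHom (S.proj h)) (S.obst m' l x) :=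
  (S.liftData m' l).obst_natural (S.liftData m l) (S.proj h) (S.proj (Nat.add_le_add_right h (l + 1))) LinearMap.id
    (fun z => S.proj_up_comm h _ _ _ (by omega) z) (fun z => (S.proj_proj _ _ z).symm) x

theorem obst_proj_right (m N l : ℕ) (x : M (N + l)) :
    S.obst m l (S.proj (Nat.le_add_left l N) x) = t ^ N • S.obst m (N + l) x := by
  refine ((S.liftData m (N + l)).obst_natural (S.liftData m l) (t ^ N • LinearMap.id)
    (S.proj (show m + (l + 1) ≤ m + (N + l + 1) by omega)) (S.proj (Nat.le_add_left l N))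
    (fun z => ?_) (fun z => ?_) x).trans ?_
  · rw [LinearMap.smul_apply, LinearMap.id_apply, map_smul, S.proj_up_of_le (Nat.le_add_right m (l + 1)),
      show m + (N + l + 1) - (m + (l + 1)) = N by omega]
  · rw [S.proj_proj, S.proj_proj]
  · rw [show ModuleCat.ofHom (t ^ N • (LinearMap.id : M m →ₗ[B] M m)) = t ^ N • 𝟙 (ModuleCat.of B (M m)) from rfl,
      map_smul_id_apply]
    rfl

/-- The range of the second local cohomology of a transition, times `t^N`. -/
noncomputable def transRange (N : ℕ) : Submodule B (HH' (Ig g) 2 (ModuleCat.of B (M N))) :=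
  LinearMap.range (t ^ N • ((localCohomology (Ig g) 2).map
    (ModuleCat.ofHom (S.proj (Nat.le_add_right N N)))).hom)

theorem obst_mem_transRange {N n : ℕ} {x : M n} (hx : x ∈ S.img N n) : S.obst N n x ∈ S.transRange N := by
  obtain ⟨x', rfl⟩ := hx
  rw [S.obst_proj_right, S.obst_proj_left (Nat.le_add_right N N)]
  exact ⟨_, LinearMap.smul_apply _ _ _⟩

theorem T_mem_img {N n : ℕ} {x : M n} (hx : x ∈ S.img N n) : S.T n x ∈ S.img N (n + 1) := by
  obtain ⟨x', rfl⟩ := hx
  exact ⟨S.T (N + n) x', S.proj_T (Nat.le_add_left n N) x'⟩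

/-- Stabilization of the images. -/
theorem exists_stable_img (N : ℕ) [IsNoetherian B (S.transRange N)] :
    ∃ n₀, ∀ n ≥ n₀, ∀ x ∈ S.img N (n + 1),
      ∃ y ∈ S.img N (n + 1 + 1), ∃ x₀ ∈ S.img N n, x = S.ρ (n + 1) y + S.T n x₀ := by
  let P : ℕ → Submodule B (S.transRange N) := fun n =>
    ((S.img N n).map (S.obst N n)).comap (S.transRange N).subtype
  have hmono : Monotone P := monotone_nat_of_le_succ fun n => Submodule.comap_mono (by
    rintro _ ⟨x, hx, rfl⟩
    exact ⟨S.T n x, S.T_mem_img hx, S.obst_T N n x⟩)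
  obtain ⟨n₀, hn₀⟩ := monotone_stabilizes_iff_noetherian.2 inferInstance ⟨_, hmono⟩
  refine ⟨n₀, fun n hn x hx => ?_⟩
  have h2 : P (n + 1) = P n := (hn₀ (n + 1) (by omega)).symm.trans (hn₀ n hn)
  have h1 : (⟨_, S.obst_mem_transRange hx⟩ : S.transRange N) ∈ P (n + 1) := ⟨x, hx, rfl⟩
  rw [h2] at h1
  obtain ⟨x₀, hx₀, he⟩ := h1
  change S.obst N n x₀ = S.obst N (n + 1) x at he
  obtain ⟨z, hz⟩ := ((S.liftData N (n + 1)).obst_eq_zero_iff (x - S.T n x₀)).1 (by
    show S.obst N (n + 1) (x - S.T n x₀) = 0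
    rw [map_sub, S.obst_T, he, sub_self])
  refine ⟨S.proj (Nat.le_add_left (n + 1 + 1) N) z, ⟨z, rfl⟩, x₀, hx₀, ?_⟩
  rw [← S.proj_step (show n + 1 + 1 ≤ N + (n + 1 + 1) by omega), hz, sub_add_cancel]

omit [IsNoetherianRing B] in
theorem stable_proj_of_mem {I : ∀ n, Submodule B (M n)} (hT : ∀ n, ∀ x ∈ I n, S.T n x ∈ I (n + 1)) {n₀ : ℕ}
    (hs : ∀ n ≥ n₀, ∀ x ∈ I (n + 1), ∃ y ∈ I (n + 1 + 1), ∃ x₀ ∈ I n, x = S.ρ (n + 1) y + S.T n x₀) :
    ∀ (m N : ℕ) (h : m + n₀ < N), ∀ x ∈ I N, ∃ y ∈ I (N + 1),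
      S.proj (show m ≤ N by omega) (S.ρ N y) = S.proj (show m ≤ N by omega) x := by
  intro m
  induction m with
  | zero =>
    intro N h x hx
    obtain ⟨N, rfl⟩ : ∃ N', N = N' + 1 := ⟨N - 1, by omega⟩
    obtain ⟨y, hy, x₀, -, rfl⟩ := hs N (by omega) x hx
    refine ⟨y, hy, ?_⟩
    rw [map_add, show S.proj (show 0 ≤ N + 1 by omega) (S.T N x₀) = 0 from ?_, add_zero]
    rw [S.proj_succ (Nat.zero_le N), S.ρ_T, map_smul]
    simpa using S.kill 0 (S.proj (Nat.zero_le N) x₀)
  | succ m ih =>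
    intro N h x hx
    obtain ⟨N, rfl⟩ : ∃ N', N = N' + 1 := ⟨N - 1, by omega⟩
    obtain ⟨y, hy, x₀, hx₀, rfl⟩ := hs N (by omega) x hx
    obtain ⟨y₂, hy₂, he⟩ := ih N (by omega) x₀ hx₀
    refine ⟨y + S.T (N + 1) y₂, add_mem hy (hT _ _ hy₂), ?_⟩
    rw [map_add, map_add, map_add, S.ρ_T, ← S.T_ρ, S.proj_T (show m ≤ N by omega), he,
      ← S.proj_T (show m ≤ N by omega)]

omit [IsNoetherianRing B] in
theorem exists_lim_of_mem {I : ∀ n, Submodule B (M n)} (hT : ∀ n, ∀ x ∈ I n, S.T n x ∈ I (n + 1)) {n₀ : ℕ}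
    (hs : ∀ n ≥ n₀, ∀ x ∈ I (n + 1), ∃ y ∈ I (n + 1 + 1), ∃ x₀ ∈ I n, x = S.ρ (n + 1) y + S.T n x₀)
    (m N : ℕ) (h : m + n₀ < N) (x : M N) (hx : x ∈ I N) :
    ∃ l : S.lim, S.limProj m l = S.proj (show m ≤ N by omega) x := by
  let step : ∀ j, I (N + j) → I (N + j + 1) := fun j v =>
    ⟨(S.stable_proj_of_mem hT hs (m + j) (N + j) (by omega) v v.2).choose,
      (S.stable_proj_of_mem hT hs (m + j) (N + j) (by omega) v v.2).choose_spec.1⟩
  let xs : ∀ j, I (N + j) := fun j => Nat.rec (motive := fun j => I (N + j)) ⟨x, hx⟩ step j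
  have hxs : ∀ j l (hl : l ≤ m + j), S.proj (show l ≤ N + j + 1 by omega) (xs (j + 1)).1 =
      S.proj (show l ≤ N + j by omega) (xs j).1 := fun j l hl => by
    have h1 := (S.stable_proj_of_mem hT hs (m + j) (N + j) (by omega) (xs j).1 (xs j).2).choose_spec.2
    rw [S.proj_succ (show l ≤ N + j by omega), ← S.proj_proj hl (show m + j ≤ N + j by omega),
      ← S.proj_proj hl (show m + j ≤ N + j by omega) (xs j).1]
    exact congrArg _ h1
  refine ⟨⟨fun l => S.proj (show l ≤ N + l by omega) (xs l).1, fun l => ?_⟩, ?_⟩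
  · rw [← S.proj_step]
    exact hxs l l (by omega)
  · show S.proj (show m ≤ N + m by omega) (xs m).1 = _
    have key : ∀ j, S.proj (show m ≤ N + j by omega) (xs j).1 = S.proj (show m ≤ N by omega) x := fun j => by
      induction j with
      | zero => rfl
      | succ j ih => rw [← ih]; exact hxs j m (by omega)
    exact key m

/-- Every section comes, up to powers, from the limit. -/
theorem lim_surj_of_finite (N : ℕ) [IsNoetherian B (S.transRange N)] (m : ℕ) (a : ι) (x : M m) :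
    ∃ (k : ℕ) (l : S.lim), S.limProj m l = g a ^ k • x := by
  obtain ⟨n₀, hs⟩ := S.exists_stable_img N
  obtain ⟨k, v, hv⟩ := S.surj_proj (show m ≤ N + (m + n₀ + 1) by omega) a x
  obtain ⟨l, hl⟩ := S.exists_lim_of_mem (I := S.img N) (fun n x hx => S.T_mem_img hx) hs m (m + n₀ + 1)
    (by omega) (S.proj (Nat.le_add_left (m + n₀ + 1) N) v) ⟨v, rfl⟩
  exact ⟨k, l, by rw [hl, S.proj_proj, hv]⟩

theorem finite_lim_of_bottom [IsAdicComplete (Ideal.span {t}) B] (X : Submodule B (M 0)) [Module.Finite B X]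
    (hX : ∀ l : S.lim, S.limProj 0 l ∈ X) : Module.Finite B S.lim := by
  have hhaus : IsHausdorff (Ideal.span {t}) S.lim := ⟨fun x hx => Subtype.ext (funext fun n => ?_)⟩
  swap
  · have h1 := SModEq.zero.1 (hx (n + 1))
    rw [Ideal.span_singleton_pow, Submodule.ideal_span_singleton_smul,
      Submodule.mem_smul_pointwise_iff_exists] at h1
    obtain ⟨z, -, rfl⟩ := h1
    show t ^ (n + 1) • S.limProj n z = 0
    exact S.kill n _
  refine Groth.Calg1.module_finite_of_isHausdorff (Ideal.span {t}) S.lim ?_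
  have hker : LinearMap.ker (S.limProj 0) ≤ (Ideal.span {t} • ⊤ : Submodule B S.lim) := fun x hx => by
    obtain ⟨z, rfl⟩ := S.exists_eq_t_smul (LinearMap.mem_ker.1 hx)
    exact Submodule.smul_mem_smul (Ideal.mem_span_singleton_self t) Submodule.mem_top
  have : Module.Finite B (LinearMap.range (S.limProj 0)) :=
    Module.Finite.of_injective (Submodule.inclusion (p' := X) (by rintro _ ⟨l, rfl⟩; exact hX l))
      (Submodule.inclusion_injective _)
  have : Module.Finite B (S.lim ⧸ LinearMap.ker (S.limProj 0)) :=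
    Module.Finite.equiv (S.limProj 0).quotKerEquivRange.symm
  exact Module.Finite.of_surjective (Submodule.factor hker) (Submodule.factor_surjective hker)

omit [IsNoetherianRing B] in
/-- An ideal containing `g^E c` for `c` generating, together with `t`, the radical of the cover contains a power
of each `g a`. -/
theorem exists_pow_mem_of_products {κ : Type u} (c : κ → B) (J : Ideal B)
    (hrad : Ig g ≤ (Ideal.span (Set.range c) ⊔ Ideal.span {t}).radical) (ht : t ∈ J.radical) (a : ι)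
    (h : ∀ j, g a * c j ∈ J.radical) : ∃ k : ℕ, g a ^ k ∈ J := by
  have hle : Ideal.span (Set.range c) ⊔ Ideal.span {t} ≤ Submodule.comap (LinearMap.lsmul B B (g a)) J.radical := by
    refine sup_le (Ideal.span_le.2 ?_) ((Ideal.span_singleton_le_iff_mem _).2 ?_)
    · rintro _ ⟨j, rfl⟩; exact h j
    · exact Ideal.mul_mem_left J.radical (g a) ht
  obtain ⟨k, hk⟩ := hrad (Ideal.subset_span ⟨a, rfl⟩ : g a ∈ Ig g)
  have h1 : g a * g a ^ k ∈ J.radical := hle hk
  rw [← pow_succ'] at h1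
  obtain ⟨k', hk'⟩ := h1
  exact ⟨(k + 1) * k', by rwa [pow_mul]⟩

variable {κ : Type u} (c : κ → B) {N : ℕ}

theorem finite_transRange [IsLocalRing B] (hg : Ig g = maximalIdeal B) (ht : IsSMulRegular B t)
    (hrad : Ig g ≤ (Ideal.span (Set.range c) ⊔ Ideal.span {t}).radical)
    (hdual : LatDual g (Ideal.span {t ^ (N + N + 1)}) (M (N + N))) (hdual' : LatDual g (Ideal.span {t ^ (N + 1)}) (M N))
    (h₂ : ∀ j, ∀ x : HH' (Ig g) 2 (ModuleCat.of B B), (c j * t ^ N) • x = 0)
    (h₃ : ∀ j, ∀ x : HH' (Ig g) 3 (ModuleCat.of B B), (c j * t ^ N) • x = 0) :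
    Module.Finite B (S.transRange N) := by
  classical
  cases nonempty_fintype ι
  have hart : IsArtinian B (HH' (Ig g) 2 (ModuleCat.of B (M N))) := by
    obtain ⟨L, hfg, htor, -⟩ := hdual'
    have : Module.Finite B L := Module.Finite.iff_fg.2 hfg
    have : IsArtinian B (LocCoh.H (Ig g) 2 L) := by rw [hg]; exact LocCohBase.isArtinian_H (R := B) L 2
    exact isArtinian_of_surjective _ ((localCohomology (Ig g) 2).map (ModuleCat.ofHom L.subtype)).hom
      (surjective_map_subtype L htor 1)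
  let J := Module.annihilator B (S.transRange N)
  have hmem : ∀ r : B, (∀ x ∈ S.transRange N, r • x = 0) → r ∈ J := fun r h =>
    Module.mem_annihilator.2 fun x => Subtype.ext (h x.1 x.2)
  have htJ : t ∈ J.radical := ⟨N + 1, hmem _ fun x _ => by
    rw [← map_smul_id_apply, show t ^ (N + 1) • 𝟙 (ModuleCat.of B (M N)) = 0 from
      ModuleCat.hom_ext (LinearMap.ext fun z => S.kill N z), map_zero_apply]⟩
  obtain ⟨L, hfg, htor, hd⟩ := hdual
  have hgc : ∀ a j, g a * c j ∈ J.radical := fun a j => by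
    obtain ⟨l, E, u, v, hvu⟩ := hd a
    refine ⟨E + 2, ?_⟩
    have h1 : g a ^ E * (c j * c j) ∈ J := hmem _ fun x ⟨y, hy⟩ => by
      rw [← hy, LinearMap.smul_apply, smul_smul]
      obtain ⟨y, rfl⟩ := surjective_map_subtype L htor 1 y
      rw [show g a ^ E * (c j * c j) * t ^ N = g a ^ E * (c j * (c j * t ^ N)) by ring]
      have h0 := exists_pow_mul_smul_eq_zero (M' := M N) L
        (Ideal.span_singleton_le_span_singleton.2 (pow_dvd_pow t (show N + 1 ≤ N + N + 1 by omega)))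
        (fun b hb z => by
          obtain ⟨d, rfl⟩ := Ideal.mem_span_singleton'.1 hb
          rw [mul_smul, S.kill, smul_zero])
        u v hvu (S.proj (Nat.le_add_right N N) ∘ₗ L.subtype) 2
        (fun w => smul_map_levelRed_eq_zero (N := N) (l := N) (k := N) ht le_rfl (h₃ j) (h₂ j) w) y
      rw [ModuleCat.ofHom_comp, ← map_map_apply] at h0
      exact h0
    have h2 : (g a * c j) ^ (E + 2) = g a ^ 2 * c j ^ E * (g a ^ E * (c j * c j)) := by ring
    rw [h2]
    exact J.mul_mem_left _ h1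
  have hm : maximalIdeal B ≤ J.radical := by
    rw [← hg, Ig, Ideal.span_le]
    rintro _ ⟨a, rfl⟩
    exact exists_pow_mem_of_products c J hrad htJ a (hgc a)
  obtain ⟨k, hk⟩ := Ideal.exists_pow_le_of_le_radical_of_fg hm (IsNoetherian.noetherian _)
  exact LocCohTransform.finite_of_isArtinian_of_pow_smul_eq_zero (maximalIdeal B) k
    fun a ha x => Module.mem_annihilator.1 (hk ha) x

theorem finite_bottom (ht : IsSMulRegular B t)
    (hrad : Ig g ≤ (Ideal.span (Set.range c) ⊔ Ideal.span {t}).radical)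
    (hdual : LatDual g (Ideal.span {t ^ (0 + N + 1)}) (M (0 + N))) (hdual' : LatDual g (Ideal.span {t ^ (0 + 1)}) (M 0))
    (h₂ : ∀ j, ∀ x : HH' (Ig g) 2 (ModuleCat.of B B), (c j * t ^ N) • x = 0)
    {K : ℕ} (h₁ : ∀ a, ∀ x : HH' (Ig g) 1 (ModuleCat.of B B), g a ^ K • x = 0) :
    ∃ X : Submodule B (M 0), Module.Finite B X ∧ ∀ l : S.lim, S.limProj 0 l ∈ X := by
  classical
  cases nonempty_fintype ι
  obtain ⟨L, hfg, htor, hd⟩ := hdual
  obtain ⟨L', hfg', htor', -⟩ := hdual'
  let p := S.proj (Nat.le_add_right 0 N)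
  let L0 : Submodule B (M 0) := L' ⊔ L.map p
  have hL0 : L0.FG := hfg'.sup (hfg.map _)
  let τ : L →ₗ[B] L0 := p.restrict (fun z hz => Submodule.mem_sup_right (Submodule.mem_map_of_mem hz))
  let ψ : (M (0 + N) ⧸ L) →ₗ[B] (M 0 ⧸ L0) :=
    Submodule.mapQ _ _ p fun z hz => Submodule.mem_sup_right (Submodule.mem_map_of_mem hz)
  have hQ : ∀ (q : M (0 + N) ⧸ L) a, ∃ k : ℕ, g a ^ k • q = 0 := fun q a => by
    obtain ⟨q, rfl⟩ := Submodule.mkQ_surjective _ q
    obtain ⟨k, hk⟩ := htor q a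
    exact ⟨k, by rw [← map_smul]; exact (Submodule.Quotient.mk_eq_zero _).2 hk⟩
  have hQ0 : ∀ (q : M 0 ⧸ L0) a, ∃ k : ℕ, g a ^ k • q = 0 := fun q a => by
    obtain ⟨q, rfl⟩ := Submodule.mkQ_surjective _ q
    obtain ⟨k, hk⟩ := htor' q a
    exact ⟨k, by rw [← map_smul]; exact (Submodule.Quotient.mk_eq_zero _).2 (Submodule.mem_sup_left hk)⟩
  have hS := LocCohBase.subSeq_shortExact L
  have hS0 := LocCohBase.subSeq_shortExact L0
  let φ : subSeq L ⟶ subSeq L0 :=
    { τ₁ := ModuleCat.ofHom τ, τ₂ := ModuleCat.ofHom p, τ₃ := ModuleCat.ofHom ψ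
      comm₁₂ := by ext z; rfl
      comm₂₃ := by ext z; rfl }
  have hδ : Function.Injective (δ (I := Ig g) hS0 0) := (injective_iff_map_eq_zero _).2 fun z hz => by
    obtain ⟨y, rfl⟩ := (LocCohBase.exact₃ hS0 0 z).1 hz
    have : Subsingleton (HH' (Ig g) 0 (subSeq L0).X₂) := subsingleton_H_zero_of_sat (S.sat 0)
    rw [Subsingleton.elim y 0, map_zero]
  have hkill : ∀ a j, ∃ e : ℕ, ∀ q, (g a ^ e * c j) • ψ q = 0 := fun a j => by
    obtain ⟨l, E, u, v, hvu⟩ := hd a
    refine ⟨E + K, fun q => ?_⟩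
    have hinj : Function.Injective (torClass g hQ0) := fun y y' e => by
      rw [← h0Map_torClass hQ0 y, e, h0Map_torClass]
    refine hinj (hδ ?_)
    rw [map_zero, map_zero, map_smul, map_smul, torClass_natural hQ hQ0 ψ,
      show g a ^ (E + K) * c j = g a ^ E * (c j * g a ^ K) by ring]
    refine Eq.trans (congrArg _ (δ_natural hS hS0 φ 0 _)) ?_
    exact exists_pow_mul_smul_eq_zero (M' := L0) L
      (Ideal.span_singleton_le_span_singleton.2 (pow_dvd_pow t (show 0 + 1 ≤ 0 + N + 1 by omega)))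
      (fun b hb z => by
        obtain ⟨d, rfl⟩ := Ideal.mem_span_singleton'.1 hb
        exact Subtype.ext (by show (d * t ^ (0 + 1)) • z.1 = 0; rw [mul_smul, S.kill, smul_zero]))
      u v hvu τ 1 (fun w => smul_map_levelRed_eq_zero (N := N) (l := 0) (k := N) ht le_rfl (h₂ j) (h₁ a) w) _
  choose e he using hkill
  let J : Ideal B := Module.annihilator B (LinearMap.range ψ)
  have htJ : t ∈ J.radical := ⟨1, Module.mem_annihilator.2 fun x => by
    obtain ⟨x, hx⟩ := x
    obtain ⟨z, rfl⟩ := Submodule.mkQ_surjective _ x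
    refine Subtype.ext ?_
    show t ^ 1 • (L0.mkQ z) = 0
    rw [← map_smul, show t ^ 1 • z = 0 by simpa using S.kill 0 z, map_zero]⟩
  have hk : ∀ a, ∃ k : ℕ, g a ^ k ∈ J := fun a => exists_pow_mem_of_products c J hrad htJ a fun j => by
    refine ⟨e a j + 1, ?_⟩
    rw [show (g a * c j) ^ (e a j + 1) = g a * c j ^ e a j * (g a ^ e a j * c j) by ring]
    refine J.mul_mem_left _ (Module.mem_annihilator.2 fun x => ?_)
    obtain ⟨_, q, rfl⟩ := x
    exact Subtype.ext (he a j q)
  choose k hk using hk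
  let X : Submodule B (M 0) := LinearMap.range p
  have hX : ∀ x ∈ X, ∀ a, g a ^ k a • x ∈ L0 := by
    rintro _ ⟨z, rfl⟩ a
    have h := congrArg Subtype.val (Module.mem_annihilator.1 (hk a) ⟨ψ (L.mkQ z), L.mkQ z, rfl⟩)
    change g a ^ k a • L0.mkQ (p z) = 0 at h
    rw [← map_smul] at h
    exact (Submodule.Quotient.mk_eq_zero _).1 h
  have : Module.Finite B L0 := Module.Finite.iff_fg.2 hL0
  let Φ : X →ₗ[B] (ι → L0) := LinearMap.pi fun a =>
    ((g a ^ k a • LinearMap.id : M 0 →ₗ[B] M 0) ∘ₗ X.subtype).codRestrict L0 fun x => hX x.1 x.2 a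
  refine ⟨X, Module.Finite.of_injective Φ ((injective_iff_map_eq_zero Φ).2 fun x hx => Subtype.ext <|
    (S.sat 0).sep _ fun a => ⟨k a, congrArg Subtype.val (congrFun hx a)⟩), fun l => ?_⟩
  exact ⟨S.limProj (0 + N) l, S.proj_limProj _ l⟩

end FormalSys

end Groth.ParaLift82
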