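import Groth.Agent.ParaLift82.FormalTame
import Groth.Agent.LocCohBase.Torsion

/-!
# Torsion-free injective modules are saturated and have no first cohomology

For a module without sections supported on the zero locus of the `g a`, embed it in a torsion-free injective
module; sections on the union of the basic opens are then the elements of the injective module which the
`g a` push into the submodule up to powers.
-/

set_option autoImplicit false
universe u

open CategoryTheory

namespace Groth.ParaLift82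

open Groth.LocCohBase (HH')

variable {B : Type u} [CommRing B] {ι : Type u} [Finite ι] {g : ι → B}

/-- The ideal of a finite family. -/
abbrev Ig (g : ι → B) : Ideal B := Ideal.span (Set.range g)

theorem mem_torsion_iff {M : Type u} [AddCommGroup M] [Module B M] {x : M} :
    x ∈ DRing.torsionSub (Ig g) M ↔ ∀ a, ∃ k : ℕ, g a ^ k • x = 0 := by
  refine ⟨fun ⟨n, hn⟩ a => ⟨n, hn _ (Ideal.pow_mem_pow ((Ideal.subset_span ⟨a, rfl⟩ : g a ∈ Ig g)) n)⟩, fun h => ?_⟩
  cases nonempty_fintype ι
  choose k hk using h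
  let J := Ideal.span (Set.range fun a => g a ^ k a)
  obtain ⟨n, hn⟩ := Ideal.exists_pow_le_of_le_radical_of_fg (I := Ig g) (J := J)
    (Ideal.span_le.2 (by rintro _ ⟨a, rfl⟩; exact ⟨k a, Ideal.subset_span ⟨a, rfl⟩⟩))
    (Submodule.fg_span (Set.finite_range g))
  refine ⟨n, fun b hb => ?_⟩
  have hJ : J ≤ (Submodule.span B {x}).annihilator := Ideal.span_le.2 (by
    rintro _ ⟨a, rfl⟩
    exact (Submodule.mem_annihilator_span_singleton x _).2 (hk a))
  exact (Submodule.mem_annihilator_span_singleton x b).1 (hJ (hn hb))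

/-- A family killed by powers is killed by a uniform power, for finite modules. -/
theorem exists_pow_kill {r : B} {M : Type u} [AddCommGroup M] [Module B M] [Module.Finite B M]
    (h : ∀ x : M, ∃ k : ℕ, r ^ k • x = 0) : ∃ K : ℕ, ∀ x : M, r ^ K • x = 0 := by
  classical
  obtain ⟨s, hs⟩ := Module.Finite.fg_top (R := B) (M := M)
  choose k hk using h
  refine ⟨s.sup k, fun x => ?_⟩
  have : ⊤ ≤ LinearMap.ker (LinearMap.lsmul B M (r ^ s.sup k)) := by
    rw [← hs, Submodule.span_le]
    intro y hy
    obtain ⟨d, hd⟩ := Nat.exists_eq_add_of_le (Finset.le_sup (f := k) hy)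
    rw [SetLike.mem_coe, LinearMap.mem_ker, LinearMap.lsmul_apply, hd, add_comm, pow_add, mul_smul, hk,
      smul_zero]
  exact LinearMap.mem_ker.1 (this Submodule.mem_top)

theorem torsion_eq_bot {M : Type u} [AddCommGroup M] [Module B M]
    (h : ∀ x : M, (∀ a, ∃ k : ℕ, g a ^ k • x = 0) → x = 0) : DRing.torsionSub (Ig g) M = ⊥ :=
  le_bot_iff.1 fun x hx => h x (mem_torsion_iff.1 hx)

theorem sep_of_torsion_eq_bot {M : Type u} [AddCommGroup M] [Module B M]
    (h : DRing.torsionSub (Ig g) M = ⊥) (x : M) (hx : ∀ a, ∃ k : ℕ, g a ^ k • x = 0) : x = 0 :=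
  (Submodule.mem_bot B).1 (h ▸ mem_torsion_iff.2 hx)

section Injective

variable {E : Type u} [AddCommGroup E] [Module B E] (hinj : Module.Injective B E)
include hinj

theorem exists_factor {V V' : Type u} [AddCommGroup V] [Module B V] [AddCommGroup V'] [Module B V']
    (Φ : V →ₗ[B] V') (Θ : V →ₗ[B] E) (hker : LinearMap.ker Φ ≤ LinearMap.ker Θ) :
    ∃ h : V' →ₗ[B] E, ∀ v, h (Φ v) = Θ v := by
  obtain ⟨h, hh⟩ := hinj.out (LinearMap.range Φ).subtype Subtype.val_injective
    ((LinearMap.ker Φ).liftQ Θ hker ∘ₗ Φ.quotKerEquivRange.symm.toLinearMap)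
  refine ⟨h, fun v => (hh ⟨Φ v, v, rfl⟩).trans ?_⟩
  show (LinearMap.ker Φ).liftQ Θ hker (Φ.quotKerEquivRange.symm _) = _
  exact congrArg ((LinearMap.ker Φ).liftQ Θ hker) (Φ.quotKerEquivRange_symm_apply_image v ⟨v, rfl⟩)

theorem sat_of_injective (hsep : ∀ x : E, (∀ a, ∃ k : ℕ, g a ^ k • x = 0) → x = 0) : Sat g E := by
  classical
  cases nonempty_fintype ι
  refine ⟨hsep, fun N y hy => ?_⟩
  let Φ : (ι → B) →ₗ[B] B := Fintype.linearCombination B fun a => g a ^ N
  let Θ : (ι → B) →ₗ[B] E := Fintype.linearCombination B y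
  obtain ⟨h, hh⟩ := exists_factor hinj Φ Θ fun v hv => LinearMap.mem_ker.2 (hsep _ fun b => ⟨N, by
    simp only [LinearMap.mem_ker, Φ, Fintype.linearCombination_apply] at hv
    simp only [Θ, Fintype.linearCombination_apply, Finset.smul_sum]
    calc ∑ a, g b ^ N • v a • y a = ∑ a, (v a • g a ^ N) • y b := Finset.sum_congr rfl fun a _ => by
          rw [smul_comm, hy a b, smul_assoc]
      _ = 0 := by rw [← Finset.sum_smul, hv, zero_smul]⟩)
  refine ⟨h 1, 0, fun a => ?_⟩
  have h1 := hh (Pi.single a 1)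
  simp only [Φ, Θ, Fintype.linearCombination_apply_single, one_smul] at h1
  rw [zero_add, pow_zero, one_smul, ← h1, ← map_smul, smul_eq_mul, mul_one]

theorem prim_of_injective (hsep : ∀ x : E, (∀ a, ∃ k : ℕ, g a ^ k • x = 0) → x = 0) (N : ℕ) (c : ι → ι → E)
    (hc : ∀ a b d, g d ^ N • c a b + g a ^ N • c b d = g b ^ N • c a d) :
    ∃ w : ι → E, ∀ a b, c a b = g b ^ N • w a - g a ^ N • w b := by
  classical
  cases nonempty_fintype ι
  let κ : ι × ι → (ι → B) := fun z => g z.2 ^ N • Pi.single z.1 1 - g z.1 ^ N • Pi.single z.2 1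
  let Φ : (ι × ι → B) →ₗ[B] (ι → B) := Fintype.linearCombination B κ
  let Θ : (ι × ι → B) →ₗ[B] E := Fintype.linearCombination B fun z => c z.1 z.2
  obtain ⟨h, hh⟩ := exists_factor hinj Φ Θ fun v hv => LinearMap.mem_ker.2 (hsep _ fun d => ⟨N, by
    let φ : (ι → B) →ₗ[B] E := Fintype.linearCombination B fun a => c a d
    have hκ : ∀ z, φ (κ z) = g d ^ N • c z.1 z.2 := fun z => by
      simp only [φ, κ, map_sub, map_smul, Fintype.linearCombination_apply_single, one_smul]
      rw [← hc z.1 z.2 d, add_sub_cancel_right]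
    have h0 : φ (Φ v) = 0 := by rw [LinearMap.mem_ker.1 hv, map_zero]
    rw [← h0]
    simp only [Θ, Φ, Fintype.linearCombination_apply, map_sum, map_smul, hκ, Finset.smul_sum]
    exact Finset.sum_congr rfl fun z _ => smul_comm _ _ _⟩)
  refine ⟨fun a => h (Pi.single a 1), fun a b => ?_⟩
  have h1 := hh (Pi.single (a, b) 1)
  simp only [Φ, Θ, κ, Fintype.linearCombination_apply_single, one_smul, map_sub, map_smul] at h1
  exact h1.symm

end Injective

variable [IsNoetherianRing B]

/-- A module without torsion embeds in a torsion-free injective module. -/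
theorem exists_tf_embedding (g : ι → B) (M : Type u) [AddCommGroup M] [Module B M]
    (hsep : DRing.torsionSub (Ig g) M = ⊥) :
    ∃ (E : Type u) (_ : AddCommGroup E) (_ : Module B E) (e : M →ₗ[B] E), Function.Injective e ∧
      Module.Injective B E ∧ ∀ x : E, (∀ a, ∃ k : ℕ, g a ^ k • x = 0) → x = 0 := by
  let J : ModuleCat.{u} B := Injective.under (ModuleCat.of B M)
  have : Module.Injective B J :=
    Module.injective_module_of_injective_object (inj := inferInstanceAs (Injective J)) B J
  let T := DRing.torsionSub (Ig g) J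
  have hT : Module.Injective B T := LocCohBase.injective_torsionSub (Ig g) J
  obtain ⟨r, hr⟩ := hT.out T.subtype Subtype.val_injective LinearMap.id
  let σ : (J ⧸ T) →ₗ[B] J := T.liftQ (LinearMap.id - T.subtype ∘ₗ r) fun x hx => by
    rw [LinearMap.mem_ker, LinearMap.sub_apply, LinearMap.id_apply, LinearMap.comp_apply, sub_eq_zero]
    exact (congrArg Subtype.val (hr ⟨x, hx⟩)).symm
  have hσ : ∀ x, T.mkQ (σ x) = x := fun x => by
    obtain ⟨x, rfl⟩ := T.mkQ_surjective x
    simp [σ]
  let e : M →ₗ[B] J ⧸ T := T.mkQ ∘ₗ (Injective.ι (ModuleCat.of B M)).hom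
  refine ⟨J ⧸ T, inferInstance, inferInstance, e, (injective_iff_map_eq_zero e).2 fun x hx => ?_, ?_, fun x hx => ?_⟩
  · obtain ⟨n, hn⟩ := (Submodule.Quotient.mk_eq_zero T).1 hx
    refine (Submodule.mem_bot B).1 (hsep ▸ ⟨n, fun a ha => ?_⟩)
    refine (ModuleCat.mono_iff_injective _).1 (inferInstance : Mono (Injective.ι (ModuleCat.of B M))) ?_
    rw [map_zero, map_smul]
    exact hn a ha
  · refine Module.Baer.injective fun a φ => ?_
    obtain ⟨ψ, hψ⟩ := (Module.Baer.of_injective inferInstance) a (σ ∘ₗ φ)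
    exact ⟨T.mkQ ∘ₗ ψ, fun x hx => by rw [LinearMap.comp_apply, hψ x hx, LinearMap.comp_apply, hσ]⟩
  · exact sep_of_torsion_eq_bot
      (LocCohBase.torsionSub_quotient_eq_bot (Submodule.fg_span (Set.finite_range g)) J) x hx

/-- Sections on the union of the basic opens of a torsion-free module, modulo the module, are finite when
the first local cohomology is. -/
theorem finite_torsion_quotient {Q E : Type u} [AddCommGroup Q] [Module B Q] [AddCommGroup E] [Module B E]
    (e : Q →ₗ[B] E) (he : Function.Injective e)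
    (hsep : ∀ x : E, (∀ a, ∃ k : ℕ, g a ^ k • x = 0) → x = 0)
    (h : Module.Finite B (HH' (Ig g) 1 (ModuleCat.of B Q))) :
    Module.Finite B (DRing.torsionSub (Ig g) (E ⧸ LinearMap.range e)) := by
  have hS := LocCohBase.subSeq_shortExact (LinearMap.range e)
  have h0 : Subsingleton (HH' (Ig g) 0 (LocCohBase.subSeq (LinearMap.range e)).X₂) :=
    (LocCohBase.subsingleton_H_zero_iff (Ig g) E).2 (torsion_eq_bot hsep)
  have hδ : Function.Injective (LocCohBase.δ (I := Ig g) hS 0) := (injective_iff_map_eq_zero _).2 fun x hx => by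
    obtain ⟨y, rfl⟩ := (LocCohBase.exact₃ hS 0 x).1 hx
    rw [Subsingleton.elim y 0, map_zero]
  have : Module.Finite B (HH' (Ig g) 1 (LocCohBase.subSeq (LinearMap.range e)).X₁) :=
    Module.Finite.equiv (((localCohomology (Ig g) 1).mapIso
      (LinearEquiv.ofInjective e he).toModuleIso).toLinearEquiv)
  have : Module.Finite B (LocCoh.H (Ig g) 0 (E ⧸ LinearMap.range e)) := Module.Finite.of_injective _ hδ
  exact Module.Finite.equiv (LocCohBase.h0Equiv (Ig g) (E ⧸ LinearMap.range e))

end Groth.ParaLift82
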