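import Groth.Agent.Pi1Lef.LocalCoh
import Groth.Agent.ParaLift82.KilledTrans
import Groth.Agent.ParaLift82.TfEmbed
import Groth.Agent.DualCore.FiniteMap
import Groth.Agent.Calg1.Completion
import Groth.Agent.S11614

/-!
# Reduction to a regular `f`: killers of local cohomology from depth conditions

If `depth A_p + dim A/p > 3` for the primes `p` avoiding `f` with `V(p)` meeting `V(f)` off the closed point,
then there are `c j` generating, with `f`, an ideal of definition, such that `c j * f^N` kills `H^i`, `i ≤ 3`;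
modulo the torsion for the `c j * f` the element `f` is regular and `H^1` is killed by a power of the maximal ideal.
-/

set_option autoImplicit false
universe u

open CategoryTheory IsLocalRing
attribute [local instance] HasDerivedCategory.standard

namespace Groth.ParaLift82

open Groth.LocCohBase (HH' δ subSeq)

variable {A : Type u} [CommRing A] [IsNoetherianRing A]

section Local

variable [IsLocalRing A]

theorem exists_killer_at (hd : ∃ ω : Dual.D A, Dual.IsDualizing A ω) {f : A}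
    (hc : ∀ p : Ideal A, ∀ _ : p.IsPrime, f ∉ p → (p ⊔ Ideal.span {f}).radical ≠ maximalIdeal A →
      (3 : WithBot ℕ∞) < (LocCoh.depth (Localization.AtPrime p) (Localization.AtPrime p) : WithBot ℕ∞) + ringKrullDim (A ⧸ p))
    (q : Ideal A) [q.IsPrime] (hfq : f ∈ q) (hqm : q ≠ maximalIdeal A) (i : ℕ) (hi : i ≤ 3) :
    ∃ (c : A) (N : ℕ), c ∉ q ∧ c * f ^ N ∈ Module.annihilator A (LocCoh.H (maximalIdeal A) i A) := by
  obtain ⟨ω₀, hω₀⟩ := hd
  obtain ⟨n, hn, -, -⟩ := Groth.DualCore.exists_normalized hω₀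
  have hω : Dual.IsDualizing A (ω₀⟦n⟧) := Groth.DualCore.isDualizing_shift hω₀ n
  rw [← Groth.Agent.S1713.result A _ hω hn A i]
  have : Module.Finite A (Dual.inD A A ⟶ (ω₀⟦n⟧)⟦(-(i : ℤ))⟧) :=
    Groth.DualCore.finite_hom_dualizing hω _ (fun j => Groth.DualCore.finite_HD_inD A j) _
  let J := Module.annihilator A (Dual.inD A A ⟶ (ω₀⟦n⟧)⟦(-(i : ℤ))⟧)
  by_contra hne
  simp only [not_exists, not_and] at hne
  obtain ⟨P, hP, hJP, hdisj⟩ := J.exists_le_prime_disjoint (q.primeCompl ⊔ Submonoid.powers f) (by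
    rw [Set.disjoint_left]
    intro x hxJ hxS
    obtain ⟨y, hy, z, hz, rfl⟩ := Submonoid.mem_sup.1 hxS
    obtain ⟨N, rfl⟩ := hz
    exact hne y N hy hxJ)
  have hPq : P ≤ q := fun x hx => by
    by_contra hxq
    exact Set.disjoint_left.1 hdisj hx (show x ∈ q.primeCompl ⊔ Submonoid.powers f from
      Submonoid.mem_sup_left hxq)
  have hfP : f ∉ P := fun hx => Set.disjoint_left.1 hdisj hx
    (show f ∈ q.primeCompl ⊔ Submonoid.powers f from Submonoid.mem_sup_right (Submonoid.mem_powers f))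
  have hlt := hc P hP hfP fun h => hqm (le_antisymm (le_maximalIdeal Ideal.IsPrime.ne_top') (by
    rw [← h]
    exact (Ideal.IsPrime.radical_le_iff inferInstance).2 (sup_le hPq ((Ideal.span_singleton_le_iff_mem _).2 hfq))))
  have hsupp : (⟨P, hP⟩ : PrimeSpectrum A) ∈ Module.support A (Dual.inD A A ⟶ (ω₀⟦n⟧)⟦(-(i : ℤ))⟧) :=
    Module.mem_support_iff_of_finite.2 hJP
  have h := (Groth.Agent.S1712.result A _ hω hn A i ⟨P, hP⟩).1 ⟨i, le_rfl, hsupp⟩
  rw [Calg1.BE.depth_localizedModule_self] at h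
  have := hlt.trans_le h
  rw [show (3 : WithBot ℕ∞) = ((3 : ℕ) : WithBot ℕ∞) from rfl, Nat.cast_lt] at this
  omega

theorem exists_killers (hd : ∃ ω : Dual.D A, Dual.IsDualizing A ω) {f : A} (hf : f ∈ maximalIdeal A)
    (hc : ∀ p : Ideal A, ∀ _ : p.IsPrime, f ∉ p → (p ⊔ Ideal.span {f}).radical ≠ maximalIdeal A →
      (3 : WithBot ℕ∞) < (LocCoh.depth (Localization.AtPrime p) (Localization.AtPrime p) : WithBot ℕ∞) + ringKrullDim (A ⧸ p)) :
    ∃ (κ : Type u) (_ : Finite κ) (c : κ → A) (N : ℕ),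
      maximalIdeal A ≤ (Ideal.span (Set.range c) ⊔ Ideal.span {f}).radical ∧
      ∀ j (i : ℕ), i ≤ 3 → ∀ x : HH' (maximalIdeal A) i (ModuleCat.of A A), (c j * f ^ N) • x = 0 := by
  classical
  let Jn : ℕ → Ideal A := fun i => Module.annihilator A (LocCoh.H (maximalIdeal A) i A)
  let C : ℕ →o Ideal A := ⟨fun N => ⨅ i ∈ Finset.range 4, Submodule.comap (LinearMap.lsmul A A (f ^ N)) (Jn i),
    monotone_nat_of_le_succ fun N => iInf_mono fun i => iInf_mono fun _ x hx => by
      simp only [Submodule.mem_comap, LinearMap.lsmul_apply, smul_eq_mul] at hx ⊢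
      rw [pow_succ', mul_assoc]
      exact (Jn i).mul_mem_left _ hx⟩
  obtain ⟨N, hN⟩ := monotone_stabilizes_iff_noetherian.2 inferInstance C
  obtain ⟨s, hs⟩ := IsNoetherian.noetherian (C N)
  have hmem : ∀ x M, x ∈ C M ↔ ∀ i, i ≤ 3 → x * f ^ M ∈ Jn i := fun x M => by
    simp only [C, OrderHom.coe_mk, Submodule.mem_iInf, Submodule.mem_comap, LinearMap.lsmul_apply, smul_eq_mul,
      Finset.mem_range, mul_comm x]
    exact ⟨fun h i hi => h i (by omega), fun h i hi => h i (by omega)⟩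
  refine ⟨s, inferInstance, fun j => j.1, N, ?_, fun j i hi x => ?_⟩
  · rw [show Set.range (fun j : s => (j : A)) = (s : Set A) from Subtype.range_val,
      show Ideal.span (s : Set A) = C N from hs, Ideal.radical_eq_sInf, le_sInf_iff]
    rintro q ⟨hle, hq⟩
    by_contra hne
    have hqm : q ≠ maximalIdeal A := fun e => hne e.ge
    have hfq : f ∈ q := hle (Submodule.mem_sup_right (Ideal.mem_span_singleton_self f))
    choose c M hcq hc' using fun i : Fin 4 => exists_killer_at hd hc q hfq hqm i (by omega)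
    have hP : ∏ i, c i ∈ C (∑ i, M i) := (hmem _ _).2 fun i hi => by
      rw [← Finset.mul_prod_erase Finset.univ c (Finset.mem_univ (⟨i, by omega⟩ : Fin 4)),
        ← Finset.add_sum_erase Finset.univ M (Finset.mem_univ (⟨i, by omega⟩ : Fin 4)), pow_add,
        mul_mul_mul_comm]
      exact (Jn i).mul_mem_right _ (hc' ⟨i, by omega⟩)
    have hCN : C (∑ i, M i) ≤ C N := by
      rcases le_total N (∑ i, M i) with h | h
      · exact (hN _ h).ge
      · exact C.monotone h
    obtain ⟨i, -, hi⟩ := hq.prod_mem_iff.1 (hle (Submodule.mem_sup_left (hCN hP)))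
    exact hcq i hi
  · exact Module.mem_annihilator.1 ((hmem j.1 N).1 (hs ▸ Submodule.subset_span j.2) i hi) x

end Local

variable {κ : Type u} [Finite κ] (c : κ → A) (f : A)

/-- The torsion to divide by. -/
noncomputable def redTor : Ideal A := DRing.torsionSub (Ig fun j => c j * f) A

theorem isSMulRegular_redTor : IsSMulRegular (A ⧸ redTor c f) (Ideal.Quotient.mk (redTor c f) f) := by
  refine IsSMulRegular.of_right_eq_zero_of_smul fun z hz => ?_
  obtain ⟨z, rfl⟩ := Ideal.Quotient.mk_surjective z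
  rw [smul_eq_mul, ← map_mul, Ideal.Quotient.eq_zero_iff_mem] at hz
  refine Ideal.Quotient.eq_zero_iff_mem.2 (mem_torsion_iff.2 fun j => ?_)
  obtain ⟨k, hk⟩ := (mem_torsion_iff (g := fun j => c j * f)).1 hz j
  refine ⟨k + 1, ?_⟩
  simp only [smul_eq_mul] at hk ⊢
  rw [pow_succ, show (c j * f) ^ k * (c j * f) * z = c j * ((c j * f) ^ k * (f * z)) by ring, hk, mul_zero]

theorem exists_pow_redTor : ∃ k : ℕ, ∀ j, ∀ γ ∈ redTor c f, (c j * f) ^ k * γ = 0 := by
  classical
  cases nonempty_fintype κ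
  have : Module.Finite A (DRing.torsionSub (Ig fun j => c j * f) A) :=
    Module.Finite.iff_fg.2 (IsNoetherian.noetherian _)
  choose K hK using fun j => exists_pow_kill (r := c j * f) (M := DRing.torsionSub (Ig fun j => c j * f) A)
    fun x => by
      obtain ⟨k, hk⟩ := (mem_torsion_iff (g := fun j => c j * f)).1 x.2 j
      exact ⟨k, Subtype.ext hk⟩
  refine ⟨Finset.univ.sup K, fun j γ hγ => ?_⟩
  obtain ⟨d, hd⟩ := Nat.exists_eq_add_of_le (Finset.le_sup (f := K) (Finset.mem_univ j))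
  rw [hd, add_comm, pow_add, mul_assoc, show (c j * f) ^ K j * γ = 0 from congrArg Subtype.val (hK j ⟨γ, hγ⟩),
    mul_zero]

theorem smul_H_eq_zero_of_pow {I : Ideal A} {J : Ideal A} {r : A} (hr : ∀ γ ∈ J, r * γ = 0) (i : ℕ) {s : A}
    (hs : ∀ x : HH' I i (ModuleCat.of A A), s • x = 0) (z : HH' I i (ModuleCat.of A (A ⧸ J))) :
    (s * r) • z = 0 := by
  obtain ⟨y, hy⟩ : r • z ∈ Set.range ((localCohomology I i).map (subSeq J).g) := by
    refine (LocCohBase.exact₃ (LocCohBase.subSeq_shortExact J) i _).1 ?_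
    rw [map_smul, ← map_smul_id_apply, show r • 𝟙 (subSeq J).X₁ = 0 from
      ModuleCat.hom_ext (LinearMap.ext fun γ => Subtype.ext (hr γ.1 γ.2)), map_zero_apply]
  rw [mul_smul, ← hy, ← map_smul, hs, map_zero]

theorem isAdicComplete_quotient_span (J : Ideal A) [IsAdicComplete (Ideal.span {f}) A] :
    IsAdicComplete (Ideal.span {Ideal.Quotient.mk J f}) (A ⧸ J) := by
  have : IsHausdorff (Ideal.span {f}) (A ⧸ J) :=
    IsHausdorff.of_le_jacobson _ _ (IsAdicComplete.le_jacobson_bot _)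
  have hs : Function.Surjective (AdicCompletion.of (Ideal.span {f}) (A ⧸ J)) := fun z => by
    obtain ⟨w, rfl⟩ := AdicCompletion.map_surjective (Ideal.span {f}) (Submodule.mkQ_surjective J) z
    obtain ⟨x, rfl⟩ := AdicCompletion.of_surjective (Ideal.span {f}) A w
    exact ⟨Submodule.mkQ J x, (AdicCompletion.map_of (Ideal.span {f}) (Submodule.mkQ J) x).symm⟩
  have h1 : IsAdicComplete (Ideal.span {f}) (A ⧸ J) :=
    AdicCompletion.of_bijective_iff.1 ⟨AdicCompletion.of_injective _ _, hs⟩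
  have h2 := (IsAdicComplete.map_algebraMap_iff (Ideal.span {f}) (A ⧸ J) (S := A ⧸ J)).2 h1
  rwa [Ideal.map_span, Set.image_singleton] at h2

/-- Killers over the quotient, in terms of its own local cohomology. -/
theorem smul_H_quotient {I J : Ideal A} (i : ℕ) {s : A}
    (h : ∀ z : HH' I i (ModuleCat.of A (A ⧸ J)), s • z = 0)
    (z : HH' (I.map (Ideal.Quotient.mk J)) i (ModuleCat.of (A ⧸ J) (A ⧸ J))) :
    Ideal.Quotient.mk J s • z = 0 := by
  obtain ⟨φ, hφ⟩ := Groth.Agent.S11614.result A (A ⧸ J) I (A ⧸ J) i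
  exact φ.injective ((hφ s z).trans ((h (φ z)).trans (map_zero φ).symm))

variable [IsLocalRing A]

theorem exists_pow_H_one (hd : ∃ ω : Dual.D A, Dual.IsDualizing A ω) [IsLocalRing (A ⧸ redTor c f)]
    {s : κ → ℕ} (hs : ∀ j, ∀ z : HH' (maximalIdeal (A ⧸ redTor c f)) 1 (ModuleCat.of (A ⧸ redTor c f) (A ⧸ redTor c f)),
      Ideal.Quotient.mk (redTor c f) (c j ^ s j * f ^ s j) • z = 0) :
    ∃ K : ℕ, ∀ b ∈ maximalIdeal (A ⧸ redTor c f) ^ K,
      ∀ z : HH' (maximalIdeal (A ⧸ redTor c f)) 1 (ModuleCat.of (A ⧸ redTor c f) (A ⧸ redTor c f)), b • z = 0 := by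
  let J := redTor c f
  let Q := A ⧸ J
  obtain ⟨ω, hω⟩ := hd
  obtain ⟨ω₀, hω₀⟩ := Groth.DualCore.exists_isDualizing_finite Q hω
  obtain ⟨n, hn, -, -⟩ := Groth.DualCore.exists_normalized hω₀
  have hω' : Dual.IsDualizing Q (ω₀⟦n⟧) := Groth.DualCore.isDualizing_shift hω₀ n
  have hann := Groth.Agent.S1713.result Q _ hω' hn Q 1
  have : Module.Finite Q (Dual.inD Q Q ⟶ (ω₀⟦n⟧)⟦(-((1 : ℕ) : ℤ))⟧) :=
    Groth.DualCore.finite_hom_dualizing hω' _ (fun j => Groth.DualCore.finite_HD_inD Q j) _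
  let Ann := Module.annihilator Q (LocCoh.H (maximalIdeal Q) 1 Q)
  suffices hm : maximalIdeal Q ≤ Ann.radical by
    obtain ⟨K, hK⟩ := Ideal.exists_pow_le_of_le_radical_of_fg hm (IsNoetherian.noetherian _)
    exact ⟨K, fun b hb z => Module.mem_annihilator.1 (hK hb) z⟩
  rw [Ideal.radical_eq_sInf, le_sInf_iff]
  rintro P ⟨hle, hP⟩
  by_contra hne
  have hj : ∀ j, Ideal.Quotient.mk J (c j * f) ∈ P := fun j => by
    have h1 : Ideal.Quotient.mk J (c j ^ s j * f ^ s j) ∈ P := hle (Module.mem_annihilator.2 (hs j))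
    rw [← mul_pow, map_pow] at h1
    exact hP.mem_of_pow_mem _ h1
  have hsupp : (⟨P, hP⟩ : PrimeSpectrum Q) ∈ Module.support Q (Dual.inD Q Q ⟶ (ω₀⟦n⟧)⟦(-((1 : ℕ) : ℤ))⟧) :=
    Module.mem_support_iff_of_finite.2 (hann ▸ hle)
  have h := (Groth.Agent.S1712.result Q _ hω' hn Q 1 ⟨P, hP⟩).1 ⟨1, le_rfl, hsupp⟩
  have hdim : (1 : WithBot ℕ∞) ≤ ringKrullDim (Q ⧸ P) := by
    rw [Ega4Algebra1.ringKrullDim_quotient_eq_coheight Q ⟨P, hP⟩]
    refine WithBot.coe_le_coe.2 (Order.one_le_iff_pos.2 (pos_iff_ne_zero.2 fun h0 => hne ?_))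
    exact (Order.coheight_eq_zero.1 h0) (show (⟨P, hP⟩ : PrimeSpectrum Q) ≤ IsLocalRing.closedPoint Q from
      le_maximalIdeal hP.ne_top)
  have hdepth : ¬ (1 : ℕ∞) ≤ LocCoh.depth (Localization.AtPrime P) (LocalizedModule P.primeCompl Q) := fun h1 => by
    have h2 : (1 : WithBot ℕ∞) + 1 ≤ 1 := le_trans (add_le_add (WithBot.coe_le_coe.2 h1) hdim) h
    exact absurd h2 (by decide)
  rw [Groth.LocCohBase.one_le_depth_localized_iff P Q, not_not, AssociatedPrimes.mem_iff,
    isAssociatedPrime_iff] at hdepth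
  obtain ⟨-, x, hx⟩ := hdepth
  obtain ⟨x, rfl⟩ := Ideal.Quotient.mk_surjective x
  have hx0 : x ∈ J := by
    refine mem_torsion_iff.2 fun j => ?_
    have h1 := hj j
    rw [hx, Submodule.mem_colon_singleton, Submodule.mem_bot, smul_eq_mul, ← map_mul,
      Ideal.Quotient.eq_zero_iff_mem] at h1
    obtain ⟨k, hk⟩ := (mem_torsion_iff (g := fun j => c j * f)).1 h1 j
    exact ⟨k + 1, by simp only [smul_eq_mul] at hk ⊢; rw [pow_succ, mul_assoc]; exact hk⟩
  refine hP.ne_top ((Ideal.eq_top_iff_one _).2 ?_)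
  rw [hx, Submodule.mem_colon_singleton, Submodule.mem_bot, one_smul, Ideal.Quotient.eq_zero_iff_mem.2 hx0]

end Groth.ParaLift82
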