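import Groth.Agent.ParaLift82.LefPunctured
import Groth.Agent.ParaLift82.Depth
import Groth.Agent.LefSections.Covers
import Groth.Agent.LocFree.Basic
import Groth.Agent.LocCohBase.Connected
import Groth.Prelude.Def_Formal2

/-!
# Connectedness and injectivity of restriction to a formal hyperplane section
-/

set_option autoImplicit false
universe u

open CategoryTheory AlgebraicGeometry TopologicalSpace IsLocalRing Groth.PicAux

namespace Groth.ParaLift82

variable {B : Type u} [CommRing B] [IsLocalRing B] [IsNoetherianRing B] {J : Ideal B}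

theorem restrict_closedIdeal_fullyFaithful [IsAdicComplete J B] {x y : B} (hxm : x ∈ maximalIdeal B)
    (hym : y ∈ maximalIdeal B) (hreg : ∀ n, RegPair (J ^ (n + 1)) x y) :
    (FEt.restrict (closedIdeal (FEt.puncturedSpec B) J).subschemeι).Full ∧
      (FEt.restrict (closedIdeal (FEt.puncturedSpec B) J).subschemeι).Faithful := by
  refine Groth.LefSections.restrict_fullyFaithful _ fun A => homToFormalBijective_punctured hxm hym hreg _ ?_
  have : IsFinite A.hom := A.prop.1
  have : Etale A.hom := A.prop.2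
  exact Groth.LocFree.isFinLocFree_homSh (Groth.RefRank.push_isFinLocFree A.hom) (Groth.LocFree.isFinLocFree_unit _)

theorem connectedSpace_punctured_of_depth {R : Type u} [CommRing R] [IsLocalRing R] [IsNoetherianRing R]
    (h : 2 ≤ LocCoh.depth R R) : ConnectedSpace ↥(FEt.puncturedSpec R) := by
  have h1 := Groth.LocCohBase.isConnected_punctured h
  have e : {x : PrimeSpectrum R | x.asIdeal ≠ maximalIdeal R} =
      ((FEt.puncturedSpec R : (Spec (CommRingCat.of R)).Opens) : Set (Spec (CommRingCat.of R))) :=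
    Set.ext fun x => show x.asIdeal ≠ maximalIdeal R ↔ x ≠ closedPoint R from
      ⟨fun hx hc => hx (congrArg PrimeSpectrum.asIdeal hc), fun hx hc => hx (PrimeSpectrum.ext hc)⟩
  rw [e] at h1
  exact isConnected_iff_connectedSpace.1 h1

theorem connectedSpace_closedIdeal [IsLocalRing (B ⧸ J)] (hJ : J ≠ ⊤)
    (h : 2 ≤ LocCoh.depth (B ⧸ J) (B ⧸ J)) :
    ConnectedSpace ↥(closedIdeal (FEt.puncturedSpec B) J).subscheme := by
  let 𝓙 := closedIdeal (FEt.puncturedSpec B) J
  have h1 := connectedSpace_punctured_of_depth h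
  have hemb : Topology.IsInducing 𝓙.subschemeι :=
    𝓙.subschemeι.isClosedEmbedding.isInducing
  have hι := (FEt.puncturedSpec B).ι.isOpenEmbedding.isInducing
  refine connectedSpace_iff_univ.2 ⟨?_, ?_⟩
  swap
  · rw [← hemb.isPreconnected_image, ← hι.isPreconnected_image]
    have himg : (FEt.puncturedSpec B).ι '' (𝓙.subschemeι '' Set.univ) =
        quotMap J '' (FEt.puncturedSpec (B ⧸ J) : Set _) := by
      rw [Set.image_univ, Scheme.IdealSheafData.range_subschemeι, Scheme.IdealSheafData.support_comap]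
      have hker : ((quotMap J).ker.support : Set (SpB B)) = Set.range (quotMap J) := by
        rw [Scheme.Hom.support_ker]
        exact (IsClosedImmersion.spec_of_surjective _ Ideal.Quotient.mk_surjective).base_closed.isClosed_range.closure_eq
      rw [← quotMap_preimage_punctured hJ]
      ext z
      constructor
      · rintro ⟨w, hw, rfl⟩
        obtain ⟨v, hv⟩ := (Set.ext_iff.1 hker _).1 hw
        exact ⟨v, show quotMap J v ∈ FEt.puncturedSpec B from hv.symm ▸ w.2, hv⟩
      · rintro ⟨v, hv, rfl⟩
        exact ⟨⟨_, hv⟩, (Set.ext_iff.1 hker _).2 ⟨v, rfl⟩, rfl⟩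
    rw [himg]
    exact (isPreconnected_iff_preconnectedSpace.2 inferInstance).image _ (quotMap J).continuous.continuousOn
  · obtain ⟨⟨v, hv⟩⟩ := h1.toNonempty
    rw [← quotMap_preimage_punctured hJ] at hv
    have hmem : (⟨_, hv⟩ : ↥(FEt.puncturedSpec B)) ∈ Set.range 𝓙.subschemeι := by
      rw [Scheme.IdealSheafData.range_subschemeι, Scheme.IdealSheafData.support_comap]
      exact (quotMap J).range_subset_ker_support ⟨v, rfl⟩
    obtain ⟨w, -⟩ := hmem
    exact ⟨w, trivial⟩

theorem picPullbackInjective_closedIdeal (hJ : J ≠ ⊤) [IsLocalRing (B ⧸ J)] (hgr : FreeGr J) {x y w : B}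
    (hxm : x ∈ maximalIdeal B) (hym : y ∈ maximalIdeal B) (hwm : w ∈ maximalIdeal B)
    (h : RegTriple J x y w) :
    Formal2.PicPullbackInjective (closedIdeal (FEt.puncturedSpec B) J).subschemeι := by
  intro L hL ⟨e⟩
  let U := FEt.puncturedSpec B
  let d : (↑(quotMap J ⁻¹ᵁ U) : Scheme.{u}) ⟶ (closedIdeal U J).subscheme :=
    Limits.pullback.lift (quotMap J ∣_ U) ((quotMap J ⁻¹ᵁ U).ι ≫ (quotMap J).toImage)
      (by rw [morphismRestrict_ι, Category.assoc]; exact congrArg _ (quotMap J).toImage_imageι.symm) ≫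
      ((quotMap J).ker.comapIso U.ι).inv
  have hd : d ≫ (closedIdeal U J).subschemeι = quotMap J ∣_ U := by
    simp only [d, Category.assoc, Scheme.IdealSheafData.comapIso_inv_subschemeι]
    exact Limits.pullback.lift_fst _ _ _
  obtain ⟨e'⟩ := pullback_structure_iso d
  refine trivial_of_section hJ hgr hxm hym hwm h L hL ⟨?_⟩
  exact (Scheme.Modules.pullbackCongr hd.symm).app L ≪≫
    ((Scheme.Modules.pullbackComp d (closedIdeal U J).subschemeι).app L).symm ≪≫
    (Scheme.Modules.pullback d).mapIso e ≪≫ e'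

end Groth.ParaLift82
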