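import Groth.Agent.ParaLift82.Gr
import Mathlib.RingTheory.Filtration

/-!
# Lifting trivialisations of unit cocycles along an ideal
-/

set_option autoImplicit false
universe u

open CategoryTheory AlgebraicGeometry TopologicalSpace Groth.PicAux Groth.ParaFormal

namespace Groth.ParaLift82

variable {B : Type u} [CommRing B] {ι : Type u} [Finite ι] {g : ι → B}
  (η : ∀ a b, Γ(SpB B, Dg g a ⊓ Dg g b))

/-- `t` trivialises `η` modulo `I`. -/
def Approx (I : Ideal B) (t : ∀ a, Γ(SpB B, Dg g a)) : Prop :=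
  ∀ a b, resX _ inf_le_right (t b) - resX _ inf_le_left (t a) * η a b ∈ idl I (Dg g a ⊓ Dg g b)

variable {η} {J : Ideal B} {x y w : B}

theorem lift_step (hJ : FreeGr J) (h : RegTriple J x y w) (hx : InRad g x) (hy : InRad g y)
    (hw : InRad g w) (hη : IsCocycle (Dg g) η) (t s : ∀ a, Γ(SpB B, Dg g a))
    (hts : ∀ a, t a * s a - 1 ∈ idl J _) {n : ℕ} (ht : Approx η (J ^ (n + 1)) t) :
    ∃ t' : ∀ a, Γ(SpB B, Dg g a), Approx η (J ^ (n + 2)) t' ∧ ∀ a, t' a - t a ∈ idl J _ := by
  classical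
  obtain ⟨r, e, he, hu⟩ := hJ (n + 1)
  let δ : ∀ a b, Γ(SpB B, Dg g a ⊓ Dg g b) := fun a b =>
    resX _ inf_le_right (t b) - resX _ inf_le_left (t a) * η a b
  choose c hc using fun a b => exists_coords (t := δ a b * resX _ inf_le_right (s b)) he
    (Ideal.mul_mem_right _ _ (ht a b))
  have hcc : ∀ (i : Fin r) a b d (T : (SpB B).Opens) (ha : T ≤ Dg g a) (hb : T ≤ Dg g b)
      (hd : T ≤ Dg g d), T = D (g a * g b * g d) →
      resX _ (le_inf ha hd) (c a d i) -
        (resX _ (le_inf ha hb) (c a b i) + resX _ (le_inf hb hd) (c b d i)) ∈ idl J T := by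
    intro i a b d T ha hb hd hT
    refine coords_mem (c := fun i => resX _ (le_inf ha hd) (c a d i) -
      (resX _ (le_inf ha hb) (c a b i) + resX _ (le_inf hb hd) (c b d i))) hu hT ?_ i
    have h1 := congrArg (resX _ (le_inf ha hd)) (hc a d)
    have h2 := congrArg (resX _ (le_inf ha hb)) (hc a b)
    have h3 := congrArg (resX _ (le_inf hb hd)) (hc b d)
    simp only [δ, map_sum, map_mul, map_sub, resX_resX, resX_cst] at h1 h2 h3
    simp only [sub_mul, add_mul, Finset.sum_sub_distrib, Finset.sum_add_distrib, ← h1, ← h2, ← h3]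
    have hrel := hη.rel a b d T ha hb hd
    have hab : resX _ hb (t b) - resX _ ha (t a) * resX _ (le_inf ha hb) (η a b) ∈
        idl (J ^ (n + 1)) T := by
      simpa only [map_sub, map_mul, resX_resX] using res_mem (le_inf ha hb) (ht a b)
    have hbd : resX _ hd (t d) - resX _ hb (t b) * resX _ (le_inf hb hd) (η b d) ∈ idl J T := by
      simpa only [map_sub, map_mul, resX_resX] using
        idl_mono (Ideal.pow_le_self (Nat.succ_ne_zero n)) (res_mem (le_inf hb hd) (ht b d))
    have hsd : resX _ hd (t d) * resX _ hd (s d) - 1 ∈ idl J T := by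
      simpa using res_mem hd (hts d)
    have hsb : resX _ hb (t b) * resX _ hb (s b) - 1 ∈ idl J T := by
      simpa using res_mem hb (hts b)
    set ta := resX _ ha (t a)
    set tb := resX _ hb (t b)
    set td := resX _ hd (t d)
    set sb := resX _ hb (s b)
    set sd := resX _ hd (s d)
    set ηad := resX _ (le_inf ha hd) (η a d)
    set ηab := resX _ (le_inf ha hb) (η a b)
    set ηbd := resX _ (le_inf hb hd) (η b d)
    have e1 : (td - ta * ηad) * sd - ((tb - ta * ηab) * sb + (td - tb * ηbd) * sd) =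
        (tb - ta * ηab) * (-(sd * sb) * (td - tb * ηbd) + sb * (td * sd - 1) - ηbd * sd * (tb * sb - 1)) := by
      rw [hrel]; ring
    rw [idl, pow_succ, Ideal.map_mul]
    convert Ideal.mul_mem_mul hab (Ideal.sub_mem _ (Ideal.add_mem _ (Ideal.mul_mem_left _
      (-(sd * sb)) hbd) (Ideal.mul_mem_left _ sb hsd)) (Ideal.mul_mem_left _ (ηbd * sd) hsb)) using 1
    rw [← e1]; ring
  choose W hW using fun i => exists_primitive h hx hy hw (fun a b => c a b i) (hcc i)
  let S : ∀ a, Γ(SpB B, Dg g a) := fun a => ∑ i, W i a * cst _ (e i)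
  have hS : ∀ a, S a ∈ idl (J ^ (n + 1)) (Dg g a) := fun a => Ideal.sum_mem _ fun i _ =>
    Ideal.mul_mem_left _ _ (Ideal.mem_map_of_mem _ (he ▸ Ideal.subset_span ⟨i, rfl⟩))
  refine ⟨fun a => t a + t a * S a, fun a b => ?_, fun a => ?_⟩
  · simp only [map_add, map_mul]
    have hsb : resX _ inf_le_right (t b) * resX _ inf_le_right (s b) - 1 ∈ idl J (Dg g a ⊓ Dg g b) := by
      simpa using res_mem (inf_le_right : Dg g a ⊓ Dg g b ≤ _) (hts b)
    have hsum : δ a b * resX _ inf_le_right (s b) -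
        (resX _ inf_le_left (S a) - resX _ inf_le_right (S b)) ∈ idl (J ^ (n + 2)) _ := by
      simp only [S, map_sum, map_mul, resX_cst]
      rw [hc a b, ← Finset.sum_sub_distrib, ← Finset.sum_sub_distrib]
      refine Ideal.sum_mem _ fun i _ => ?_
      rw [show c a b i * cst _ (e i) - (resX _ inf_le_left (W i a) * cst _ (e i) -
        resX _ inf_le_right (W i b) * cst _ (e i)) = (c a b i -
          (resX _ inf_le_left (W i a) - resX _ inf_le_right (W i b))) * cst _ (e i) by ring,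
        idl, pow_succ', Ideal.map_mul]
      exact Ideal.mul_mem_mul (hW i a b) (Ideal.mem_map_of_mem _ (he ▸ Ideal.subset_span ⟨i, rfl⟩))
    have hδ := ht a b
    have hSa := res_mem (inf_le_left : Dg g a ⊓ Dg g b ≤ _) (hS a)
    simp only [δ] at hsum
    set ta := resX _ inf_le_left (t a)
    set tb := resX _ inf_le_right (t b)
    set sb := resX _ inf_le_right (s b)
    set Sa := resX _ inf_le_left (S a)
    set Sb := resX _ inf_le_right (S b)
    rw [show tb + tb * Sb - (ta + ta * Sa) * η a b = tb * ((tb - ta * η a b) * sb - (Sa - Sb)) +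
      (tb - ta * η a b) * Sa - (tb - ta * η a b) * (tb * sb - 1) by ring]
    refine Ideal.sub_mem _ (Ideal.add_mem _ (Ideal.mul_mem_left _ _ hsum) ?_) ?_
    · rw [idl, pow_succ, Ideal.map_mul]
      exact Ideal.mul_mem_mul hδ (idl_mono (Ideal.pow_le_self (Nat.succ_ne_zero n)) hSa)
    · rw [idl, pow_succ, Ideal.map_mul]
      exact Ideal.mul_mem_mul hδ hsb
  · rw [add_sub_cancel_left]
    exact Ideal.mul_mem_left _ _ (idl_mono (Ideal.pow_le_self (Nat.succ_ne_zero n)) (hS a))

theorem lift_all (hJ : FreeGr J) (h : RegTriple J x y w) (hx : InRad g x) (hy : InRad g y)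
    (hw : InRad g w) (hη : IsCocycle (Dg g) η) (t s : ∀ a, Γ(SpB B, Dg g a))
    (hts : ∀ a, t a * s a - 1 ∈ idl J _) (ht : Approx η J t) :
    ∀ n, ∃ t' : ∀ a, Γ(SpB B, Dg g a), Approx η (J ^ (n + 1)) t' ∧ ∀ a, t' a - t a ∈ idl J _ := by
  intro n
  induction n with
  | zero => exact ⟨t, by rwa [zero_add, pow_one], fun a => by simp⟩
  | succ n ih =>
    obtain ⟨t₁, h₁, h₁'⟩ := ih
    obtain ⟨t₂, h₂, h₂'⟩ := lift_step hJ h hx hy hw hη t₁ s (fun a => by
      rw [show t₁ a * s a - 1 = (t₁ a - t a) * s a + (t a * s a - 1) by ring]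
      exact Ideal.add_mem _ (Ideal.mul_mem_right _ _ (h₁' a)) (hts a)) h₁
    refine ⟨t₂, h₂, fun a => ?_⟩
    rw [← sub_add_sub_cancel (t₂ a) (t₁ a) (t a)]
    exact Ideal.add_mem _ (h₂' a) (h₁' a)

theorem exists_numerators (hη : IsCocycle (Dg g) η) :
    ∃ (N : ℕ) (r : ι → ι → B),
      (∀ a b, cst (Dg g a ⊓ Dg g b) (r a b) = cst _ ((g a * g b) ^ N) * η a b) ∧
      ∀ a b c, r c a * r a b = r c b * g a ^ (2 * N) := by
  classical
  cases nonempty_fintype ι
  obtain ⟨N, r, hr⟩ := exists_num_family (fun i : ι × ι => Dg g i.1 ⊓ Dg g i.2)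
    (fun i => g i.1 * g i.2) (fun i => (D_mul _ _).symm) (fun i => η i.1 i.2)
  have hz : ∀ i : ι × ι × ι, ∃ p : ℕ, (g i.1 * g i.2.1 * g i.2.2) ^ p *
      (r (i.2.2, i.1) * r (i.1, i.2.1) - r (i.2.2, i.2.1) * g i.1 ^ (2 * N)) = 0 := by
    rintro ⟨a, b, c⟩
    let T := Dg g a ⊓ Dg g b ⊓ Dg g c
    have ha : T ≤ Dg g a := inf_le_left.trans inf_le_left
    have hb : T ≤ Dg g b := inf_le_left.trans inf_le_right
    have hc : T ≤ Dg g c := inf_le_right
    refine (cst_eq_zero_iff (O := T) (by rw [D_mul, D_mul]) _).1 ?_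
    have h1 := congrArg (resX _ (le_inf hc ha : T ≤ _)) (hr (c, a))
    have h2 := congrArg (resX _ (le_inf ha hb : T ≤ _)) (hr (a, b))
    have h3 := congrArg (resX _ (le_inf hc hb : T ≤ _)) (hr (c, b))
    simp only [map_mul, resX_cst, mul_pow] at h1 h2 h3
    rw [map_sub, map_mul, map_mul, ← h1, ← h2, ← h3, two_mul, pow_add, map_mul,
      hη.rel c a b T hc ha hb]
    ring
  choose p hp using hz
  let P := Finset.univ.sup p
  refine ⟨N + P, fun a b => (g a * g b) ^ P * r (a, b), fun a b => ?_, fun a b c => ?_⟩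
  · rw [map_mul, ← hr (a, b), pow_add, map_mul]; ring
  · obtain ⟨m, hm⟩ := Nat.exists_eq_add_of_le (Finset.le_sup (f := p) (Finset.mem_univ (a, b, c)))
    rw [← sub_eq_zero, show P = p (a, b, c) + m from hm]
    linear_combination (g c ^ m * g a ^ m * g a ^ m * g b ^ m * g a ^ p (a, b, c)) * hp (a, b, c)

theorem mem_smul_top_pi {κ : Type*} [Finite κ] {I : Ideal B} {f : κ → B} :
    f ∈ I • (⊤ : Submodule B (κ → B)) ↔ ∀ i, f i ∈ I := by
  classical
  cases nonempty_fintype κ
  refine ⟨fun hf i => ?_, fun hf => ?_⟩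
  · refine Submodule.smul_induction_on hf (fun a ha m _ => ?_) (fun a b ha hb => ?_)
    · exact I.mul_mem_right _ ha
    · exact I.add_mem ha hb
  · rw [pi_eq_sum_univ f]
    exact Submodule.sum_mem _ fun i _ => Submodule.smul_mem_smul (hf i) trivial

/-- A system of trivialisations modulo all powers of `J` gives an exact one. -/
theorem exists_exact [IsNoetherianRing B] (hη : IsCocycle (Dg g) η)
    (hJac : J ≤ Ideal.jacobson ⊥) (hreg : ∀ n, RegPair (J ^ (n + 1)) x y) (hx : InRad g x)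
    (hy : InRad g y) (t₁ : ∀ a, Γ(SpB B, Dg g a))
    (happ : ∀ n, ∃ t' : ∀ a, Γ(SpB B, Dg g a), Approx η (J ^ (n + 1)) t' ∧ ∀ a, t' a - t₁ a ∈ idl J _) :
    ∃ t : ∀ a, Γ(SpB B, Dg g a),
      (∀ a b, resX _ inf_le_right (t b) = resX _ (inf_le_left : Dg g a ⊓ Dg g b ≤ _) (t a) * η a b) ∧
      ∀ a, t a - t₁ a ∈ idl J _ := by
  classical
  cases nonempty_fintype ι
  obtain ⟨N, r, hr, hcompat⟩ := exists_numerators hη
  choose q hq using fun b a => exists_div (le_refl (Dg g a)) N (cst (Dg g a) (r a b))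
  have hqq : ∀ b a c, resX _ inf_le_left (q b c) =
      η c a * resX _ (inf_le_right : Dg g c ⊓ Dg g a ≤ _) (q b a) := fun b a c => by
    let T := Dg g c ⊓ Dg g a
    refine (((isUnit_cst_pow (inf_le_right : T ≤ Dg g a) (2 * N))).mul
      (isUnit_cst_pow (inf_le_left : T ≤ Dg g c) N)).mul_left_cancel ?_
    have h1 := congrArg (resX _ (inf_le_left : T ≤ _)) (hq b c)
    have h2 := congrArg (resX _ (inf_le_right : T ≤ _)) (hq b a)
    simp only [map_mul, resX_cst] at h1 h2
    have h3 := congrArg (cst T) (hcompat a b c)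
    rw [map_mul, map_mul, hr c a] at h3
    rw [mul_assoc, h1, ← mul_comm (cst T (r c b)), ← h3, ← h2, mul_pow, map_mul, two_mul, pow_add,
      map_mul]
    ring
  choose t' ht' ht'₁ using happ
  have hglue : ∀ n b, ∃ v : B, ∀ a, cst (Dg g a) v - t' n a * q b a ∈ idl (J ^ (n + 1)) _ :=
    fun n b => sat_glue (hreg n) hx hy (fun a => t' n a * q b a) fun a c => by
      rw [map_mul, map_mul, hqq b c a]
      rw [show resX _ inf_le_left (t' n a) * (η a c * resX _ inf_le_right (q b c)) -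
        resX _ inf_le_right (t' n c) * resX _ inf_le_right (q b c) =
        -(resX _ inf_le_right (q b c)) *
          (resX _ inf_le_right (t' n c) - resX _ inf_le_left (t' n a) * η a c) by ring]
      exact Ideal.mul_mem_left _ _ (ht' n a c)
  choose v hv using hglue
  have hvJ : ∀ n b, v n b - v 0 b ∈ J := fun n b => by
    have hJ1 : J ^ (0 + 1) ≤ J := by simp
    refine (le_of_eq (by simp) : J ^ (0 + 1) ≤ J) (sat_inj (hreg 0) hx fun a => ?_)
    have h1 : cst (Dg g a) (v n b) - t' n a * q b a ∈ idl (J ^ (0 + 1)) _ :=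
      idl_mono (Ideal.pow_le_pow_right (by omega)) (hv n b a)
    have h2 : t' n a - t' 0 a ∈ idl (J ^ (0 + 1)) _ := by
      rw [zero_add, pow_one, ← sub_sub_sub_cancel_right (t' n a) (t' 0 a) (t₁ a)]
      exact Ideal.sub_mem _ (ht'₁ n a) (ht'₁ 0 a)
    rw [map_sub, show cst (Dg g a) (v n b) - cst _ (v 0 b) = (cst (Dg g a) (v n b) - t' n a * q b a) -
      (cst _ (v 0 b) - t' 0 a * q b a) + (t' n a - t' 0 a) * q b a by ring]
    exact Ideal.add_mem _ (Ideal.sub_mem _ h1 (hv 0 b a)) (Ideal.mul_mem_right _ _ h2)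
  let T : (ι → B) →ₗ[B] (ι × ι → B) :=
    { toFun := fun v i => v i.1 * r i.1 i.2 - v i.2 * g i.1 ^ (2 * N)
      map_add' := fun v v' => funext fun i => by simp only [Pi.add_apply]; ring
      map_smul' := fun k v => funext fun i => by simp only [Pi.smul_apply, smul_eq_mul, RingHom.id_apply]; ring }
  have hT : ∀ n, T (v n) ∈ J ^ (n + 1) • (⊤ : Submodule B (ι × ι → B)) := fun n => by
    refine mem_smul_top_pi.2 fun i => ?_
    obtain ⟨a, b⟩ := i
    refine sat_inj (hreg n) hx fun c => (mul_cst_mem_iff le_rfl N).1 ?_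
    change cst _ (g c ^ N) * cst _ (v n a * r a b - v n b * g a ^ (2 * N)) ∈ _
    have h1 := hq a c
    have h2 := hq b c
    have h3 := congrArg (cst (Dg g c)) (hcompat a b c)
    rw [map_mul, map_mul] at h3
    rw [map_sub, map_mul, map_mul,
      show cst _ (g c ^ N) * (cst _ (v n a) * cst _ (r a b) - cst _ (v n b) * cst (Dg g c) (g a ^ (2 * N))) =
        cst _ (g c ^ N) * cst _ (r a b) * (cst _ (v n a) - t' n c * q a c) -
        cst _ (g c ^ N) * cst _ (g a ^ (2 * N)) * (cst _ (v n b) - t' n c * q b c) +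
        t' n c * ((cst _ (g c ^ N) * q a c) * cst _ (r a b) -
          (cst _ (g c ^ N) * q b c) * cst _ (g a ^ (2 * N))) by ring, h1, h2, h3, sub_self, mul_zero,
      add_zero]
    exact Ideal.sub_mem _ (Ideal.mul_mem_left _ _ (hv n a c)) (Ideal.mul_mem_left _ _ (hv n b c))
  let K : Submodule B (ι × ι → B) := (J • (⊤ : Submodule B (ι → B))).map T
  have hK : T (v 0) ∈ K := by
    have hmem : Submodule.Quotient.mk (p := K) (T (v 0)) ∈
        (⨅ i : ℕ, J ^ i • ⊤ : Submodule B ((ι × ι → B) ⧸ K)) := by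
      refine (Submodule.mem_iInf _).2 fun i => ?_
      have e : Submodule.Quotient.mk (p := K) (T (v 0)) = K.mkQ (T (v i)) := by
        rw [Submodule.mkQ_apply, Submodule.Quotient.eq, ← map_sub]
        exact Submodule.mem_map_of_mem (mem_smul_top_pi.2 fun b => by
          rw [Pi.sub_apply, ← neg_sub]; exact J.neg_mem (hvJ i b))
      rw [e]
      have := Submodule.mem_map_of_mem (f := K.mkQ)
        (Submodule.smul_mono_left (Ideal.pow_le_pow_right (Nat.le_succ i)) (hT i))
      rw [Submodule.map_smul''] at this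
      exact Submodule.smul_mono le_rfl le_top this
    rw [Ideal.iInf_pow_smul_eq_bot_of_le_jacobson J hJac, Submodule.mem_bot] at hmem
    exact (Submodule.Quotient.mk_eq_zero _).1 hmem
  obtain ⟨d, hd, hd'⟩ := hK
  let u := v 0 - d
  have hu : ∀ a b, u a * r a b = u b * g a ^ (2 * N) := fun a b => sub_eq_zero.1 (by
    have : T u = 0 := by rw [map_sub, hd', sub_self]
    exact congrFun this (a, b))
  choose t ht using fun a => exists_div (le_refl (Dg g a)) N (cst (Dg g a) (u a))
  refine ⟨t, fun a b => ?_, fun c => ?_⟩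
  · let O := Dg g a ⊓ Dg g b
    refine ((isUnit_cst_pow (inf_le_left : O ≤ Dg g a) (2 * N)).mul
      (isUnit_cst_pow (inf_le_right : O ≤ Dg g b) N)).mul_left_cancel ?_
    have h1 := congrArg (resX _ (inf_le_left : O ≤ _)) (ht a)
    have h2 := congrArg (resX _ (inf_le_right : O ≤ _)) (ht b)
    simp only [map_mul, resX_cst] at h1 h2
    have h3 := congrArg (cst O) (hu a b)
    rw [map_mul, map_mul, hr a b, ← h1, ← h2, mul_pow, map_mul, two_mul, pow_add, map_mul] at h3
    rw [two_mul, pow_add, map_mul]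
    linear_combination -h3
  · refine (mul_cst_mem_iff le_rfl N).1 ?_
    rw [mul_sub, ht]
    have hcc : cst (Dg g c) (r c c) = cst _ (g c ^ N) * cst _ (g c ^ N) := by
      have h1 := congrArg (resX _ (le_inf le_rfl le_rfl : Dg g c ≤ _)) (hr c c)
      rwa [map_mul, resX_cst, resX_cst, hη.diag c _ le_rfl, mul_one, mul_pow, map_mul] at h1
    have hqc : q c c = cst _ (g c ^ N) :=
      (isUnit_cst_pow (le_refl (Dg g c)) N).mul_left_cancel ((hq c c).trans hcc)
    have h0 : cst (Dg g c) (v 0 c) - t' 0 c * cst _ (g c ^ N) ∈ idl J _ := by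
      simpa [hqc] using hv 0 c c
    have hd0 : cst (Dg g c) (d c) ∈ idl J (Dg g c) :=
      Ideal.mem_map_of_mem _ (mem_smul_top_pi.1 hd c)
    simp only [u, Pi.sub_apply, map_sub]
    rw [show cst _ (v 0 c) - cst _ (d c) - cst (Dg g c) (g c ^ N) * t₁ c =
      (cst _ (v 0 c) - t' 0 c * cst _ (g c ^ N)) - cst _ (d c) +
        cst (Dg g c) (g c ^ N) * (t' 0 c - t₁ c) by ring]
    exact Ideal.add_mem _ (Ideal.sub_mem _ h0 hd0) (Ideal.mul_mem_left _ _ (ht'₁ 0 c))

end Groth.ParaLift82
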