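import Groth.Agent.ParaLift82.FiniteLift
import Groth.Agent.ParaLift82.KilledRed
import Groth.Agent.ParaLift82.DepthCond
import Groth.Agent.ParaLift82.CoverKilled
import Groth.Agent.ParaLift82.CoverGlue

/-!
# Covers of the punctured hypersurface extend to a neighbourhood, given a dualizing complex and depth conditions
-/

set_option autoImplicit false
set_option backward.isDefEq.respectTransparency false
universe u

open CategoryTheory CategoryTheory.Limits AlgebraicGeometry TopologicalSpace IsLocalRing Groth.PicAux Groth.Pi1FEt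
attribute [local instance] HasDerivedCategory.standard

namespace Groth.ParaLift82

variable {B : Type u} [CommRing B] [IsLocalRing B] [IsNoetherianRing B] {t : B}

theorem exists_nhd_lift_of_open_lift_aux (I : Ideal B) (hI : Jl t 0 = I)
    (hlift : ∀ V₀ : FEt.Cat (Ul t (FEt.puncturedSpec B) 0 : Scheme.{u}),
      ∃ (W : (SpB B).Opens) (_ : W ≤ FEt.puncturedSpec B)
        (hW : Ul t (FEt.puncturedSpec B) 0 ≤ quotMap (Jl t 0) ⁻¹ᵁ W) (Z : FEt.Cat (W : Scheme.{u})),
        Nonempty ((FEt.restrict ((quotMap (Jl t 0)).resLE W (Ul t (FEt.puncturedSpec B) 0) hW)).obj Z ≅ V₀))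
    (V₀ : FEt.Cat (pullback (FEt.puncturedSpec B).ι (quotMap I))) :
    ∃ (U' : (SpB B).Opens) (_ : U' ≤ FEt.puncturedSpec B)
      (u' : pullback (FEt.puncturedSpec B).ι (quotMap I) ⟶ (U' : Scheme.{u}))
      (_ : u' ≫ U'.ι = pullback.fst (FEt.puncturedSpec B).ι (quotMap I) ≫ (FEt.puncturedSpec B).ι)
      (V' : FEt.Cat (U' : Scheme.{u})), Nonempty ((FEt.restrict u').obj V' ≅ V₀) := by
  subst hI
  let U := FEt.puncturedSpec B
  let q := quotMap (Jl t 0)
  let α : pullback U.ι q ≅ (Ul t U 0 : Scheme.{u}) :=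
    pullbackSymmetry _ _ ≪≫ pullbackRestrictIsoRestrict q U
  have hα : α.hom ≫ (Ul t U 0).ι = pullback.snd U.ι q := by
    show (_ ≫ _) ≫ _ = _
    rw [Category.assoc, pullbackRestrictIsoRestrict_hom_ι, pullbackSymmetry_hom_comp_fst]
  obtain ⟨W, hWU, hW, Z, ⟨i⟩⟩ := hlift ((FEt.restrict α.inv).obj V₀)
  refine ⟨W, hWU, α.hom ≫ q.resLE W (Ul t U 0) hW, ?_, Z, ⟨?_⟩⟩
  · rw [Category.assoc, Scheme.Hom.resLE_comp_ι, reassoc_of% hα, pullback.condition]
  · exact (restrictCompIso α.hom _).app Z ≪≫ (FEt.restrict α.hom).mapIso i ≪≫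
      (restrictCompIso α.hom α.inv).symm.app V₀ ≪≫ (restrictCongr α.hom_inv_id).app V₀ ≪≫
      (restrictIdIso _).app V₀

theorem exists_pow_mem_of_le_radical {κ : Type u} (c : κ → B)
    (hrad : maximalIdeal B ≤ (Ideal.span (Set.range c) ⊔ Ideal.span {t}).radical) (e m : ℕ) {a : B}
    (ha : a ∈ maximalIdeal B) :
    ∃ M : ℕ, a ^ M ∈ Ideal.span (Set.range fun j => c j ^ e) ⊔ Ideal.span {t ^ m} := by
  let J := Ideal.span (Set.range fun j => c j ^ e) ⊔ Ideal.span {t ^ m}
  have hle : Ideal.span (Set.range c) ⊔ Ideal.span {t} ≤ J.radical := by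
    refine sup_le (Ideal.span_le.2 ?_) ((Ideal.span_singleton_le_iff_mem _).2
      ⟨m, Submodule.mem_sup_right (Ideal.mem_span_singleton_self _)⟩)
    rintro _ ⟨j, rfl⟩
    exact ⟨e, Submodule.mem_sup_left (Ideal.subset_span ⟨j, rfl⟩)⟩
  have h := Ideal.radical_mono hle (hrad ha)
  rwa [Ideal.radical_idem] at h

variable [IsAdicComplete (Ideal.span {t}) B]

theorem exists_open_lift_of_depth (hd : ∃ ω : Dual.D B, Dual.IsDualizing B ω) (htm : t ∈ maximalIdeal B)
    (hc : ∀ p : Ideal B, ∀ _ : p.IsPrime, t ∉ p → (p ⊔ Ideal.span {t}).radical ≠ maximalIdeal B →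
      (3 : WithBot ℕ∞) < (LocCoh.depth (Localization.AtPrime p) (Localization.AtPrime p) : WithBot ℕ∞) + ringKrullDim (B ⧸ p))
    (V₀ : FEt.Cat (Ul t (FEt.puncturedSpec B) 0 : Scheme.{u})) :
    ∃ (W : (SpB B).Opens) (_ : W ≤ FEt.puncturedSpec B)
      (hW : Ul t (FEt.puncturedSpec B) 0 ≤ quotMap (Jl t 0) ⁻¹ᵁ W) (Z : FEt.Cat (W : Scheme.{u})),
      Nonempty ((FEt.restrict ((quotMap (Jl t 0)).resLE W (Ul t (FEt.puncturedSpec B) 0) hW)).obj Z ≅ V₀) := by
  obtain ⟨ι, _, g, hspan, hle, hcov⟩ := exists_cover_punctured B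
  obtain ⟨κ, _, c, N, hrad, hkill⟩ := exists_killers hd htm hc
  obtain ⟨k, hk⟩ := exists_pow_redTor c t
  have hgm : ∀ a, g a ∈ maximalIdeal B := fun a => hspan ▸ Ideal.subset_span ⟨a, rfl⟩
  let J := redTor c t
  let mk := Ideal.Quotient.mk J
  have : IsAdicComplete (Ideal.span {tq t J}) (B ⧸ J) := isAdicComplete_quotient_span t J
  have hreg : IsSMulRegular (B ⧸ J) (tq t J) := isSMulRegular_redTor c t
  refine exists_open_lift_of_quot hle hcov J hreg (K := k) (fun n a => ?_) (fun S => ?_) V₀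
  · obtain ⟨M, hM⟩ := exists_pow_mem_of_le_radical c hrad k (n + 1) (hgm a)
    refine ⟨M, fun γ hγ => ?_⟩
    have hle' : Ideal.span (Set.range fun j => c j ^ k) ⊔ Ideal.span {t ^ (n + 1)} ≤
        Submodule.comap (LinearMap.mulRight B (t ^ k * γ)) (Ideal.span {t ^ (n + 1)}) := by
      refine sup_le (Ideal.span_le.2 ?_) ((Ideal.span_singleton_le_iff_mem _).2 ?_)
      · rintro _ ⟨j, rfl⟩
        show c j ^ k * (t ^ k * γ) ∈ Ideal.span {t ^ (n + 1)}
        rw [← mul_assoc, ← mul_pow, hk j γ hγ]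
        exact zero_mem _
      · exact Ideal.mul_mem_right _ _ (Ideal.mem_span_singleton_self _)
    obtain ⟨x, hx⟩ := Ideal.mem_span_singleton.1 (show g a ^ M * (t ^ k * γ) ∈ Ideal.span {t ^ (n + 1)} from hle' hM)
    exact ⟨x, by rw [mul_assoc, hx]⟩
  · by_cases hJ : J = ⊤
    · have : Subsingleton (B ⧸ J) := Ideal.Quotient.subsingleton_iff.2 hJ
      exact ⟨B ⧸ J, inferInstance, inferInstance, inferInstance, fun n => Algebra.ofId _ _,
        fun n l => (secMap (S.u_F n)).commutes l, fun n l _ => ⟨0, Subsingleton.elim _ _⟩,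
        fun n a z => ⟨0, 0, by
          have := Module.subsingleton (B ⧸ J) (Sec (S.F n))
          exact Subsingleton.elim _ _⟩⟩
    have : Nontrivial (B ⧸ J) := Ideal.Quotient.nontrivial_iff.2 hJ
    have : IsLocalRing (B ⧸ J) := IsLocalRing.of_surjective' mk Ideal.Quotient.mk_surjective
    have hmap : (maximalIdeal B).map mk = maximalIdeal (B ⧸ J) := Groth.Ega4b.map_maximalIdeal_quotient B J
    have hg' : Ig (fun a => mk (g a)) = maximalIdeal (B ⧸ J) := by
      rw [← hmap, ← hspan, Ideal.map_span, ← Set.range_comp]; rfl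
    let c' : κ → B ⧸ J := fun j => mk (c j ^ (k + 1))
    have hkill' : ∀ j (i : ℕ), i ≤ 3 →
        ∀ z : LocCohBase.HH' (maximalIdeal (B ⧸ J)) i (ModuleCat.of (B ⧸ J) (B ⧸ J)),
          mk (c j ^ (k + 1) * t ^ (N + k)) • z = 0 := fun j i hi => by
      rw [← hmap]
      refine fun z => smul_H_quotient i (fun x => ?_) z
      rw [show c j ^ (k + 1) * t ^ (N + k) = c j * t ^ N * (c j * t) ^ k by ring]
      exact smul_H_eq_zero_of_pow (hk j) i (hkill j i hi) x
    obtain ⟨K, hK⟩ := exists_pow_H_one c t hd (s := fun _ => N + k + 1) fun j z => by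
      show mk (c j ^ (N + k + 1) * t ^ (N + k + 1)) • z = 0
      rw [show c j ^ (N + k + 1) * t ^ (N + k + 1) = c j ^ N * t * (c j ^ (k + 1) * t ^ (N + k)) by ring, map_mul,
        mul_smul, hkill' j 1 (by norm_num) z, smul_zero]
    have hh : ∀ j (i : ℕ), i ≤ 3 → ∀ x : LocCohBase.HH' (Ig fun a => mk (g a)) i (ModuleCat.of (B ⧸ J) (B ⧸ J)),
        (c' j * tq t J ^ (N + k)) • x = 0 := fun j i hi => by
      rw [hg']
      intro x
      rw [← map_pow, ← map_mul]
      exact hkill' j i hi x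
    refine S.exists_algebra_of_killed hg' hreg c' (N := N + k) (K := K) ?_ ?_ (fun j => hh j 2 (by norm_num))
      (fun j => hh j 3 le_rfl)
    · rw [Ig, Ideal.span_le]
      rintro _ ⟨a, rfl⟩
      obtain ⟨M, hM⟩ := exists_pow_mem_of_le_radical c hrad (k + 1) 1 (hgm a)
      refine ⟨M, ?_⟩
      have h := Ideal.mem_map_of_mem mk hM
      rwa [Ideal.map_sup, Ideal.map_span, Ideal.map_span, Set.image_singleton, pow_one, ← Set.range_comp,
        map_pow] at h
    · intro a
      rw [hg']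
      exact hK _ (Ideal.pow_mem_pow (hmap ▸ Ideal.mem_map_of_mem mk (hgm a)) K)

/-- Covers of the punctured hypersurface extend to an open of the punctured spectrum. -/
theorem exists_nhd_lift_of_depth (hd : ∃ ω : Dual.D B, Dual.IsDualizing B ω) (htm : t ∈ maximalIdeal B)
    (hc : ((LocCoh.HasSk 2 (Localization.Away t) (Localization.Away t) ∧
        ∀ p : Ideal B, p ∈ minimalPrimes B → t ∉ p → (4 : WithBot ℕ∞) ≤ ringKrullDim (B ⧸ p)) ∨
      (∀ p : Ideal B, ∀ _ : p.IsPrime, t ∉ p → (p ⊔ Ideal.span {t}).radical ≠ maximalIdeal B →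
        (3 : WithBot ℕ∞) < (LocCoh.depth (Localization.AtPrime p) (Localization.AtPrime p) : WithBot ℕ∞) + ringKrullDim (B ⧸ p))))
    (V₀ : FEt.Cat (pullback (FEt.puncturedSpec B).ι (quotMap (Ideal.span {t})))) :
    ∃ (U' : (SpB B).Opens) (_ : U' ≤ FEt.puncturedSpec B)
      (u' : pullback (FEt.puncturedSpec B).ι (quotMap (Ideal.span {t})) ⟶ (U' : Scheme.{u}))
      (_ : u' ≫ U'.ι = pullback.fst (FEt.puncturedSpec B).ι (quotMap (Ideal.span {t})) ≫ (FEt.puncturedSpec B).ι)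
      (V' : FEt.Cat (U' : Scheme.{u})), Nonempty ((FEt.restrict u').obj V' ≅ V₀) :=
  exists_nhd_lift_of_open_lift_aux _ (by simp [Jl])
    (exists_open_lift_of_depth hd htm (depth_add_dim_of_or hd htm hc)) V₀

end Groth.ParaLift82
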