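import Groth.Agent.ParaLift82.QuotRegular
import Groth.Agent.Pi1Lef.LocalCoh
import Groth.Agent.Pi1Inv.Henselian
import Groth.Agent.ParaLift82.LefPunctured
import Groth.Prelude.Def_SGA2

/-!
# A quotient of a regular local ring with pure hypersurface is pure
-/

set_option autoImplicit false
set_option backward.isDefEq.respectTransparency false
universe u

open CategoryTheory CategoryTheory.Limits AlgebraicGeometry TopologicalSpace IsLocalRing Groth.PicAux Groth.Pi1FEt
attribute [local instance] HasDerivedCategory.standard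

namespace Groth.ParaLift82

/-- For a local spectrum, the pair is pure exactly when restriction to the punctured spectrum is an equivalence. -/
theorem isPurePair_punctured_iff (A : Type u) [CommRing A] [IsLocalRing A] :
    SGA2.IsPurePair (SpB A) (FEt.puncturedSpec A) ↔ (FEt.restrict (FEt.puncturedSpec A).ι).IsEquivalence := by
  let U := FEt.puncturedSpec A
  let e : ((⊤ ⊓ U : (SpB A).Opens) : Scheme.{u}) ≅ (U : Scheme.{u}) := (SpB A).isoOfEq (top_inf_eq U)
  have he : (SpB A).homOfLE (inf_le_left : ⊤ ⊓ U ≤ ⊤) ≫ (⊤ : (SpB A).Opens).ι = e.hom ≫ U.ι := by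
    rw [Scheme.homOfLE_ι, Scheme.isoOfEq_hom_ι]
  haveI : IsIso (⊤ : (SpB A).Opens).ι := (Scheme.topIso (SpB A)).isIso_hom
  constructor
  · intro h
    have := h ⊤
    have h1 : (FEt.restrict ((SpB A).homOfLE (inf_le_left : ⊤ ⊓ U ≤ ⊤) ≫ (⊤ : (SpB A).Opens).ι)).IsEquivalence :=
      Functor.isEquivalence_of_iso (restrictCompIso _ _).symm
    rw [he] at h1
    have h2 : (FEt.restrict (e.inv ≫ e.hom ≫ U.ι)).IsEquivalence :=
      Functor.isEquivalence_of_iso (restrictCompIso _ _).symm
    rwa [Iso.inv_hom_id_assoc] at h2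
  · intro h V
    by_cases hV : IsLocalRing.closedPoint A ∈ V
    · obtain rfl : V = ⊤ := top_le_iff.1 fun z _ => (IsLocalRing.specializes_closedPoint z).mem_open V.isOpen hV
      have h1 : (FEt.restrict ((SpB A).homOfLE (inf_le_left : ⊤ ⊓ U ≤ ⊤) ≫ (⊤ : (SpB A).Opens).ι)).IsEquivalence := by
        rw [he]
        exact Functor.isEquivalence_of_iso (restrictCompIso _ _).symm
      have h2 : (FEt.restrict (((SpB A).homOfLE (inf_le_left : ⊤ ⊓ U ≤ ⊤) ≫ (⊤ : (SpB A).Opens).ι) ≫
          inv (⊤ : (SpB A).Opens).ι)).IsEquivalence :=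
        Functor.isEquivalence_of_iso (restrictCompIso _ _).symm
      rwa [Category.assoc, IsIso.hom_inv_id, Category.comp_id] at h2
    · have hle : V ≤ V ⊓ U := fun z hz => ⟨hz, fun e' => hV (e' ▸ hz)⟩
      have : IsIso ((SpB A).homOfLE (inf_le_left : V ⊓ U ≤ V)) :=
        ⟨(SpB A).homOfLE hle, by simp, by simp⟩
      infer_instance

variable {A : Type u} [CommRing A] [IsLocalRing A] [IsNoetherianRing A]

/-- Purity of a hypersurface lifts, for quotients of regular local rings. -/
theorem isPurePair_of_quotient (hq : ∃ (B : Type u) (_ : CommRing B) (_ : IsRegularLocalRing B) (φ : B →+* A), Function.Surjective φ)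
    {t : A} (ht : t ∈ maximalIdeal A) [IsAdicComplete (Ideal.span {t}) A]
    (hdepth : ∀ p : Ideal A, ∀ _ : p.IsPrime, ringKrullDim (A ⧸ p) = 1 →
      (2 : ℕ∞) ≤ LocCoh.depth (Localization.AtPrime p) (Localization.AtPrime p))
    [IsLocalRing (A ⧸ Ideal.span {t})]
    (hB : SGA2.IsPurePair (SpB (A ⧸ Ideal.span {t})) (FEt.puncturedSpec (A ⧸ Ideal.span {t}))) :
    SGA2.IsPurePair (SpB A) (FEt.puncturedSpec A) := by
  obtain ⟨R, _, _, φ, hφ⟩ := hq
  have hd := exists_isDualizing_of_regular_surj R A φ hφ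
  let J := Ideal.span {t}
  have hne : J ≠ ⊤ := fun e => (maximalIdeal.isMaximal A).ne_top
    (top_le_iff.1 (e ▸ (Ideal.span_singleton_le_iff_mem _).2 ht))
  let U := FEt.puncturedSpec A
  let U₀ := FEt.puncturedSpec (A ⧸ J)
  have : HenselianRing A J := inferInstance
  obtain ⟨_, _⟩ := Groth.Pi1Lef.fullyFaithful_of_killed ht fun i hi =>
    Groth.Pi1Lef.killed_of_dualizing hd (fun p _ hfp => depth_add_dim_gt_of_ones (k := 2) p (fun e => hfp (e ▸ ht))
      fun q hq' _ h1 => hdepth q hq' h1) i (by omega)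
  have : (FEt.restrict U₀.ι).IsEquivalence := (isPurePair_punctured_iff _).1 hB
  have : (FEt.restrict (quotMap J)).IsEquivalence := Groth.Pi1Inv.restrict_isEquivalence A J
  let α : (U₀ : Scheme.{u}) ≅ pullback U.ι (quotMap J) :=
    (SpB (A ⧸ J)).isoOfEq (quotMap_preimage_punctured hne).symm ≪≫
      (pullbackRestrictIsoRestrict (quotMap J) U).symm ≪≫ pullbackSymmetry _ _
  let p₁ := pullback.fst U.ι (quotMap J)
  have hα : (α.hom ≫ p₁) ≫ U.ι = U₀.ι ≫ quotMap J := by
    rw [Category.assoc, pullback.condition, ← Category.assoc]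
    refine congrArg (· ≫ quotMap J) ?_
    simp [α, U₀, J]
    exact Scheme.isoOfEq_hom_ι _ _
  have : (FEt.restrict p₁).Full := ‹_›
  have : (FEt.restrict p₁).Faithful := ‹_›
  have hcomp : (FEt.restrict U.ι ⋙ FEt.restrict p₁ ⋙ FEt.restrict α.hom).IsEquivalence :=
    Functor.isEquivalence_of_iso ((restrictCompIso U₀.ι (quotMap J)).symm ≪≫ (restrictCongr hα).symm ≪≫
      restrictCompIso (α.hom ≫ p₁) U.ι ≪≫ Functor.isoWhiskerLeft _ (restrictCompIso α.hom p₁))
  let G := FEt.restrict p₁ ⋙ FEt.restrict α.hom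
  have : (FEt.restrict U.ι).Faithful := Functor.Faithful.of_comp _ G
  have : (FEt.restrict U.ι).Full := Functor.Full.of_comp_faithful _ G
  have : (FEt.restrict U.ι).EssSurj := ⟨fun V => by
    let X := (FEt.restrict U.ι ⋙ G).objPreimage (G.obj V)
    exact ⟨X, ⟨G.preimageIso ((FEt.restrict U.ι ⋙ G).objObjPreimageIso (G.obj V))⟩⟩⟩
  exact (isPurePair_punctured_iff A).2 { }

end Groth.ParaLift82
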