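import Groth.Agent.ParaLift82.LefPi1
import Groth.Agent.ParaFormal.FsReduce
import Groth.Agent.Calg1.Completion
import Groth.Agent.Pi1Formal.Transport
import Groth.Agent.Pi1Inv.Henselian

/-!
# Purity lifts along an ideal with free associated graded ring
-/

set_option autoImplicit false
universe u

open CategoryTheory AlgebraicGeometry TopologicalSpace IsLocalRing Groth.PicAux Groth.Pi1FEt

namespace Groth.ParaLift82

variable {B : Type u} [CommRing B] {J : Ideal B}

/-- `V(J) ∩ U` as inverse image and as closed subscheme of `U`. -/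
noncomputable def toClosed (U : (SpB B).Opens) (J : Ideal B) :
    (↑(quotMap J ⁻¹ᵁ U) : Scheme.{u}) ⟶ (closedIdeal U J).subscheme :=
  Limits.pullback.lift (quotMap J ∣_ U) ((quotMap J ⁻¹ᵁ U).ι ≫ (quotMap J).toImage)
    (by rw [morphismRestrict_ι, Category.assoc]; exact congrArg _ (quotMap J).toImage_imageι.symm) ≫
    ((quotMap J).ker.comapIso U.ι).inv

theorem toClosed_ι (U : (SpB B).Opens) :
    toClosed U J ≫ (closedIdeal U J).subschemeι = quotMap J ∣_ U := by
  simp only [toClosed, Category.assoc, Scheme.IdealSheafData.comapIso_inv_subschemeι]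
  exact Limits.pullback.lift_fst _ _ _

instance isIso_toClosed (U : (SpB B).Opens) : IsIso (toClosed U J) := by
  have : IsClosedImmersion (quotMap J) :=
    IsClosedImmersion.spec_of_surjective _ Ideal.Quotient.mk_surjective
  have : IsIso (quotMap J).toImage := inferInstance
  have hpb' : IsPullback (quotMap J ∣_ U) ((quotMap J ⁻¹ᵁ U).ι ≫ (quotMap J).toImage)
      U.ι (quotMap J).ker.subschemeι :=
    IsPullback.of_iso (isPullback_morphismRestrict (quotMap J) U) (Iso.refl _) (Iso.refl _)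
      (asIso (quotMap J).toImage) (Iso.refl _) (by simp) (by simp) (by simp) (by simp)
  have hiso : IsIso (Limits.pullback.lift (f := U.ι) (g := (quotMap J).ker.subschemeι) (quotMap J ∣_ U)
      ((quotMap J ⁻¹ᵁ U).ι ≫ (quotMap J).toImage) hpb'.w) := by
    rw [show Limits.pullback.lift (f := U.ι) (g := (quotMap J).ker.subschemeι) (quotMap J ∣_ U)
      ((quotMap J ⁻¹ᵁ U).ι ≫ (quotMap J).toImage) hpb'.w = hpb'.isoPullback.hom from Limits.pullback.hom_ext
          ((Limits.pullback.lift_fst _ _ _).trans hpb'.isoPullback_hom_fst.symm)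
          ((Limits.pullback.lift_snd _ _ _).trans hpb'.isoPullback_hom_snd.symm)]
    infer_instance
  rw [toClosed]
  infer_instance

theorem purityHolds_of_isAdicComplete [IsLocalRing B] [IsNoetherianRing B] [IsAdicComplete J B] (hJ : J ≠ ⊤)
    [IsLocalRing (B ⧸ J)] {x y : B} (hxm : x ∈ maximalIdeal B) (hym : y ∈ maximalIdeal B)
    (hreg : ∀ n, RegPair (J ^ (n + 1)) x y) (h0 : FEt.PurityHolds (B ⧸ J)) : FEt.PurityHolds B := by
  let U := FEt.puncturedSpec B
  let U₀ := FEt.puncturedSpec (B ⧸ J)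
  let eq : (U₀ : Scheme.{u}) ≅ (quotMap J ⁻¹ᵁ U : (SpB (B ⧸ J)).Opens) :=
    (SpB (B ⧸ J)).isoOfEq (quotMap_preimage_punctured hJ).symm
  let m : (U₀ : Scheme.{u}) ⟶ U := eq.hom ≫ quotMap J ∣_ U
  have hm : m ≫ U.ι = U₀.ι ≫ quotMap J := by
    simp only [m, eq, Category.assoc, morphismRestrict_ι, Scheme.isoOfEq_hom_ι_assoc]
    all_goals rfl
  have hm' : m = (eq.hom ≫ toClosed U J) ≫ (closedIdeal U J).subschemeι := by
    rw [Category.assoc, toClosed_ι]
  obtain ⟨_, _⟩ := restrict_closedIdeal_fullyFaithful hxm hym hreg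
  let eF := restrictCongr hm' ≪≫ restrictCompIso (eq.hom ≫ toClosed U J) (closedIdeal U J).subschemeι
  have : (FEt.restrict m).Full := Functor.Full.of_iso eF.symm
  have : (FEt.restrict m).Faithful := Functor.Faithful.of_iso eF.symm
  have : (FEt.restrict U₀.ι).EssSurj := h0
  have : HenselianRing B J := inferInstance
  have : (FEt.restrict (quotMap J)).IsEquivalence := Groth.Pi1Inv.restrict_isEquivalence B J
  refine ⟨fun V => ?_⟩
  let W₀ := (FEt.restrict U₀.ι).objPreimage ((FEt.restrict m).obj V)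
  let W := (FEt.restrict (quotMap J)).objPreimage W₀
  refine ⟨W, ⟨(FEt.restrict m).preimageIso ?_⟩⟩
  exact ((restrictCompIso m U.ι).app W).symm ≪≫ (restrictCongr hm).app W ≪≫
    (restrictCompIso U₀.ι (quotMap J)).app W ≪≫
    (FEt.restrict U₀.ι).mapIso ((FEt.restrict (quotMap J)).objObjPreimageIso W₀) ≪≫
    (FEt.restrict U₀.ι).objObjPreimageIso ((FEt.restrict m).obj V)

theorem purityHolds_of_freeGr [IsLocalRing B] [IsNoetherianRing B] (hJ : J ≠ ⊤) (hgr : FreeGr J)
    [IsLocalRing (B ⧸ J)] (hd : (3 : ℕ∞) ≤ LocCoh.depth (B ⧸ J) (B ⧸ J)) (h0 : FEt.PurityHolds (B ⧸ J)) :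
    (3 : ℕ∞) ≤ LocCoh.depth B B ∧ FEt.PurityHolds B := by
  obtain ⟨x₀, y₀, w₀, hx₀, hy₀, hw₀, hreg₀⟩ := exists_regTriple hd
  have hB : (3 : ℕ∞) ≤ LocCoh.depth B B :=
    three_le_depth hx₀ hy₀ hw₀ (regTriple_bot hgr hJ hx₀ hy₀ hreg₀)
  refine ⟨hB, ?_⟩
  let C := AdicCompletion J B
  let φ : B →+* C := algebraMap B C
  have : IsNoetherianRing C :=
    Groth.Calg1.isNoetherianRing_adicCompletion _ (IsNoetherian.noetherian J)
  have hcomp : IsAdicComplete (J.map φ) C :=
    (IsAdicComplete.map_algebraMap_iff _ _).mpr (AdicCompletion.isAdicComplete (IsNoetherian.noetherian _))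
  let e : C ⧸ J.map φ ≃+* B ⧸ J :=
    (Ideal.quotEquivOfEq (AdicCompletion.ker_evalOneₐ_eq_map J (IsNoetherian.noetherian J)).symm).trans
      (RingHom.quotientKerEquivOfSurjective (AdicCompletion.evalOneₐ_surjective J))
  have : IsLocalRing (C ⧸ J.map φ) := e.symm.isLocalRing
  have hjac : J.map φ ≤ Ideal.jacobson ⊥ := IsAdicComplete.le_jacobson_bot _
  have hne : J.map φ ≠ ⊤ := Ideal.Quotient.nontrivial_iff.1 inferInstance
  let M : Ideal C := (maximalIdeal (C ⧸ J.map φ)).comap (Ideal.Quotient.mk (J.map φ))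
  have : IsLocalRing C := IsLocalRing.of_unique_max_ideal
    ⟨M, Ideal.comap_isMaximal_of_surjective _ Ideal.Quotient.mk_surjective, fun N hN => by
      have hle : J.map φ ≤ N := hjac.trans (sInf_le ⟨bot_le, hN⟩)
      have hcm := Ideal.comap_map_of_surjective (Ideal.Quotient.mk (J.map φ)) Ideal.Quotient.mk_surjective N
      rw [← RingHom.ker_eq_comap_bot, Ideal.mk_ker, sup_eq_left.2 hle] at hcm
      refine hN.eq_of_le (Ideal.comap_ne_top _ (maximalIdeal.isMaximal _).ne_top) (hcm.ge.trans ?_)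
      refine Ideal.comap_mono (le_maximalIdeal fun h => hN.ne_top ?_)
      rw [← hcm, h, Ideal.comap_top]⟩
  have := AdicCompletion.flat_of_isNoetherian J (R := B)
  have hloc : IsLocalHom φ := ⟨fun a ha => by
    have h1 : IsUnit (Ideal.Quotient.mk J a) := by
      have h2 := ha.map (AdicCompletion.evalOneₐ J).toRingHom
      rwa [show (AdicCompletion.evalOneₐ J).toRingHom (φ a) = Ideal.Quotient.mk J a from
        RingHom.congr_fun (AdicCompletion.evalOneₐ_comp_algebraMap_eq_mk J) a] at h2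
    by_contra ha'
    obtain ⟨c, hc⟩ := isUnit_iff_exists_inv.1 h1
    obtain ⟨c, rfl⟩ := Ideal.Quotient.mk_surjective c
    rw [← map_mul, ← map_one (Ideal.Quotient.mk J), Ideal.Quotient.eq] at hc
    exact (maximalIdeal.isMaximal B).ne_top ((Ideal.eq_top_iff_one _).2 (by
      simpa using Ideal.sub_mem _ (Ideal.mul_mem_right c _ (show a ∈ maximalIdeal B from ha'))
        (le_maximalIdeal hJ hc)))⟩
  have : IsLocalHom (algebraMap B C) := hloc
  have : Module.FaithfullyFlat B C := Module.FaithfullyFlat.of_flat_of_isLocalHom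
  obtain ⟨x, y, w, hx, hy, hw, hreg⟩ := exists_regTriple
    (hd.trans (Groth.ParaFormal.FsReduce.depth_le_of_ringEquiv e.symm))
  have hpC : FEt.PurityHolds C := purityHolds_of_isAdicComplete hne hx hy
    (fun n => (regTriple_pow (hgr.map (B := C)) hreg n).pair)
    (Groth.Pi1Formal.purityHolds_of_ringEquiv e.symm h0)
  refine Groth.Pi1Formal.purityHolds_of_flat (B' := C) (le_trans (by norm_num) hB) fun q hqp hq => ?_
  have hmax : q = maximalIdeal C := by
    refine le_antisymm (le_maximalIdeal hqp.ne_top) ?_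
    have hJq : J.map φ ≤ q := Ideal.map_le_iff_le_comap.2 ((le_maximalIdeal hJ).trans hq.ge)
    intro c hc
    obtain ⟨b, hb⟩ := Ideal.Quotient.mk_surjective (e (Ideal.Quotient.mk _ c))
    have hcb : c - φ b ∈ J.map φ := by
      rw [← Ideal.Quotient.eq]
      refine e.injective ?_
      rw [← hb]
      exact (RingHom.congr_fun (AdicCompletion.evalOneₐ_comp_algebraMap_eq_mk J) b).symm
    have hbm : b ∈ maximalIdeal B := fun hu => by
      exact (maximalIdeal.isMaximal C).ne_top (Ideal.eq_top_of_isUnit_mem _ (by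
        simpa using Ideal.sub_mem _ hc (le_maximalIdeal hne hcb)) (hu.map φ))
    rw [show c = (c - φ b) + φ b by ring]
    exact Ideal.add_mem _ (hJq hcb) (hq.ge hbm)
  subst hmax
  exact Groth.Pi1Formal.purityHolds_of_ringEquiv (IsLocalization.atUnits C
    (maximalIdeal C).primeCompl (fun a ha => IsLocalRing.notMem_maximalIdeal.mp ha)).toRingEquiv hpC

end Groth.ParaLift82
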