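import Groth.Agent.ParaLift82.CoverAlgebraize

/-!
# Base change of a system of covers of thickenings to a quotient of the base
-/

set_option autoImplicit false
set_option backward.isDefEq.respectTransparency false
universe u

open CategoryTheory CategoryTheory.Limits AlgebraicGeometry TopologicalSpace Groth.PicAux Groth.ParaFormal Groth.Pi1FEt

namespace Groth.ParaLift82

theorem isPullback_resLE_preimage {X Y : Scheme.{u}} (f : X ⟶ Y) (V : Y.Opens) {W : X.Opens} (h : W = f ⁻¹ᵁ V) :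
    IsPullback (f.resLE V W h.le) W.ι V.ι f := by
  subst h
  rw [Scheme.Hom.resLE_eq_morphismRestrict]
  exact isPullback_morphismRestrict f V

variable {B : Type u} [CommRing B] (t : B) (U : (SpB B).Opens) (J : Ideal B)

/-- The image of `t` in the quotient. -/
abbrev tq : B ⧸ J := Ideal.Quotient.mk J t

/-- The preimage of the open in the quotient. -/
noncomputable abbrev Uq : (SpB (B ⧸ J)).Opens := quotMap J ⁻¹ᵁ U

theorem map_Jl (n : ℕ) : (Jl t n).map (Ideal.Quotient.mk J) = Jl (tq t J) n := by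
  rw [Ideal.map_span, Set.image_singleton, map_pow]

/-- The map of thickenings over the quotient. -/
noncomputable def qFac (n : ℕ) : SpB ((B ⧸ J) ⧸ Jl (tq t J) n) ⟶ SpB (B ⧸ Jl t n) :=
  Spec.map (CommRingCat.ofHom (Ideal.quotientMap (Jl (tq t J) n) (Ideal.Quotient.mk J)
    (Ideal.map_le_iff_le_comap.1 (map_Jl t J n).le)))

theorem qFac_quotMap (n : ℕ) : qFac t J n ≫ quotMap (Jl t n) = quotMap (Jl (tq t J) n) ≫ quotMap J := by
  rw [qFac, ← Spec.map_comp, ← Spec.map_comp]; rfl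

theorem isPullback_qFac (n : ℕ) :
    IsPullback (qFac t J n) (quotMap (Jl (tq t J) n)) (quotMap (Jl t n)) (quotMap J) :=
  (isPullback_SpecMap_of_isPushout _ _ _ _
    (Groth.AlgSpFppf.isPushout_quotient (CommRingCat.ofHom (Ideal.Quotient.mk J)) (Jl t n) (Jl (tq t J) n)
      (map_Jl t J n).symm)).flip

theorem preimage_qFac (n : ℕ) : qFac t J n ⁻¹ᵁ Ul t U n = Ul (tq t J) (Uq U J) n := by
  rw [← Scheme.Hom.comp_preimage, qFac_quotMap, Scheme.Hom.comp_preimage]

/-- The inclusion of the thickenings over the quotient. -/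
noncomputable def qTr (n : ℕ) : (Ul (tq t J) (Uq U J) n : Scheme.{u}) ⟶ Ul t U n :=
  (qFac t J n).resLE _ _ (preimage_qFac t U J n).ge

theorem qTr_ι (n : ℕ) : qTr t U J n ≫ (Ul t U n).ι = (Ul (tq t J) (Uq U J) n).ι ≫ qFac t J n :=
  Scheme.Hom.resLE_comp_ι _ _

theorem qTr_tr {m n : ℕ} (h : m ≤ n) :
    qTr t U J m ≫ tr t U h = tr (tq t J) (Uq U J) h ≫ qTr t U J n := by
  have : IsClosedImmersion (quotMap (Jl t n)) :=
    IsClosedImmersion.spec_of_surjective _ Ideal.Quotient.mk_surjective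
  rw [← cancel_mono ((Ul t U n).ι ≫ quotMap (Jl t n)), Category.assoc, Category.assoc, tr,
    Scheme.Hom.resLE_comp_ι_assoc, fac_quotMap, reassoc_of% (qTr_ι t U J m), qFac_quotMap,
    reassoc_of% (qTr_ι t U J n), qFac_quotMap, tr, Scheme.Hom.resLE_comp_ι_assoc, reassoc_of% (fac_quotMap (tq t J) h)]

theorem isPullback_qTr (n : ℕ) : IsPullback (qTr t U J n) ((Ul (tq t J) (Uq U J) n).ι ≫ quotMap (Jl (tq t J) n))
    ((Ul t U n).ι ≫ quotMap (Jl t n)) (quotMap J) := by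
  refine IsPullback.paste_vert ?_ (isPullback_qFac t J n)
  exact isPullback_resLE_preimage _ _ (preimage_qFac t U J n).symm

theorem hle_quot {ι : Type u} {g : ι → B} (hle : ∀ a, D (g a) ≤ U) (a : ι) :
    D (Ideal.Quotient.mk J (g a)) ≤ Uq U J :=
  (quotMap J).preimage_mono (hle a)

theorem hcov_quot {ι : Type u} {g : ι → B} (hcov : U ≤ ⨆ a, D (g a)) :
    Uq U J ≤ ⨆ a, D (Ideal.Quotient.mk J (g a)) := fun z hz => by
  obtain ⟨a, ha⟩ := Opens.mem_iSup.1 (hcov hz)
  exact Opens.mem_iSup.2 ⟨a, ha⟩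

/-- Covers of thickenings restrict to the thickenings over a quotient. -/
theorem exists_quot_levels (Y : ∀ n, FEt.Cat (Ul t U n : Scheme.{u}))
    (u : ∀ n, (Y n).left ⟶ (Y (n + 1)).left)
    (hu : ∀ n, IsPullback (u n) (Y n).hom (Y (n + 1)).hom (tr t U n.le_succ)) :
    ∃ (Y' : ∀ n, FEt.Cat (Ul (tq t J) (Uq U J) n : Scheme.{u})) (u' : ∀ n, (Y' n).left ⟶ (Y' (n + 1)).left)
      (v : ∀ n, (Y' n).left ⟶ (Y n).left),
      (∀ n, IsPullback (u' n) (Y' n).hom (Y' (n + 1)).hom (tr (tq t J) (Uq U J) n.le_succ)) ∧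
      (∀ n, IsPullback (v n) ((Y' n).hom ≫ (Ul (tq t J) (Uq U J) n).ι ≫ quotMap (Jl (tq t J) n))
        ((Y n).hom ≫ (Ul t U n).ι ≫ quotMap (Jl t n)) (quotMap J)) ∧
      ∀ n, u' n ≫ v (n + 1) = v n ≫ u n := by
  let Y' : ∀ n, FEt.Cat (Ul (tq t J) (Uq U J) n : Scheme.{u}) := fun n =>
    (FEt.restrict (qTr t U J n)).obj (Y n)
  let v : ∀ n, (Y' n).left ⟶ (Y n).left := fun n => pullback.fst (Y n).hom (qTr t U J n)
  have hv : ∀ n, IsPullback (v n) (Y' n).hom (Y n).hom (qTr t U J n) := fun n => IsPullback.of_hasPullback _ _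
  let u' : ∀ n, (Y' n).left ⟶ (Y' (n + 1)).left := fun n =>
    (hv (n + 1)).lift (v n ≫ u n) ((Y' n).hom ≫ tr (tq t J) (Uq U J) n.le_succ) (by
      rw [Category.assoc, (hu n).w, reassoc_of% (hv n).w, qTr_tr, Category.assoc])
  refine ⟨Y', u', v, fun n => ?_, fun n => (hv n).paste_vert (isPullback_qTr t U J n), fun n => IsPullback.lift_fst _ _ _ _⟩
  refine IsPullback.of_right (h₁₂ := v (n + 1)) ?_ (IsPullback.lift_snd _ _ _ _) (hv (n + 1))
  rw [IsPullback.lift_fst, ← qTr_tr]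
  exact (hv n).paste_horiz (hu n)

end Groth.ParaLift82
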