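import Groth.Agent.S11185
import Groth.Agent.DualCore.FiniteMap
import Groth.Agent.LocCohBase.DepthTower
import Groth.Agent.Calg1.BEConverse
import Groth.Agent.Ega4Algebra1.CatenaryDim
import Groth.Agent.Calg4.RegularStalk

/-!
# Quotients of regular local rings; depth bounds from the one-dimensional primes
-/

set_option autoImplicit false
universe u

open CategoryTheory IsLocalRing
attribute [local instance] HasDerivedCategory.standard

namespace Groth.ParaLift82

theorem exists_isDualizing_of_regular_surj (R A : Type u) [CommRing R] [IsRegularLocalRing R] [CommRing A]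
    [IsNoetherianRing A] (φ : R →+* A) (hφ : Function.Surjective φ) : ∃ ω : Dual.D A, Dual.IsDualizing A ω := by
  letI : Algebra R A := φ.toAlgebra
  have : IsRegularRing R := Groth.Calg4.isRegularRing_of_local R
  have : Module.Finite R A := Module.Finite.of_surjective (Algebra.linearMap R A) hφ
  exact Groth.DualCore.exists_isDualizing_finite A (Groth.Agent.S11185.result R
    (fun p => IsRegularRing.isRegularLocalRing_localization p.asIdeal) ringKrullDim_lt_top)

variable {A : Type u} [CommRing A] [IsLocalRing A] [IsNoetherianRing A]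

/-- Above a nonmaximal prime containing a given element of the maximal ideal or not, a prime of coheight one:
`depth A_q ≤ depth A_p + dim A/p - 1`. -/
theorem depth_add_dim_gt_of_ones {k : ℕ} (p : Ideal A) [p.IsPrime] (hp : p ≠ maximalIdeal A)
    (h : ∀ q : Ideal A, ∀ _ : q.IsPrime, p ≤ q → ringKrullDim (A ⧸ q) = 1 →
      (k : ℕ∞) ≤ LocCoh.depth (Localization.AtPrime q) (Localization.AtPrime q)) :
    (k : WithBot ℕ∞) < (LocCoh.depth (Localization.AtPrime p) (Localization.AtPrime p) : WithBot ℕ∞) +
      ringKrullDim (A ⧸ p) := by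
  let x : PrimeSpectrum A := ⟨p, inferInstance⟩
  obtain ⟨s, hhead, hlen, hlast, hsat⟩ := Ega4Algebra1.exists_saturated_series A x
  obtain ⟨m, hm⟩ : ∃ m, s.length = m + 1 := by
    refine ⟨s.length - 1, ?_⟩
    rcases Nat.eq_zero_or_pos s.length with h0 | h0
    · refine absurd ?_ hp
      have h1 : s.head = s.last := congrArg s.toFun (Fin.ext (by simp [h0]))
      exact congrArg PrimeSpectrum.asIdeal (hhead.symm.trans (h1.trans hlast))
    · omega
  let q : PrimeSpectrum A := s ⟨m, by omega⟩
  have hxq : x ≤ q := hhead ▸ s.monotone (Fin.zero_le _)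
  have hcov : q ⋖ IsLocalRing.closedPoint A := by
    have h1 := hsat ⟨m, by omega⟩
    rwa [show s (Fin.succ ⟨m, by omega⟩) = IsLocalRing.closedPoint A from
      (congrArg s.toFun (Fin.ext (by simp [hm]))).trans hlast] at h1
  have hq1 : ringKrullDim (A ⧸ q.asIdeal) = 1 := by
    rw [Ega4Algebra1.ringKrullDim_quotient_eq_coheight A q]
    have h2 : Order.coheight (IsLocalRing.closedPoint A) = 0 := Order.coheight_eq_zero.2 fun z _ =>
      IsLocalRing.le_maximalIdeal z.isPrime.ne_top
    have h3 : Order.coheight q ≤ 1 := Order.coheight_le_iff'.2 fun l hl => by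
      by_contra hc
      rw [not_le] at hc
      have h4 : 2 ≤ l.length := by exact_mod_cast Order.add_one_le_of_lt hc
      have h5 : l ⟨1, by omega⟩ < IsLocalRing.closedPoint A :=
        lt_of_lt_of_le (l.strictMono (Fin.mk_lt_mk.2 (show 1 < 2 by omega) : (⟨1, by omega⟩ : Fin (l.length + 1)) < ⟨2, by omega⟩))
          (IsLocalRing.le_maximalIdeal (l ⟨2, by omega⟩).isPrime.ne_top)
      exact hcov.2 (hl ▸ l.strictMono (Fin.mk_lt_mk.2 Nat.one_pos : (0 : Fin (l.length + 1)) < ⟨1, by omega⟩)) h5
    have h6 : (1 : ℕ∞) ≤ Order.coheight q := by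
      have := Order.coheight_add_one_le hcov.lt
      rwa [h2, zero_add] at this
    exact congrArg (WithBot.some) (le_antisymm h3 h6)
  have hd := h q.asIdeal q.isPrime hxq hq1
  have hb := LocCohBase.depth_le_depth_add_height x q hxq (e := m) ?_ A
  · rw [Calg1.BE.depth_localizedModule_self, Calg1.BE.depth_localizedModule_self] at hb
    rw [Ega4Algebra1.ringKrullDim_quotient_eq_coheight A x, ← hlen, hm]
    obtain hT | ⟨d, hdv⟩ : LocCoh.depth (Localization.AtPrime p) (Localization.AtPrime p) = ⊤ ∨
        ∃ d : ℕ, LocCoh.depth (Localization.AtPrime p) (Localization.AtPrime p) = d := by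
      rcases eq_or_ne (LocCoh.depth (Localization.AtPrime p) (Localization.AtPrime p)) ⊤ with h | h
      · exact Or.inl h
      · exact Or.inr ⟨_, (ENat.natCast_toNat h).symm⟩
    · rw [hT]
      exact lt_of_lt_of_le (show (k : WithBot ℕ∞) < ((⊤ : ℕ∞) : WithBot ℕ∞) from WithBot.coe_lt_coe.2 (ENat.natCast_lt_top k))
        (le_add_of_nonneg_right (WithBot.coe_le_coe.2 zero_le'))
    · rw [hdv]
      have h7 : (k : ℕ∞) ≤ (d : ℕ∞) + (m : ℕ∞) := hdv ▸ hd.trans hb
      rw [← Nat.cast_add, Nat.cast_le] at h7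
      show ((k : ℕ) : WithBot ℕ∞) < ((d : ℕ) : WithBot ℕ∞) + (((m + 1 : ℕ) : ℕ) : WithBot ℕ∞)
      rw [← Nat.cast_add, Nat.cast_lt]
      omega
  · refine (LocCohBase.height_Ici_le_height_map x q hxq).trans ?_
    have hqp : (Ideal.map (Ideal.Quotient.mk x.asIdeal) q.asIdeal).IsPrime :=
      Ideal.map_isPrime_of_surjective Ideal.Quotient.mk_surjective (by rw [Ideal.mk_ker]; exact hxq)
    have : IsLocalRing (A ⧸ x.asIdeal) := IsLocalRing.of_surjective' _ Ideal.Quotient.mk_surjective
    have hlt : Ideal.map (Ideal.Quotient.mk x.asIdeal) q.asIdeal < maximalIdeal (A ⧸ x.asIdeal) := by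
      refine lt_of_le_of_ne (le_maximalIdeal hqp.ne_top) fun e => hcov.lt.ne (PrimeSpectrum.ext ?_)
      have h8 := congrArg (Ideal.comap (Ideal.Quotient.mk x.asIdeal)) e
      rw [Ideal.comap_map_of_surjective' _ Ideal.Quotient.mk_surjective, Ideal.mk_ker, sup_eq_left.2 hxq] at h8
      refine h8.trans (IsLocalRing.eq_maximalIdeal ?_)
      exact Ideal.comap_isMaximal_of_surjective _ Ideal.Quotient.mk_surjective
    have h9 := Ideal.height_add_one_le_of_lt_of_isPrime hlt
    have h10 : (maximalIdeal (A ⧸ x.asIdeal)).height ≤ ((m + 1 : ℕ) : ℕ∞) := by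
      have := IsLocalRing.maximalIdeal_height_eq_ringKrullDim (R := A ⧸ x.asIdeal)
      rw [Ega4Algebra1.ringKrullDim_quotient_eq_coheight A x, ← hlen, hm] at this
      exact le_of_eq (WithBot.coe_inj.1 this)
    have h11 := h9.trans h10
    rw [Nat.cast_add, Nat.cast_one] at h11
    exact (ENat.add_le_add_iff_right ENat.one_ne_top).1 h11

end Groth.ParaLift82
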