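import Groth.Agent.ParaLift82.FormalSys

/-!
# Multiplication maps between arbitrary levels of a formal system
-/

set_option autoImplicit false
universe u v w

namespace Groth.ParaLift82

variable {B : Type u} [CommRing B] {ι : Type v} [Finite ι] {g : ι → B} {t : B}

namespace FormalSys

variable {M : ℕ → Type w} [∀ n, AddCommGroup (M n)] [∀ n, Module B (M n)] (S : FormalSys g t M)

/-- Multiplication by a power of `t` from level `m` up to level `N`. -/
noncomputable def up {m N : ℕ} (h : m ≤ N) : M m →ₗ[B] M N :=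
  Nat.leRec (motive := fun N _ => M m →ₗ[B] M N) LinearMap.id (fun k _ f => S.T k ∘ₗ f) h

theorem up_self {m : ℕ} (x : M m) : S.up (le_refl m) x = x := by simp [up, Nat.leRec_self]

theorem up_succ {m N : ℕ} (h : m ≤ N) (x : M m) : S.up (h.trans N.le_succ) x = S.T N (S.up h x) := by
  simp [up, Nat.leRec_succ _ _ h]

theorem up_injective {m N : ℕ} (h : m ≤ N) : Function.Injective (S.up h) := by
  induction N, h using Nat.le_induction with
  | base => intro x y e; rwa [S.up_self, S.up_self] at e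
  | succ N hN ih =>
    intro x y e
    rw [S.up_succ hN, S.up_succ hN] at e
    exact ih (S.T_injective N e)

theorem up_proj {m N : ℕ} (h : m ≤ N) (z : M N) : S.up h (S.proj h z) = t ^ (N - m) • z := by
  induction N, h using Nat.le_induction with
  | base => rw [S.proj_self, S.up_self, Nat.sub_self, pow_zero, one_smul]
  | succ N hN ih =>
    rw [S.up_succ hN, S.proj_succ hN, ih, map_smul, S.T_ρ, smul_smul, ← pow_succ, Nat.succ_sub hN]

theorem proj_up {m N : ℕ} (h : m ≤ N) (x : M m) : S.proj h (S.up h x) = t ^ (N - m) • x := by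
  induction N, h using Nat.le_induction with
  | base => rw [S.up_self, S.proj_self, Nat.sub_self, pow_zero, one_smul]
  | succ N hN ih =>
    rw [S.proj_succ hN, S.up_succ hN, S.ρ_T, map_smul, ih, smul_smul, ← pow_succ', Nat.succ_sub hN]

theorem surj_proj {m N : ℕ} (h : m ≤ N) (a : ι) (x : M m) :
    ∃ (k : ℕ) (z : M N), S.proj h z = g a ^ k • x := by
  induction N, h using Nat.le_induction with
  | base => exact ⟨0, x, by simp [S.proj_self]⟩
  | succ N hN ih =>
    obtain ⟨k, v, hv⟩ := ih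
    obtain ⟨k', w, hw⟩ := S.surj N a v
    exact ⟨k' + k, w, by rw [S.proj_succ hN, hw, map_smul, hv, smul_smul, pow_add]⟩

theorem ker_proj {l N : ℕ} (h : l ≤ N) (y : M N) (hy : S.proj h y = 0) (a : ι) :
    ∃ (k : ℕ) (z : M N), g a ^ k • y = t ^ (l + 1) • z := by
  induction N, h using Nat.le_induction with
  | base => exact ⟨0, 0, by rw [S.proj_self] at hy; simp [hy]⟩
  | succ N hN ih =>
    rw [S.proj_succ hN] at hy
    obtain ⟨k, z, hz⟩ := ih _ hy
    obtain ⟨k', w, hw⟩ := S.surj N a z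
    have h0 : S.ρ N (g a ^ (k' + k) • y - t ^ (l + 1) • w) = 0 := by
      rw [map_sub, map_smul, map_smul, hw, pow_add, mul_smul, hz, smul_comm, sub_self]
    obtain ⟨k'', v, hv⟩ := S.ker N a _ h0
    rw [smul_sub, sub_eq_iff_eq_add] at hv
    refine ⟨k'' + (k' + k), t ^ (N - l) • v + g a ^ k'' • w, ?_⟩
    rw [pow_add, mul_smul, hv, smul_add, smul_comm (g a ^ k'') (t ^ (l + 1)), smul_smul (t ^ (l + 1)) (t ^ (N - l)), ← pow_add,
      show l + 1 + (N - l) = N + 1 by omega]

/-- Projections commute with the maps going up. -/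
theorem proj_up_comm {m m' N N' : ℕ} (h₁ : m ≤ m') (h₂ : m' ≤ N') (h₃ : m ≤ N) (h₄ : N ≤ N')
    (e : N - m = N' - m') (x : M m') : S.proj h₄ (S.up h₂ x) = S.up h₃ (S.proj h₁ x) := by
  refine sub_eq_zero.1 ((S.sat N).sep _ fun a => ?_)
  obtain ⟨k, z, hz⟩ := S.surj_proj h₂ a x
  refine ⟨k, ?_⟩
  rw [smul_sub, ← map_smul, ← map_smul, ← map_smul, ← map_smul, ← hz, S.up_proj, S.proj_proj h₁ h₂,
    ← S.proj_proj h₃ h₄, S.up_proj, map_smul, e, sub_self]

/-- A projection of a map going up is a multiple of a map going up. -/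
theorem proj_up_of_le {m N N' : ℕ} (h₃ : m ≤ N) (h₄ : N ≤ N') (x : M m) :
    S.proj h₄ (S.up (h₃.trans h₄) x) = t ^ (N' - N) • S.up h₃ x := by
  refine sub_eq_zero.1 ((S.sat N).sep _ fun a => ?_)
  obtain ⟨k, z, hz⟩ := S.surj_proj (h₃.trans h₄) a x
  refine ⟨k, ?_⟩
  rw [smul_sub, ← map_smul, ← map_smul, smul_comm, ← map_smul, ← hz, S.up_proj, map_smul,
    ← S.proj_proj h₃ h₄, S.up_proj, smul_smul, ← pow_add, show N' - N + (N - m) = N' - m by omega, sub_self]

theorem proj_limProj {m N : ℕ} (h : m ≤ N) (x : S.lim) : S.proj h (S.limProj N x) = S.limProj m x := by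
  induction N, h using Nat.le_induction with
  | base => rw [S.proj_self]
  | succ N hN ih => rw [S.proj_succ hN, S.ρ_limProj, ih]

theorem mem_range_up_iff (m l : ℕ) (y : M (m + (l + 1))) :
    S.proj (show l ≤ m + (l + 1) by omega) y = 0 ↔ y ∈ LinearMap.range (S.up (Nat.le_add_right m (l + 1))) := by
  constructor
  · intro hy
    refine Sat.mem_range (S.sat m) (S.sat _) _ (S.up_injective _) fun a => ?_
    obtain ⟨k, z, hz⟩ := S.ker_proj _ y hy a
    exact ⟨k, S.proj (Nat.le_add_right m (l + 1)) z, by rw [S.up_proj, Nat.add_sub_cancel_left, hz]⟩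
  · rintro ⟨x, rfl⟩
    refine (S.sat l).sep _ fun a => ?_
    obtain ⟨k, z, hz⟩ := S.surj_proj (Nat.le_add_right m (l + 1)) a x
    exact ⟨k, by rw [← map_smul, ← map_smul, ← hz, S.up_proj, Nat.add_sub_cancel_left, map_smul, S.kill]⟩

end FormalSys

end Groth.ParaLift82
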